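import Mathlib.LinearAlgebra.CliffordAlgebra.Contraction
import Mathlib.LinearAlgebra.CliffordAlgebra.Grading
import Mathlib.LinearAlgebra.ExteriorAlgebra.Basic
import Mathlib.LinearAlgebra.QuadraticForm.Basis
import Mathlib.LinearAlgebra.Dimension.Finrank
import Groth.Prelude.Def_QuadGrp

/-!
# Contractions detect the scalars in a Clifford algebra

`ι_mul_sub_involute_mul`: `ι x * z - involute z * ι x` is the contraction with the polar functional of `x`.
`contract_zero_mem_line`, `contract_zero_mem_range`: what all coordinate contractions kill.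
-/

set_option autoImplicit false
universe u v

open CliffordAlgebra

namespace Groth.Agent.CliffStr

variable {R : Type u} [CommRing R] {M : Type v} [AddCommGroup M] [Module R M] {Q : QuadraticForm R M}

/-- The polar functional of a vector. -/
noncomputable abbrev pol (Q : QuadraticForm R M) (x : M) : Module.Dual R M := QuadraticMap.polarBilin Q x

theorem pol_apply (x y : M) : pol Q x y = QuadraticMap.polar Q x y := rfl

theorem ι_swap (x y : M) :
    ι Q x * ι Q y = algebraMap R _ (QuadraticMap.polar Q x y) - ι Q y * ι Q x := by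
  rw [eq_sub_iff_add_eq, ι_mul_ι_add_swap]

/-- Graded commutators with vectors are contractions. -/
theorem ι_mul_sub_involute_mul (x : M) (z : CliffordAlgebra Q) :
    ι Q x * z - involute z * ι Q x = contractLeft (pol Q x) z := by
  induction z using CliffordAlgebra.left_induction with
  | algebraMap r => rw [contractLeft_algebraMap, AlgHom.commutes, ← Algebra.commutes, sub_self]
  | add a b ha hb =>
    rw [map_add (contractLeft (pol Q x)), ← ha, ← hb, mul_add, map_add involute, add_mul, add_sub_add_comm]
  | ι_mul a m ha =>
    rw [contractLeft_ι_mul, ← ha, ← mul_assoc, ι_swap x m, map_mul, involute_ι, sub_mul, ← Algebra.smul_def,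
      pol_apply, mul_sub]
    simp only [mul_assoc, neg_mul, sub_neg_eq_add]
    abel

theorem contract_eq_of_even {x : M} {z : CliffordAlgebra Q} (hz : z ∈ evenOdd Q 0) :
    contractLeft (pol Q x) z = ι Q x * z - z * ι Q x := by
  rw [← ι_mul_sub_involute_mul, involute_eq_of_mem_even hz]

section exterior

/-- The projection killing a coordinate. -/
noncomputable def killOne (d : Module.Dual R M) (v : M) : M →ₗ[R] M := LinearMap.id - d.smulRight v

theorem map_killOne_eq {d : Module.Dual R M} {v : M} (hd : d v = 1) (y : ExteriorAlgebra R M) :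
    ExteriorAlgebra.map (killOne d v) y =
      contractLeft (Q := (0 : QuadraticForm R M)) d (ExteriorAlgebra.ι R v * y) := by
  rw [show ExteriorAlgebra.ι R v * y = ι (0 : QuadraticForm R M) v * y from rfl, contractLeft_ι_mul, hd, one_smul]
  induction y using CliffordAlgebra.left_induction with
  | algebraMap r => rw [contractLeft_algebraMap, mul_zero, sub_zero]; exact AlgHom.commutes _ r
  | add a b ha hb =>
    rw [map_add (contractLeft d), mul_add, add_sub_add_comm, ← ha, ← hb]
    exact map_add (ExteriorAlgebra.map (killOne d v)) a b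
  | ι_mul a m ha =>
    refine (map_mul (ExteriorAlgebra.map (killOne d v)) (ExteriorAlgebra.ι R m) a).trans ?_
    rw [ExteriorAlgebra.map_apply_ι, ha, killOne, LinearMap.sub_apply, LinearMap.id_apply, LinearMap.smulRight_apply,
      map_sub, map_smul, contractLeft_ι_mul]
    show (ι (0 : QuadraticForm R M) m - d m • ι (0 : QuadraticForm R M) v) *
        (a - ι (0 : QuadraticForm R M) v * contractLeft d a) = _
    have hvv : ι (0 : QuadraticForm R M) v * ι (0 : QuadraticForm R M) v = 0 := by
      rw [ι_sq_scalar]; simp
    have hswap : ι (0 : QuadraticForm R M) v * ι (0 : QuadraticForm R M) m =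
        -(ι (0 : QuadraticForm R M) m * ι (0 : QuadraticForm R M) v) := by
      rw [ι_swap]; simp [QuadraticMap.polar]
    rw [sub_mul, mul_sub, mul_sub, smul_mul_assoc, smul_mul_assoc, ← mul_assoc (ι _ v) (ι _ v), hvv, zero_mul,
      smul_zero, sub_zero, mul_sub, mul_smul_comm, ← mul_assoc (ι _ v) (ι _ m), hswap, neg_mul, mul_assoc, sub_neg_eq_add]
    abel

theorem eq_map_killOne {d : Module.Dual R M} {v : M} (hd : d v = 1) {y : ExteriorAlgebra R M}
    (hy : contractLeft (Q := (0 : QuadraticForm R M)) d y = 0) : ExteriorAlgebra.map (killOne d v) y = y := by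
  rw [map_killOne_eq hd, show ExteriorAlgebra.ι R v * y = ι (0 : QuadraticForm R M) v * y from rfl,
    contractLeft_ι_mul, hd, one_smul, hy, mul_zero, sub_zero]

variable {n : ℕ} (b : Module.Basis (Fin n) R M)

/-- The projection killing a set of coordinates. -/
noncomputable def killSet (s : Finset (Fin n)) : M →ₗ[R] M :=
  LinearMap.id - ∑ i ∈ s, (b.coord i).smulRight (b i)

theorem coord_killSet {s : Finset (Fin n)} {i : Fin n} (hi : i ∉ s) (m : M) :
    b.coord i (killSet b s m) = b.coord i m := by
  rw [killSet, LinearMap.sub_apply, LinearMap.id_apply, LinearMap.sum_apply, map_sub, map_sum,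
    Finset.sum_eq_zero, sub_zero]
  intro j hj
  rw [LinearMap.smulRight_apply, map_smul, Module.Basis.coord_apply b i (b j), b.repr_self,
    Finsupp.single_eq_of_ne (fun h => hi (by rw [h]; exact hj)), smul_zero]

theorem eq_map_killSet {s : Finset (Fin n)} {y : ExteriorAlgebra R M}
    (hy : ∀ i ∈ s, contractLeft (Q := (0 : QuadraticForm R M)) (b.coord i) y = 0) :
    ExteriorAlgebra.map (killSet b s) y = y := by
  classical
  induction s using Finset.induction_on with
  | empty => simp [killSet]
  | insert i s hi ih =>
    have hcomp : killSet b (insert i s) = (killOne (b.coord i) (b i)).comp (killSet b s) := by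
      ext m
      rw [LinearMap.comp_apply, killOne, LinearMap.sub_apply, LinearMap.id_apply, LinearMap.smulRight_apply,
        coord_killSet b hi, killSet, Finset.sum_insert hi, killSet]
      simp only [LinearMap.sub_apply, LinearMap.add_apply, LinearMap.id_apply, LinearMap.smulRight_apply]
      abel
    rw [hcomp, ← ExteriorAlgebra.map_comp_map, AlgHom.comp_apply,
      ih fun j hj => hy j (Finset.mem_insert_of_mem hj),
      eq_map_killOne (by simp) (hy i (Finset.mem_insert_self i s))]

theorem map_line (f : Module.Dual R M) (v : M) (y : ExteriorAlgebra R M) :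
    ∃ r s : R, ExteriorAlgebra.map (f.smulRight v) y = algebraMap R _ r + s • ExteriorAlgebra.ι R v := by
  induction y using CliffordAlgebra.left_induction with
  | algebraMap r => exact ⟨r, 0, by rw [zero_smul, add_zero]; exact AlgHom.commutes _ r⟩
  | add a b ha hb =>
    obtain ⟨r, s, h1⟩ := ha
    obtain ⟨r', s', h2⟩ := hb
    refine ⟨r + r', s + s', (map_add (ExteriorAlgebra.map (f.smulRight v)) a b).trans ?_⟩
    rw [h1, h2, map_add, add_smul]
    abel
  | ι_mul a m ha =>
    obtain ⟨r, s, h1⟩ := ha
    refine ⟨0, f m * r, (map_mul (ExteriorAlgebra.map (f.smulRight v)) (ExteriorAlgebra.ι R m) a).trans ?_⟩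
    rw [ExteriorAlgebra.map_apply_ι, h1, LinearMap.smulRight_apply, map_smul, smul_mul_assoc, mul_add,
      mul_smul_comm, ExteriorAlgebra.ι_sq_zero, smul_zero, add_zero, ← Algebra.commutes, ← Algebra.smul_def,
      smul_smul, map_zero, zero_add]

theorem map_zero_map (y : ExteriorAlgebra R M) :
    ∃ r : R, ExteriorAlgebra.map (0 : M →ₗ[R] M) y = algebraMap R _ r := by
  induction y using CliffordAlgebra.left_induction with
  | algebraMap r => exact ⟨r, AlgHom.commutes _ r⟩
  | add a b ha hb =>
    obtain ⟨r, h1⟩ := ha
    obtain ⟨r', h2⟩ := hb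
    exact ⟨r + r', by rw [map_add (algebraMap R _), ← h1, ← h2]; exact map_add (ExteriorAlgebra.map (0 : M →ₗ[R] M)) a b⟩
  | ι_mul a m ha =>
    refine ⟨0, (map_mul (ExteriorAlgebra.map (0 : M →ₗ[R] M)) (ExteriorAlgebra.ι R m) a).trans ?_⟩
    rw [ExteriorAlgebra.map_apply_ι, LinearMap.zero_apply, map_zero, zero_mul, map_zero]

theorem killSet_univ : killSet b Finset.univ = 0 := by
  ext m
  simp [killSet, b.sum_repr m]

theorem killSet_erase (j : Fin n) : killSet b (Finset.univ.erase j) = (b.coord j).smulRight (b j) := by
  ext m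
  have h := congrArg (fun f : M →ₗ[R] M => f m) (killSet_univ b)
  simp only [killSet, ← Finset.add_sum_erase _ _ (Finset.mem_univ j), LinearMap.sub_apply, LinearMap.add_apply,
    LinearMap.zero_apply] at h ⊢
  rw [← sub_eq_zero, sub_sub, add_comm _ ((b.coord j).smulRight (b j) m)]
  exact h

end exterior

section clifford

variable (Q) in
/-- A bilinear form turning `Q` into the zero form. -/
theorem exists_toExterior [Module.Free R M] :
    ∃ B : LinearMap.BilinForm R M, B.toQuadraticMap = (0 : QuadraticForm R M) - Q :=
  LinearMap.BilinMap.toQuadraticMap_surjective _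

variable {n : ℕ} (b : Module.Basis (Fin n) R M)

include b in
/-- What all coordinate contractions but one kill lies on a line. -/
theorem contract_zero_mem_line (j : Fin n) {y : CliffordAlgebra Q}
    (hy : ∀ i, i ≠ j → contractLeft (b.coord i) y = 0) :
    ∃ r s : R, y = algebraMap R _ r + s • ι Q (b j) := by
  haveI := Module.Free.of_basis b
  obtain ⟨B, hB⟩ := exists_toExterior Q
  have h : ∀ i ∈ Finset.univ.erase j, contractLeft (b.coord i) (changeForm hB y) = 0 := fun i hi => by
    rw [← changeForm_contractLeft, hy i (Finset.ne_of_mem_erase hi), map_zero]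
  obtain ⟨r, s, hrs⟩ := map_line (b.coord j) (b j) (changeForm hB y)
  rw [← killSet_erase b j, eq_map_killSet b h] at hrs
  refine ⟨r, s, (changeFormEquiv hB).injective ?_⟩
  rw [changeFormEquiv_apply, changeFormEquiv_apply, map_add, changeForm_algebraMap, map_smul, changeForm_ι]
  exact hrs

include b in
/-- What all coordinate contractions kill is a scalar. -/
theorem contract_zero_mem_range {y : CliffordAlgebra Q} (hy : ∀ i, contractLeft (b.coord i) y = 0) :
    ∃ r : R, y = algebraMap R _ r := by
  haveI := Module.Free.of_basis b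
  obtain ⟨B, hB⟩ := exists_toExterior Q
  have h : ∀ i ∈ Finset.univ, contractLeft (b.coord i) (changeForm hB y) = 0 := fun i _ => by
    rw [← changeForm_contractLeft, hy i, map_zero]
  obtain ⟨r, hr⟩ := map_zero_map (changeForm hB y)
  rw [← killSet_univ b, eq_map_killSet b h] at hr
  refine ⟨r, (changeFormEquiv hB).injective ?_⟩
  rw [changeFormEquiv_apply, changeFormEquiv_apply, changeForm_algebraMap]
  exact hr

theorem eq_zero_of_even_of_odd {y : CliffordAlgebra Q} (h0 : y ∈ evenOdd Q 0) (h1 : y ∈ evenOdd Q 1) : y = 0 :=
  (Submodule.mem_bot R).1 ((evenOdd_isCompl (Q := Q)).disjoint.le_bot ⟨h0, h1⟩)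

theorem algebraMap_mem_even (r : R) : algebraMap R (CliffordAlgebra Q) r ∈ evenOdd Q 0 :=
  SetLike.algebraMap_mem_graded (A := evenOdd Q) r

include b in
/-- Supercentral elements of a regular form are scalars. -/
theorem supercentral_mem_range (hQ : QuadGrp.IsRegular Q) {y : CliffordAlgebra Q}
    (hy : ∀ x, ι Q x * y = involute y * ι Q x) : ∃ r : R, y = algebraMap R _ r := by
  refine contract_zero_mem_range b fun i => ?_
  obtain ⟨x, hx⟩ := hQ.2 (b.coord i)
  rw [← hx, show (QuadraticMap.polarBilin Q) x = pol Q x from rfl, ← ι_mul_sub_involute_mul, hy, sub_self]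

include b in
/-- Even elements commuting with all vectors are scalars for a regular form. -/
theorem even_central_mem_range (hQ : QuadGrp.IsRegular Q) {y : CliffordAlgebra Q} (h0 : y ∈ evenOdd Q 0)
    (hy : ∀ x, ι Q x * y = y * ι Q x) : ∃ r : R, y = algebraMap R _ r :=
  supercentral_mem_range b hQ fun x => by rw [involute_eq_of_mem_even h0, hy]

end clifford

end Groth.Agent.CliffStr
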