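import Groth.Agent.CliffStr.Exists

/-!
# Centres of Clifford algebras in the presence of an Arf element
-/

set_option autoImplicit false
universe u v

open CliffordAlgebra

namespace Groth.Agent.CliffStr

variable {R : Type u} [CommRing R] {M : Type v} [AddCommGroup M] [Module R M] {Q : QuadraticForm R M}

theorem algebraMap_inj [Module.Free R M] {r : R} (h : algebraMap R (CliffordAlgebra Q) r = 0) : r = 0 := by
  obtain ⟨B, hB⟩ := exists_toExterior Q
  have h' := congrArg (changeForm hB) h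
  rw [changeForm_algebraMap, map_zero] at h'
  exact (ExteriorAlgebra.algebraMap_eq_zero_iff M r).1 h'

theorem ι_mul_mem_odd (x : M) {y : CliffordAlgebra Q} (hy : y ∈ evenOdd Q 0) : ι Q x * y ∈ evenOdd Q 1 := by
  simpa using SetLike.mul_mem_graded (ι_mem_evenOdd_one Q x) hy

theorem mul_ι_mem_odd (x : M) {y : CliffordAlgebra Q} (hy : y ∈ evenOdd Q 0) : y * ι Q x ∈ evenOdd Q 1 := by
  simpa using SetLike.mul_mem_graded hy (ι_mem_evenOdd_one Q x)

theorem exists_even_odd (y : CliffordAlgebra Q) :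
    ∃ y₀ ∈ evenOdd Q 0, ∃ y₁ ∈ evenOdd Q 1, y₀ + y₁ = y :=
  Submodule.mem_sup.1 ((evenOdd_isCompl (Q := Q)).sup_eq_top.ge Submodule.mem_top)

theorem eq_zero_of_add_eq_zero {a b : CliffordAlgebra Q} (ha : a ∈ evenOdd Q 0) (hb : b ∈ evenOdd Q 1)
    (h : a + b = 0) : a = 0 ∧ b = 0 := by
  have h1 : a = 0 := eq_zero_of_even_of_odd ha (by rw [eq_neg_of_add_eq_zero_left h]; exact neg_mem hb)
  exact ⟨h1, by rwa [h1, zero_add] at h⟩

/-- Both homogeneous parts of a central element are central. -/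
theorem central_parts {y y₀ y₁ : CliffordAlgebra Q} (h0 : y₀ ∈ evenOdd Q 0) (h1 : y₁ ∈ evenOdd Q 1)
    (hy : y₀ + y₁ = y) (hc : ∀ x, ι Q x * y = y * ι Q x) (x : M) :
    ι Q x * y₀ = y₀ * ι Q x ∧ ι Q x * y₁ = y₁ * ι Q x := by
  have he : ∀ {a : CliffordAlgebra Q}, a ∈ evenOdd Q 1 → ι Q x * a ∈ evenOdd Q 0 ∧ a * ι Q x ∈ evenOdd Q 0 :=
    fun {a} ha => ⟨by simpa [show (1 : ZMod 2) + 1 = 0 from rfl] using SetLike.mul_mem_graded (ι_mem_evenOdd_one Q x) ha,
      by simpa [show (1 : ZMod 2) + 1 = 0 from rfl] using SetLike.mul_mem_graded ha (ι_mem_evenOdd_one Q x)⟩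
  have h := hc x
  rw [← hy, mul_add, add_mul, ← sub_eq_zero, add_sub_add_comm, add_comm] at h
  obtain ⟨e1, e0⟩ := eq_zero_of_add_eq_zero (sub_mem (he h1).1 (he h1).2)
    (sub_mem (ι_mul_mem_odd x h0) (mul_ι_mem_odd x h0)) h
  exact ⟨sub_eq_zero.1 e0, sub_eq_zero.1 e1⟩

theorem mem_center_iff (y : CliffordAlgebra Q) :
    y ∈ Subalgebra.center R (CliffordAlgebra Q) ↔ ∀ x, ι Q x * y = y * ι Q x := by
  refine ⟨fun h x => (Subalgebra.mem_center_iff.1 h _), fun h => Subalgebra.mem_center_iff.2 fun a => ?_⟩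
  induction a using CliffordAlgebra.induction with
  | algebraMap r => exact Algebra.commutes r y
  | ι x => exact h x
  | mul a b ha hb => rw [mul_assoc, hb, ← mul_assoc, ha, mul_assoc]
  | add a b ha hb => rw [add_mul, mul_add, ha, hb]

section even

variable {z : CliffordAlgebra Q} (h : Arf Q ⊤ z)

include h in
theorem z_mul_ι (x : M) : z * ι Q x = ι Q x * (1 - z) := by
  rw [mul_sub, mul_one, h.on x trivial, sub_mul, one_mul, sub_sub_cancel]

include h in
/-- The Arf element is central in the even subalgebra. -/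
theorem z_commute_even {y : CliffordAlgebra Q} (hy : y ∈ evenOdd Q 0) : y * z = z * y := by
  induction y, hy using CliffordAlgebra.even_induction with
  | algebraMap r => exact Algebra.commutes r z
  | add a b _ _ ha hb => rw [add_mul, mul_add, ha, hb]
  | ι_mul_ι_mul m₁ m₂ a _ ha =>
    rw [mul_assoc (ι Q m₁ * ι Q m₂), ha, ← mul_assoc _ z a, ← mul_assoc z (ι Q m₁ * ι Q m₂)]
    congr 1
    rw [mul_assoc, h.on m₂ trivial, ← mul_assoc, ← z_mul_ι h, mul_assoc]

include h in
theorem z_swap_odd {y : CliffordAlgebra Q} (hy : y ∈ evenOdd Q 1) : y * z = (1 - z) * y := by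
  induction y, hy using CliffordAlgebra.odd_induction with
  | ι x => exact h.on x trivial
  | add a b _ _ ha hb => rw [add_mul, mul_add, ha, hb]
  | ι_mul_ι_mul m₁ m₂ a _ ha =>
    rw [mul_assoc (ι Q m₁ * ι Q m₂), ha, ← mul_assoc, mul_assoc (ι Q m₁), mul_sub, mul_one, h.on m₂ trivial,
      sub_mul, one_mul, sub_sub_cancel, ← mul_assoc (ι Q m₁), h.on m₁ trivial, mul_assoc (1 - z)]
    noncomm_ring

variable {n : ℕ} (b : Module.Basis (Fin n) R M) (hQ : QuadGrp.IsRegular Q)

include h b hQ in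
/-- The centre of the even Clifford algebra of a regular form with an Arf element. -/
theorem even_centre (hne : 0 < n) {y : CliffordAlgebra Q} (h0 : y ∈ evenOdd Q 0)
    (hy : ∀ x x' : M, ι Q x * ι Q x' * y = y * (ι Q x * ι Q x')) :
    ∃ a c : R, y = algebraMap R _ a + c • z := by
  obtain ⟨w', hw'⟩ := (isUnit_w h)
  let δ : M → CliffordAlgebra Q := fun x => ι Q x * y - y * ι Q x
  have hδ : ∀ x x' : M, δ x * ι Q x' + ι Q x * δ x' = 0 := fun x x' => by
    simp only [δ, sub_mul, mul_sub, ← mul_assoc]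
    rw [hy, ← mul_assoc]
    abel
  let ε : M → CliffordAlgebra Q := fun x => ↑w'⁻¹ * δ x
  have hwx : ∀ x, (w' : CliffordAlgebra Q) * ι Q x = -(ι Q x * w') := fun x => by
    have e1 := h.on x trivial
    rw [hw', mul_sub, mul_one, two_mul, mul_add, e1]
    noncomm_ring
  have hwx' : ∀ x, ι Q x * (↑w'⁻¹ : CliffordAlgebra Q) = -(↑w'⁻¹ * ι Q x) := fun x => by
    have := congrArg (fun a => (↑w'⁻¹ : CliffordAlgebra Q) * a * ↑w'⁻¹) (hwx x)
    simp only [mul_neg, neg_mul, mul_assoc, Units.mul_inv, mul_one, Units.inv_mul_cancel_left] at this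
    exact this
  have hε : ∀ x x' : M, ε x * ι Q x' = ι Q x * ε x' := fun x x' => by
    have h1 := hδ x x'
    rw [eq_neg_iff_add_eq_zero.symm] at h1
    simp only [ε]
    rw [mul_assoc, h1, ← mul_assoc (ι Q x), hwx' x, mul_neg, neg_mul, mul_assoc]
  obtain ⟨u, hu⟩ := hQ.2 (b.coord ⟨0, hne⟩)
  let v := b ⟨0, hne⟩
  have huv : ι Q u * ι Q v + ι Q v * ι Q u = 1 := by
    rw [ι_mul_ι_add_swap, show QuadraticMap.polar Q u v = 1 from (LinearMap.congr_fun hu v).trans (by simp [v]),
      map_one]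
  let β := ε u * ι Q v + ε v * ι Q u
  have hεβ : ∀ x, ε x = ι Q x * β := fun x => by
    show ε x = ι Q x * (ε u * ι Q v + ε v * ι Q u)
    rw [mul_add, ← mul_assoc (ι Q x) (ε u), ← mul_assoc (ι Q x) (ε v), ← hε x u, ← hε x v, mul_assoc (ε x),
      mul_assoc (ε x), ← mul_add, huv, mul_one]
  have hβ : ∀ x', ι Q x' * β = β * ι Q x' := fun x' => by
    have e1 : ∀ x : M, ι Q x * (β * ι Q x' - ι Q x' * β) = 0 := fun x => by
      rw [mul_sub, ← mul_assoc, ← hεβ, hε, hεβ, sub_self]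
    have e2 : (ι Q u * ι Q v + ι Q v * ι Q u) * (β * ι Q x' - ι Q x' * β) = 0 := by
      rw [add_mul, mul_assoc, mul_assoc, e1, e1, mul_zero, mul_zero, add_zero]
    rw [huv, one_mul, sub_eq_zero] at e2
    exact e2.symm
  have hw0 : (↑w'⁻¹ : CliffordAlgebra Q) ∈ evenOdd Q 0 := by
    have hwe : (w' : CliffordAlgebra Q) ∈ evenOdd Q 0 := by
      rw [hw', two_mul]
      exact sub_mem (SetLike.one_mem_graded _) (add_mem h.even h.even)
    exact (QuadGrp.evenUnits Q).inv_mem (show w' ∈ QuadGrp.evenUnits Q from hwe)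
  have hε1 : ∀ x, ε x ∈ evenOdd Q 1 := fun x => by
    simpa [ε, δ] using SetLike.mul_mem_graded hw0 (sub_mem (ι_mul_mem_odd x h0) (mul_ι_mem_odd x h0))
  have hβ0 : β ∈ evenOdd Q 0 :=
    add_mem (by simpa [show (1 : ZMod 2) + 1 = 0 from rfl] using SetLike.mul_mem_graded (hε1 u) (ι_mem_evenOdd_one Q v))
      (by simpa [show (1 : ZMod 2) + 1 = 0 from rfl] using SetLike.mul_mem_graded (hε1 v) (ι_mem_evenOdd_one Q u))
  obtain ⟨c, hc⟩ := even_central_mem_range b hQ hβ0 hβ
  have hδc : ∀ x, δ x = c • ((1 - 2 * z) * ι Q x) := fun x => by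
    have := hεβ x
    rw [hc, ← Algebra.commutes, ← Algebra.smul_def] at this
    calc δ x = (w' : CliffordAlgebra Q) * ε x := (Units.mul_inv_cancel_left _ _).symm
      _ = _ := by rw [this, mul_smul_comm, hw']
  obtain ⟨a, ha⟩ := even_central_mem_range b hQ (sub_mem h0 (Submodule.smul_mem _ c h.even)) fun x => by
    rw [← sub_eq_zero, mul_sub, sub_mul, mul_smul_comm, h.on x trivial, smul_mul_assoc, sub_sub_sub_comm,
      show ι Q x * y - y * ι Q x = δ x from rfl, hδc, ← smul_sub, sub_eq_zero]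
    refine congrArg (c • ·) ?_
    noncomm_ring
  exact ⟨a, c, by rw [← ha, sub_add_cancel]⟩

include h b hQ in
theorem coeffs_unique (hne : 0 < n) {a c : R} (he : algebraMap R (CliffordAlgebra Q) a + c • z = 0) :
    a = 0 ∧ c = 0 := by
  haveI := Module.Free.of_basis b
  obtain ⟨u, hu⟩ := hQ.2 (b.coord ⟨0, hne⟩)
  let v := b ⟨0, hne⟩
  have e1 : ∀ x, c • ((1 - 2 * z) * ι Q x) = 0 := fun x => by
    have h1 := congrArg (fun s => ι Q x * s - s * ι Q x) he
    simp only [mul_add, add_mul, mul_zero, zero_mul, sub_zero, mul_smul_comm, smul_mul_assoc, h.on x trivial,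
      ← Algebra.commutes a (ι Q x)] at h1
    rw [add_sub_add_left_eq_sub, ← smul_sub] at h1
    rw [← h1]
    refine congrArg (c • ·) ?_
    noncomm_ring
  have e2 : ∀ x, c • ι Q x = 0 := fun x => by
    obtain ⟨w', hw'⟩ := isUnit_w h
    have := congrArg ((↑w'⁻¹ : CliffordAlgebra Q) * ·) (e1 x)
    simpa [← hw', mul_smul_comm] using this
  have hc : c = 0 := by
    refine algebraMap_inj (Q := Q) ?_
    rw [Algebra.algebraMap_eq_smul_one, ← map_one (algebraMap R (CliffordAlgebra Q)),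
      ← show QuadraticMap.polar Q u v = 1 from (LinearMap.congr_fun hu v).trans (by simp [v]), ← ι_mul_ι_add_swap,
      smul_add, ← smul_mul_assoc, ← smul_mul_assoc, e2, e2, zero_mul, zero_mul, add_zero]
  refine ⟨algebraMap_inj (Q := Q) ?_, hc⟩
  rwa [hc, zero_smul, add_zero] at he

include h b hQ in
/-- Regular forms of even rank have trivial centre. -/
theorem centre_even {y : CliffordAlgebra Q} (hy : y ∈ Subalgebra.center R (CliffordAlgebra Q)) :
    ∃ r : R, y = algebraMap R _ r := by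
  obtain ⟨y₀, h0, y₁, h1, hy01⟩ := exists_even_odd y
  have hp := central_parts h0 h1 hy01 ((mem_center_iff y).1 hy)
  obtain ⟨r, hr⟩ := even_central_mem_range b hQ h0 fun x => (hp x).1
  have hc : z * y₁ = y₁ * z :=
    Subalgebra.mem_center_iff.1 ((mem_center_iff y₁).2 fun x => (hp x).2) z
  have hz : (1 - 2 * z) * y₁ = 0 := by
    have := z_swap_odd h h1
    rw [← hc, sub_mul, one_mul, eq_sub_iff_add_eq] at this
    rw [sub_mul, one_mul, two_mul, add_mul, this, sub_self]
  exact ⟨r, by rw [← hy01, (isUnit_w h).mul_right_eq_zero.1 hz, add_zero, hr]⟩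

end even

section odd

variable {n : ℕ} {P : Submodule R M} {z : CliffordAlgebra Q} (h : Arf Q P z) {b' : Module.Basis (Fin n) R M}
  {j : Fin n} (hv : b' j ∈ perp Q P) (hvu : IsUnit (Q (b' j))) (hrest : ∀ i, i ≠ j → b' i ∈ P)
  (hline : ∀ w ∈ perp Q P, ∃ a : R, w = a • b' j)

/-- The odd central generator. -/
noncomputable def oddGen (z : CliffordAlgebra Q) (v : M) : CliffordAlgebra Q := (1 - 2 * z) * ι Q v

include h in
theorem oddGen_mem : oddGen z (b' j) ∈ evenOdd Q 1 :=
  mul_ι_mem_odd _ (by rw [two_mul]; exact sub_mem (SetLike.one_mem_graded _) (add_mem h.even h.even))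

include h hv hrest in
theorem oddGen_central (x : M) : ι Q x * oddGen z (b' j) = oddGen z (b' j) * ι Q x := by
  have hb : ∀ i, ι Q (b' i) * oddGen z (b' j) = oddGen z (b' j) * ι Q (b' i) := fun i => by
    rcases eq_or_ne i j with rfl | hi
    · rw [oddGen, ← mul_assoc, mul_sub, mul_one, two_mul, mul_add, h.off _ hv]
      noncomm_ring
    · rw [oddGen, ← mul_assoc, mul_sub, mul_one, two_mul, mul_add, h.on _ (hrest i hi), mul_assoc (1 - (z + z)),
        ι_anticomm (show QuadraticMap.polar Q (b' j) (b' i) = 0 by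
          rw [QuadraticMap.polar_comm]; exact hv _ (hrest i hi))]
      noncomm_ring
  rw [← b'.sum_repr x, map_sum, Finset.sum_mul, Finset.mul_sum]
  exact Finset.sum_congr rfl fun i _ => by rw [map_smul, smul_mul_assoc, mul_smul_comm, hb]

include h hv hvu in
theorem oddGen_sq : ∃ c : R, IsUnit c ∧ oddGen z (b' j) * oddGen z (b' j) = algebraMap R _ c := by
  obtain ⟨c, hc, hcu⟩ := h.sq
  refine ⟨(1 + 4 * c) * Q (b' j), hcu.mul hvu, ?_⟩
  have hzv := h.off _ hv
  calc oddGen z (b' j) * oddGen z (b' j) = (1 - 2 * z) * (ι Q (b' j) * (1 - 2 * z)) * ι Q (b' j) := by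
        rw [oddGen]; simp only [mul_assoc]
    _ = (1 - 2 * z) * (1 - 2 * z) * (ι Q (b' j) * ι Q (b' j)) := by
        rw [mul_sub, mul_one, two_mul, mul_add, hzv, ← add_mul, ← two_mul, ← one_sub_mul]
        simp only [mul_assoc]
    _ = _ := by
        rw [ι_sq_scalar, map_mul, map_add, map_one, map_mul, map_ofNat, sub_mul, one_mul, mul_sub, mul_one,
          show 2 * z * (2 * z) = 4 * (z * z) by noncomm_ring, hc]
        noncomm_ring

include h hv hline in
/-- Even elements commuting with all vectors are scalars. -/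
theorem even_central_odd_rank {y : CliffordAlgebra Q} (h0 : y ∈ evenOdd Q 0) (hy : ∀ x, ι Q x * y = y * ι Q x) :
    ∃ r : R, y = algebraMap R _ r := by
  obtain ⟨r, s, hrs⟩ := contract_zero_mem_line b' j (y := y) fun i hi => by
    obtain ⟨x, -, hx⟩ := h.perf (b'.coord i) fun w hw => by
      obtain ⟨a, rfl⟩ := hline w hw
      simp [Finsupp.single_eq_of_ne hi]
    rw [← hx, contract_eq_of_even h0, hy, sub_self]
  refine ⟨r, ?_⟩
  have hs : s • ι Q (b' j) = 0 := eq_zero_of_even_of_odd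
    (by rw [show s • ι Q (b' j) = y - algebraMap R _ r by rw [hrs]; abel]; exact sub_mem h0 (algebraMap_mem_even r))
    (Submodule.smul_mem _ s (ι_mem_evenOdd_one Q _))
  rw [hrs, hs, add_zero]

include h hv hvu hrest hline in
/-- The centre of a semiregular Clifford algebra of odd rank. -/
theorem centre_odd {y : CliffordAlgebra Q} (hy : y ∈ Subalgebra.center R (CliffordAlgebra Q)) :
    ∃ a s : R, y = algebraMap R _ a + s • oddGen z (b' j) := by
  obtain ⟨y₀, h0, y₁, h1, hy01⟩ := exists_even_odd y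
  have hp := central_parts h0 h1 hy01 ((mem_center_iff y).1 hy)
  obtain ⟨a, ha⟩ := even_central_odd_rank h hv hline h0 fun x => (hp x).1
  obtain ⟨s, hs⟩ := even_central_odd_rank h hv hline (y := y₁ * oddGen z (b' j))
    (by simpa [show (1 : ZMod 2) + 1 = 0 from rfl] using SetLike.mul_mem_graded h1 (oddGen_mem h (b' := b') (j := j)))
    fun x => by rw [← mul_assoc, (hp x).2, mul_assoc, oddGen_central h hv hrest, mul_assoc]
  obtain ⟨c, ⟨u, rfl⟩, hc⟩ := oddGen_sq h hv hvu
  refine ⟨a, s * ↑u⁻¹, ?_⟩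
  rw [← hy01, ha]
  refine congrArg _ ?_
  have h2 := congrArg (fun t => (↑u⁻¹ : R) • (t * oddGen z (b' j))) hs
  simp only [mul_assoc, hc] at h2
  rw [← Algebra.commutes, ← Algebra.smul_def, ← Algebra.smul_def, smul_smul, Units.inv_mul, one_smul, smul_smul] at h2
  rw [h2, mul_comm]

end odd

end Groth.Agent.CliffStr
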