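import Groth.Agent.CliffStr.Map
import Groth.Agent.CliffStr.Centre

/-!
# From localisations of Clifford algebras back to the base
-/

set_option autoImplicit false
universe u v

open CliffordAlgebra TensorProduct

namespace Groth.Agent.CliffStr

variable {R : Type u} [CommRing R] {M : Type v} [AddCommGroup M] [Module R M] [Module.Free R M]
  {Q : QuadraticForm R M} (A : Type u) [CommRing A] [Algebra R A]

local notation "QA" => QuadGrp.baseChangeForm A Q

theorem bcHom_smul (r : R) (x : CliffordAlgebra Q) : bcHom A Q (r • x) = algebraMap R A r • bcHom A Q x := by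
  rw [map_smul, ← IsScalarTower.algebraMap_smul A r (bcHom A Q x)]

theorem bcHom_star (x : CliffordAlgebra Q) : bcHom A Q (star x) = star (bcHom A Q x) := by
  induction x using CliffordAlgebra.induction with
  | algebraMap r => rw [CliffordAlgebra.star_algebraMap, bcHom_algebraMap, CliffordAlgebra.star_algebraMap]
  | ι x => rw [CliffordAlgebra.star_ι, map_neg, bcHom_ι, CliffordAlgebra.star_ι]
  | mul a b ha hb => rw [star_mul, map_mul, map_mul, star_mul, ha, hb]
  | add a b ha hb => rw [star_add, map_add, map_add, star_add, ha, hb]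

/-- A central element stays central after base change. -/
theorem bcHom_center {z : CliffordAlgebra Q} (hz : z ∈ Subalgebra.center R (CliffordAlgebra Q)) :
    bcHom A Q z ∈ Subalgebra.center A (CliffordAlgebra QA) := by
  refine Subalgebra.mem_center_iff.2 fun y => ?_
  rw [← bcTo_bcInv A Q y]
  induction bcInv A Q y using TensorProduct.induction_on with
  | zero => rw [map_zero, zero_mul, mul_zero]
  | add a b ha hb => rw [map_add, add_mul, mul_add, ha, hb]
  | tmul a x => rw [bcTo_tmul, smul_mul_assoc, ← map_mul, Subalgebra.mem_center_iff.1 hz x, map_mul, mul_smul_comm]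

variable [Module.Finite R M] {n : ℕ} (b : Module.Basis (Fin n) R M)

omit [Module.Finite R M] in
theorem coeffs_bcf :
    QuadGrp.coeffs (b.baseChange A) (LinearEquiv.refl A A) QA =
      algebraMap R A ∘ QuadGrp.coeffs b (LinearEquiv.refl R R) Q := by
  funext s
  induction s using Sym2.ind with
  | _ i j =>
    simp only [Function.comp_apply, QuadGrp.coeffs_mk, Module.Basis.baseChange_apply, LinearEquiv.refl_apply]
    split_ifs with h
    · rw [bcf_tmul, one_mul, one_mul]
    · rw [polar_bcf_tmul, one_mul, one_mul]

omit [Module.Finite R M] in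
theorem semiregular_bcf (hQ : QuadGrp.IsSemiregular b (LinearEquiv.refl R R) Q) :
    QuadGrp.IsSemiregular (b.baseChange A) (LinearEquiv.refl A A) QA := by
  show IsUnit (QuadGrp.halfDisc (b.baseChange A) (LinearEquiv.refl A A) QA)
  rw [QuadLib.halfDisc_eq_hd, coeffs_bcf, ← QuadLib.map_hd, ← QuadLib.halfDisc_eq_hd]
  exact hQ.map _

omit [Module.Free R M] [Module.Finite R M] in
theorem isUnit_det_of_regular (hQ : QuadGrp.IsRegular Q) : IsUnit (QuadLib.polarMat b Q).det := by
  choose x hx using fun j => hQ.2 (b.coord j)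
  refine Matrix.isUnit_det_of_left_inverse (B := Matrix.of fun j a => b.repr (x j) a) ?_
  ext j i
  have h := LinearMap.congr_fun (hx j) (b i)
  rw [← b.sum_repr (x j), map_sum, LinearMap.sum_apply, Module.Basis.coord_apply, b.repr_self] at h
  simp only [map_smul, LinearMap.smul_apply, QuadraticMap.polarBilin_apply_apply, smul_eq_mul] at h
  rw [Matrix.mul_apply, Matrix.one_apply]
  simp only [Matrix.of_apply, QuadLib.polarMat]
  rw [h, Finsupp.single_apply]
  simp [eq_comm]

include b in
omit [Module.Finite R M] in
theorem regular_bcf (hQ : QuadGrp.IsRegular Q) : QuadGrp.IsRegular QA := by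
  haveI := Module.Finite.of_basis (b.baseChange A)
  refine isRegular_of_det (b.baseChange A) ?_
  have : QuadLib.polarMat (b.baseChange A) QA = (QuadLib.polarMat b Q).map (algebraMap R A) := by
    ext i j
    simp [QuadLib.polarMat, polar_bcf_tmul]
  rw [this, ← RingHom.mapMatrix_apply, ← RingHom.map_det]
  exact (isUnit_det_of_regular b hQ).map _

omit [Module.Finite R M] in
/-- An element dying in a localisation is killed outside the prime. -/
theorem exists_smul_eq_zero (p : Ideal R) [p.IsPrime] {y : CliffordAlgebra Q}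
    (hy : bcHom (Localization.AtPrime p) Q y = 0) : ∃ s ∉ p, s • y = 0 := by
  have h : (TensorProduct.mk R (Localization.AtPrime p) (CliffordAlgebra Q) 1) y = 0 := by
    refine (bcEquiv (Localization.AtPrime p) Q).injective ?_
    rw [map_zero]
    exact (bcEquiv_one_tmul _ Q y).trans hy
  obtain ⟨s, hs⟩ := (IsLocalizedModule.eq_zero_iff p.primeCompl
    (TensorProduct.mk R (Localization.AtPrime p) (CliffordAlgebra Q) 1)).1 h
  exact ⟨s, s.2, hs⟩

omit [Module.Finite R M] in
/-- An element of a localisation has a denominator. -/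
theorem exists_numerator (p : Ideal R) [p.IsPrime]
    (y : CliffordAlgebra (QuadGrp.baseChangeForm (Localization.AtPrime p) Q)) :
    ∃ s ∉ p, ∃ x : CliffordAlgebra Q, bcHom (Localization.AtPrime p) Q x =
      algebraMap R (Localization.AtPrime p) s • y := by
  obtain ⟨⟨x, s⟩, hs⟩ := IsLocalizedModule.surj p.primeCompl
    (TensorProduct.mk R (Localization.AtPrime p) (CliffordAlgebra Q) 1) (bcInv (Localization.AtPrime p) Q y)
  refine ⟨s, s.2, x, ?_⟩
  have h := congrArg (bcTo (Localization.AtPrime p) Q) hs
  rw [TensorProduct.mk_apply, bcTo_tmul, one_smul, Submonoid.smul_def, ← IsScalarTower.algebraMap_smul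
    (Localization.AtPrime p) (s : R) (bcInv _ Q y), map_smul, bcTo_bcInv] at h
  exact h.symm

omit [Module.Finite R M] in
/-- An element dying in all localisations is zero. -/
theorem eq_zero_of_local {y : CliffordAlgebra Q}
    (h : ∀ (p : Ideal R) [p.IsMaximal], bcHom (Localization.AtPrime p) Q y = 0) : y = 0 := by
  by_contra hy
  obtain ⟨p, hp, hle⟩ := Ideal.exists_le_maximal (Submodule.span R {y}).annihilator (fun htop => hy (by
    have := (Submodule.mem_annihilator_span_singleton _ _).1 (htop ▸ Submodule.mem_top : (1 : R) ∈ _)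
    rwa [one_smul] at this))
  obtain ⟨s, hs, hsy⟩ := exists_smul_eq_zero p (h p)
  exact hs (hle ((Submodule.mem_annihilator_span_singleton _ _).2 hsy))

omit [Module.Finite R M] in
/-- An element that is locally a scalar is a scalar. -/
theorem mem_range_of_local {y : CliffordAlgebra Q}
    (h : ∀ (p : Ideal R) [p.IsMaximal], ∃ a : Localization.AtPrime p, bcHom (Localization.AtPrime p) Q y = algebraMap (Localization.AtPrime p) _ a) :
    ∃ r : R, y = algebraMap R _ r := by
  let I : Ideal R := (LinearMap.range (Algebra.linearMap R (CliffordAlgebra Q))).comap (LinearMap.toSpanSingleton R _ y)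
  by_contra hcon
  obtain ⟨p, hp, hle⟩ := Ideal.exists_le_maximal I (fun htop => hcon (by
    obtain ⟨r, hr⟩ : (1 : R) ∈ I := htop ▸ Submodule.mem_top
    exact ⟨r, by simpa using hr.symm⟩))
  obtain ⟨a, ha⟩ := h p
  obtain ⟨⟨r, s⟩, hs⟩ := IsLocalization.surj p.primeCompl a
  obtain ⟨t, ht, hty⟩ := exists_smul_eq_zero (Q := Q) p (y := (s : R) • y - algebraMap R _ r) (by
    rw [map_sub, bcHom_smul, bcHom_algebraMap, ha, Algebra.smul_def, ← map_mul, mul_comm, hs, sub_self])
  refine (‹p.IsMaximal›.isPrime.mem_or_mem (hle (x := t * (s : R)) ?_)).elim ht s.2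
  refine ⟨t * r, ?_⟩
  rw [smul_sub, sub_eq_zero, smul_smul] at hty
  show algebraMap R _ (t * r) = (t * (s : R)) • y
  rw [hty, map_mul, ← Algebra.smul_def]

end Groth.Agent.CliffStr
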