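import Mathlib.LinearAlgebra.Determinant
import Mathlib.Tactic.NoncommRing
import Mathlib.LinearAlgebra.ExteriorAlgebra.OfAlternating
import Groth.Agent.CliffStr.Basic

/-!
# The top coefficient of a Clifford algebra

`topC b`: the coefficient of `b 0 ∧ ⋯ ∧ b (n-1)` after moving to the exterior algebra. It is a twisted trace
(`topC_mul_even`, `topC_mul_odd`), whence the determinant of an isometry induced by conjugation
(`det_of_even`, `det_of_odd`, `det_of_odd_rank`).
-/

set_option autoImplicit false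
universe u v

open CliffordAlgebra

namespace Groth.Agent.CliffStr

variable {R : Type u} [CommRing R] {M : Type v} [AddCommGroup M] [Module R M] {n : ℕ}
  (b : Module.Basis (Fin n) R M)

local notation "Λ" => ExteriorAlgebra R M

/-- The top coefficient of the exterior algebra. -/
noncomputable def top : ExteriorAlgebra R M →ₗ[R] R :=
  ExteriorAlgebra.liftAlternating (R := R) (M := M) (N := R) (Pi.single n b.det)

theorem top_ιMulti (v : Fin n → M) : top b (ExteriorAlgebra.ιMulti R n v) = b.det v := by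
  rw [top, ExteriorAlgebra.liftAlternating_apply_ιMulti, Pi.single_eq_same]

theorem top_of_mem {j : ℕ} (hj : j ≠ n) {y : ExteriorAlgebra R M} (hy : y ∈ ⋀[R]^j M) : top b y = 0 := by
  rw [← ExteriorAlgebra.ιMulti_span_fixedDegree] at hy
  refine (Submodule.span_le.2 ?_ hy : y ∈ LinearMap.ker (top b))
  rintro _ ⟨v, rfl⟩
  rw [SetLike.mem_coe, LinearMap.mem_ker, top, ExteriorAlgebra.liftAlternating_apply_ιMulti, Pi.single_eq_of_ne hj]
  rfl

include b in
theorem ιMulti_succ_top (v : Fin (n + 1) → M) : ExteriorAlgebra.ιMulti R (n + 1) v = 0 := by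
  have h : ExteriorAlgebra.ιMulti R (n + 1) (M := M) = 0 := b.ext_alternating fun w hw => by
    have := Fintype.card_le_of_injective w hw
    simp at this
  rw [h, AlternatingMap.zero_apply]

theorem ι_mul_mem (v : M) {j : ℕ} {y : ExteriorAlgebra R M} (hy : y ∈ ⋀[R]^j M) :
    ι (0 : QuadraticForm R M) v * y ∈ ⋀[R]^(j + 1) M := by
  show _ ∈ LinearMap.range (ExteriorAlgebra.ι R : M →ₗ[R] Λ) ^ (j + 1)
  rw [pow_succ']
  exact Submodule.mul_mem_mul ⟨v, rfl⟩ hy

theorem contract_mem (d : Module.Dual R M) : ∀ (j : ℕ) {y : ExteriorAlgebra R M}, y ∈ ⋀[R]^(j + 1) M →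
    contractLeft (Q := (0 : QuadraticForm R M)) d y ∈ ⋀[R]^j M := by
  intro j y hy
  rw [← ExteriorAlgebra.ιMulti_span_fixedDegree] at hy
  refine (Submodule.span_le.2 ?_ hy : y ∈ (⋀[R]^j M).comap (contractLeft (Q := (0 : QuadraticForm R M)) d))
  rintro _ ⟨v, rfl⟩
  clear hy
  rw [SetLike.mem_coe, Submodule.mem_comap, ExteriorAlgebra.ιMulti_succ_apply]
  induction j with
  | zero =>
    rw [ExteriorAlgebra.ιMulti_zero_apply, mul_one]
    show contractLeft d (ι (0 : QuadraticForm R M) (v 0)) ∈ _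
    rw [contractLeft_ι]
    show _ ∈ LinearMap.range (ExteriorAlgebra.ι R : M →ₗ[R] Λ) ^ 0
    rw [pow_zero]
    exact Submodule.algebraMap_mem _
  | succ j ih =>
    show contractLeft d (ι (0 : QuadraticForm R M) (v 0) * _) ∈ _
    rw [contractLeft_ι_mul]
    refine sub_mem (Submodule.smul_mem _ _ (ExteriorAlgebra.ιMulti_range R _ ⟨_, rfl⟩)) (ι_mul_mem _ ?_)
    rw [ExteriorAlgebra.ιMulti_succ_apply]
    exact ih (Matrix.vecTail v)

theorem contract_deg_zero (d : Module.Dual R M) {y : ExteriorAlgebra R M} (hy : y ∈ ⋀[R]^0 M) :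
    contractLeft (Q := (0 : QuadraticForm R M)) d y = 0 := by
  change y ∈ LinearMap.range (ExteriorAlgebra.ι R : M →ₗ[R] Λ) ^ 0 at hy
  rw [pow_zero, Submodule.mem_one] at hy
  obtain ⟨r, rfl⟩ := hy
  exact contractLeft_algebraMap _ _ _

theorem top_contract (d : Module.Dual R M) (y : ExteriorAlgebra R M) :
    top b (contractLeft (Q := (0 : QuadraticForm R M)) d y) = 0 := by
  refine LinearMap.congr_fun (show (top b).comp (contractLeft (Q := (0 : QuadraticForm R M)) d) = 0 from
    ExteriorAlgebra.lhom_ext fun i => ?_) y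
  refine AlternatingMap.ext fun v => ?_
  show top b (contractLeft (Q := (0 : QuadraticForm R M)) d (ExteriorAlgebra.ιMulti R i v)) = 0
  rcases i with _ | j
  · rw [contract_deg_zero d (ExteriorAlgebra.ιMulti_range R 0 ⟨v, rfl⟩), map_zero]
  · by_cases hj : j = n
    · subst hj
      rw [ιMulti_succ_top b, map_zero, map_zero]
    · exact top_of_mem b hj (contract_mem d j (ExteriorAlgebra.ιMulti_range R _ ⟨v, rfl⟩))

/-- Elements of degree less than `k`. -/
noncomputable def low (R : Type u) [CommRing R] (M : Type v) [AddCommGroup M] [Module R M] (k : ℕ) :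
    Submodule R (ExteriorAlgebra R M) := ⨆ j : Fin k, ⋀[R]^(j : ℕ) M

theorem mem_low {j k : ℕ} (h : j < k) {y : ExteriorAlgebra R M} (hy : y ∈ ⋀[R]^j M) : y ∈ low R M k :=
  Submodule.mem_iSup_of_mem (p := fun j : Fin k => ⋀[R]^(j : ℕ) M) ⟨j, h⟩ hy

theorem ι_mul_low (v : M) {k : ℕ} {y : ExteriorAlgebra R M} (hy : y ∈ low R M k) :
    ι (0 : QuadraticForm R M) v * y ∈ low R M (k + 1) := by
  induction hy using Submodule.iSup_induction' with
  | mem j x hx => exact mem_low (by omega) (ι_mul_mem v hx)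
  | zero => rw [mul_zero]; exact zero_mem _
  | add x y _ _ hx hy => rw [mul_add]; exact add_mem hx hy

theorem contract_low (d : Module.Dual R M) {k : ℕ} {y : ExteriorAlgebra R M} (hy : y ∈ low R M (k + 1)) :
    contractLeft (Q := (0 : QuadraticForm R M)) d y ∈ low R M k := by
  induction hy using Submodule.iSup_induction' with
  | mem j x hx =>
    rcases j with ⟨_ | j, hj⟩
    · rw [contract_deg_zero d hx]; exact zero_mem _
    · exact mem_low (by omega) (contract_mem d j hx)
  | zero => rw [map_zero]; exact zero_mem _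
  | add x y _ _ hx hy => rw [map_add]; exact add_mem hx hy

theorem low_mono {k k' : ℕ} (h : k ≤ k') {y : ExteriorAlgebra R M} (hy : y ∈ low R M k) : y ∈ low R M k' :=
  (iSup_le fun j => fun _ hx => mem_low (lt_of_lt_of_le j.2 h) hx : low R M k ≤ low R M k') hy

theorem top_low {y : ExteriorAlgebra R M} (hy : y ∈ low R M n) : top b y = 0 :=
  (iSup_le fun j => fun _ hx => top_of_mem b (by omega) hx : low R M n ≤ LinearMap.ker (top b)) hy

section quadratic

variable {Q : QuadraticForm R M} {B : LinearMap.BilinForm R M}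
  (hB : B.toQuadraticMap = (0 : QuadraticForm R M) - Q)

theorem changeForm_prod : ∀ (k : ℕ) (w : Fin k → M),
    changeForm hB (List.ofFn fun i => ι Q (w i)).prod - ExteriorAlgebra.ιMulti R k w ∈ low R M k
  | 0, w => by
    rw [List.ofFn_zero, List.prod_nil, changeForm_one, ExteriorAlgebra.ιMulti_zero_apply]
    rw [sub_eq_zero.2 rfl]
    exact zero_mem _
  | k + 1, w => by
    rw [List.ofFn_succ, List.prod_cons, changeForm_ι_mul, ExteriorAlgebra.ιMulti_succ_apply]
    set y := changeForm hB (List.ofFn fun i : Fin k => ι Q (w i.succ)).prod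
    have ih := changeForm_prod k (Matrix.vecTail w)
    have hy : y ∈ low R M (k + 1) := by
      have e : y = (y - ExteriorAlgebra.ιMulti R k (Matrix.vecTail w)) + ExteriorAlgebra.ιMulti R k (Matrix.vecTail w) :=
        (sub_add_cancel _ _).symm
      rw [e]
      exact add_mem (low_mono (Nat.le_succ k) ih) (mem_low (Nat.lt_succ_self k) (ExteriorAlgebra.ιMulti_range R _ ⟨_, rfl⟩))
    show ι (0 : QuadraticForm R M) (w 0) * y - _ - ι (0 : QuadraticForm R M) (w 0) * _ ∈ _
    rw [sub_right_comm, ← mul_sub]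
    exact sub_mem (ι_mul_low _ ih) (low_mono (Nat.le_succ k) (contract_low _ hy))

/-- The top coefficient of a Clifford algebra. -/
noncomputable def topC : CliffordAlgebra Q →ₗ[R] R := (top b).comp (changeForm hB)

theorem topC_prod (w : Fin n → M) : topC b hB (List.ofFn fun i => ι Q (w i)).prod = b.det w := by
  have := top_low b (changeForm_prod hB n w)
  rwa [map_sub, sub_eq_zero, top_ιMulti] at this

theorem topC_swap (v : M) (x : CliffordAlgebra Q) :
    topC b hB (ι Q v * x) = topC b hB (involute x * ι Q v) := by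
  rw [← sub_eq_zero, ← map_sub, ι_mul_sub_involute_mul]
  show top b (changeForm hB (contractLeft (pol Q v) x)) = 0
  rw [changeForm_contractLeft]
  exact top_contract b _ _

theorem topC_mul_even {y : CliffordAlgebra Q} (hy : y ∈ evenOdd Q 0) :
    ∀ x, topC b hB (y * x) = topC b hB (x * y) := by
  induction y, hy using CliffordAlgebra.even_induction with
  | algebraMap r => intro x; rw [Algebra.commutes]
  | add a c _ _ ha hc => intro x; rw [add_mul, mul_add, map_add, map_add, ha, hc]
  | ι_mul_ι_mul m₁ m₂ a _ ha =>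
    intro x
    calc topC b hB (ι Q m₁ * ι Q m₂ * a * x) = topC b hB (involute (ι Q m₂ * (a * x)) * ι Q m₁) := by
          rw [← topC_swap]; simp only [mul_assoc]
      _ = topC b hB (involute (involute (a * x) * ι Q m₁) * ι Q m₂ * (-1 : R) • 1) := by
          rw [map_mul involute, involute_ι, neg_mul, neg_mul, map_neg, mul_assoc, topC_swap, mul_smul_comm, mul_one,
            map_smul, neg_one_smul]
      _ = topC b hB (a * (x * (ι Q m₁ * ι Q m₂))) := by
          rw [map_mul involute, involute_involute, involute_ι, mul_smul_comm, mul_one, neg_one_smul, mul_neg, neg_mul,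
            neg_neg]
          simp only [mul_assoc]
      _ = _ := by rw [ha]; simp only [mul_assoc]

theorem topC_mul_odd {y : CliffordAlgebra Q} (hy : y ∈ evenOdd Q 1) :
    ∀ x, topC b hB (y * x) = topC b hB (involute x * y) := by
  induction y, hy using CliffordAlgebra.odd_induction with
  | ι v => exact topC_swap b hB v
  | add a c _ _ ha hc => intro x; rw [add_mul, mul_add, map_add, map_add, ha, hc]
  | ι_mul_ι_mul m₁ m₂ a _ ha =>
    intro x
    have hev : ι Q m₁ * ι Q m₂ ∈ evenOdd Q 0 := ι_mul_ι_mem_evenOdd_zero Q m₁ m₂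
    rw [mul_assoc, topC_mul_even b hB hev, mul_assoc, ha, map_mul involute, involute_eq_of_mem_even hev, mul_assoc]

theorem contract_evenOdd (d : Module.Dual R M) {p : ZMod 2} {y : ExteriorAlgebra R M}
    (hy : y ∈ evenOdd (0 : QuadraticForm R M) p) :
    contractLeft (Q := (0 : QuadraticForm R M)) d y ∈ evenOdd (0 : QuadraticForm R M) (p + 1) := by
  induction hy using Submodule.iSup_induction' with
  | mem j x hx =>
    rcases j with ⟨_ | j, hj⟩
    · rw [contract_deg_zero d hx]; exact zero_mem _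
    · refine Submodule.mem_iSup_of_mem ⟨j, ?_⟩ (contract_mem d j hx)
      rw [← hj, Nat.cast_succ, add_assoc, show (1 : ZMod 2) + 1 = 0 from rfl, add_zero]
  | zero => rw [map_zero]; exact zero_mem _
  | add x y _ _ hx hy => rw [map_add]; exact add_mem hx hy

theorem changeForm_ι_mul_evenOdd (v : M) {p : ZMod 2} {y : CliffordAlgebra Q}
    (hy : changeForm hB y ∈ evenOdd (0 : QuadraticForm R M) p) :
    changeForm hB (ι Q v * y) ∈ evenOdd (0 : QuadraticForm R M) (p + 1) := by
  rw [changeForm_ι_mul]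
  refine sub_mem ?_ (contract_evenOdd _ hy)
  rw [add_comm]
  exact SetLike.mul_mem_graded (ι_mem_evenOdd_one _ v) hy

theorem changeForm_even {y : CliffordAlgebra Q} (hy : y ∈ evenOdd Q 0) :
    changeForm hB y ∈ evenOdd (0 : QuadraticForm R M) 0 := by
  induction y, hy using CliffordAlgebra.even_induction with
  | algebraMap r => rw [changeForm_algebraMap]; exact algebraMap_mem_even r
  | add a c _ _ ha hc => rw [map_add]; exact add_mem ha hc
  | ι_mul_ι_mul m₁ m₂ a _ ha =>
    rw [mul_assoc]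
    simpa [show (1 : ZMod 2) + 1 = 0 from rfl] using changeForm_ι_mul_evenOdd hB m₁ (changeForm_ι_mul_evenOdd hB m₂ ha)

theorem topC_even_of_odd_rank (hn : Odd n) {y : CliffordAlgebra Q} (hy : y ∈ evenOdd Q 0) : topC b hB y = 0 := by
  refine (iSup_le fun j => fun x hx => top_of_mem b ?_ hx :
    evenOdd (0 : QuadraticForm R M) 0 ≤ LinearMap.ker (top b)) (changeForm_even hB hy)
  intro h
  have := (ZMod.natCast_eq_zero_iff_even).1 j.2
  rw [h] at this
  exact Nat.not_even_iff_odd.2 hn this

end quadratic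

section det

variable {Q : QuadraticForm R M}

theorem prod_mem_evenOdd : ∀ (k : ℕ) (w : Fin k → M),
    (List.ofFn fun i => ι Q (w i)).prod ∈ evenOdd Q (k : ZMod 2)
  | 0, w => by rw [List.ofFn_zero, List.prod_nil, Nat.cast_zero]; exact SetLike.one_mem_graded _
  | k + 1, w => by
    rw [List.ofFn_succ, List.prod_cons, Nat.cast_succ, add_comm]
    exact SetLike.mul_mem_graded (ι_mem_evenOdd_one Q (w 0)) (prod_mem_evenOdd k fun i => w i.succ)

theorem prod_conj (u : (CliffordAlgebra Q)ˣ) (g : M ≃ₗ[R] M)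
    (hg : ∀ v, (u : CliffordAlgebra Q) * ι Q v * ↑u⁻¹ = ι Q (g v)) : ∀ (k : ℕ) (w : Fin k → M),
    (List.ofFn fun i => ι Q (g (w i))).prod =
      (u : CliffordAlgebra Q) * ((List.ofFn fun i => ι Q (w i)).prod * ↑u⁻¹)
  | 0, w => by simp
  | k + 1, w => by
    rw [List.ofFn_succ, List.prod_cons, List.ofFn_succ, List.prod_cons, prod_conj u g hg k fun i => w i.succ, ← hg]
    simp only [mul_assoc, Units.inv_mul_cancel_left]

variable (u : (CliffordAlgebra Q)ˣ) (g : M ≃ₗ[R] M)
  (hg : ∀ v, (u : CliffordAlgebra Q) * ι Q v * ↑u⁻¹ = ι Q (g v))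

include b in
theorem det_eq_basis_det : ((LinearEquiv.det g : Rˣ) : R) = b.det (g ∘ b) := by
  rw [LinearEquiv.coe_det, show (g ∘ b : Fin n → M) = (g : M →ₗ[R] M) ∘ b from rfl, Module.Basis.det_comp,
    Module.Basis.det_self, mul_one]

include b hg in
/-- Conjugation by an even unit has determinant one. -/
theorem det_of_even (hu : (u : CliffordAlgebra Q) ∈ evenOdd Q 0) : LinearEquiv.det g = 1 := by
  haveI := Module.Free.of_basis b
  obtain ⟨B, hB⟩ := exists_toExterior Q
  refine Units.ext ?_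
  rw [det_eq_basis_det b g, ← topC_prod b hB, show (fun i => ι Q ((g ∘ b) i)) = fun i => ι Q (g (b i)) from rfl,
    prod_conj u g hg, topC_mul_even b hB hu, mul_assoc, Units.inv_mul, mul_one, topC_prod, Module.Basis.det_self]
  rfl

include b hg in
/-- In even rank conjugation by an odd unit has determinant minus one. -/
theorem det_of_odd (hn : Even n) (hu : (u : CliffordAlgebra Q) ∈ evenOdd Q 1) : LinearEquiv.det g = -1 := by
  haveI := Module.Free.of_basis b
  obtain ⟨B, hB⟩ := exists_toExterior Q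
  have hy : (List.ofFn fun i => ι Q (b i)).prod ∈ evenOdd Q 0 := by
    have := prod_mem_evenOdd (Q := Q) n b
    rwa [(ZMod.natCast_eq_zero_iff_even).2 hn] at this
  have hv : (↑u⁻¹ : CliffordAlgebra Q) ∈ evenOdd Q 1 := by
    have := (QuadGrp.isLocHomog_inv_aux Q u 0 (by rw [zero_smul]; exact zero_mem _)
      (by rw [sub_zero, one_smul]; exact hu)).2
    rwa [sub_zero, one_smul] at this
  refine Units.ext ?_
  rw [det_eq_basis_det b g, ← topC_prod b hB, show (fun i => ι Q ((g ∘ b) i)) = fun i => ι Q (g (b i)) from rfl,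
    prod_conj u g hg, topC_mul_odd b hB hu, map_mul involute, involute_eq_of_mem_even hy, involute_eq_of_mem_odd hv, mul_neg,
    neg_mul, mul_assoc, Units.inv_mul, mul_one, map_neg, topC_prod, Module.Basis.det_self]
  rfl

include b hg in
/-- In odd rank conjugation by any unit has determinant one. -/
theorem det_of_odd_rank (hn : Odd n) : LinearEquiv.det g = 1 := by
  haveI := Module.Free.of_basis b
  obtain ⟨B, hB⟩ := exists_toExterior Q
  have hy : (List.ofFn fun i => ι Q (b i)).prod ∈ evenOdd Q 1 := by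
    have := prod_mem_evenOdd (Q := Q) n b
    rwa [(ZMod.natCast_eq_one_iff_odd).2 hn] at this
  set y := (List.ofFn fun i => ι Q (b i)).prod with hy0
  obtain ⟨u₀, hu0, u₁, hu1, hu01⟩ : ∃ u₀ ∈ evenOdd Q 0, ∃ u₁ ∈ evenOdd Q 1, u₀ + u₁ = (u : CliffordAlgebra Q) :=
    Submodule.mem_sup.1 ((evenOdd_isCompl (Q := Q)).sup_eq_top.ge Submodule.mem_top)
  obtain ⟨v₀, hv0, v₁, hv1, hv01⟩ : ∃ v₀ ∈ evenOdd Q 0, ∃ v₁ ∈ evenOdd Q 1, v₀ + v₁ = (↑u⁻¹ : CliffordAlgebra Q) :=
    Submodule.mem_sup.1 ((evenOdd_isCompl (Q := Q)).sup_eq_top.ge Submodule.mem_top)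
  have h11 : ∀ {p q : CliffordAlgebra Q}, p ∈ evenOdd Q 1 → q ∈ evenOdd Q 1 → p * q ∈ evenOdd Q 0 := fun hp hq => by
    simpa [show (1 : ZMod 2) + 1 = 0 from rfl] using SetLike.mul_mem_graded hp hq
  have h10 : ∀ {p q : CliffordAlgebra Q}, p ∈ evenOdd Q 1 → q ∈ evenOdd Q 0 → p * q ∈ evenOdd Q 1 := fun hp hq => by
    simpa using SetLike.mul_mem_graded hp hq
  have h01 : ∀ {p q : CliffordAlgebra Q}, p ∈ evenOdd Q 0 → q ∈ evenOdd Q 1 → p * q ∈ evenOdd Q 1 := fun hp hq => by
    simpa using SetLike.mul_mem_graded hp hq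
  have h00 : ∀ {p q : CliffordAlgebra Q}, p ∈ evenOdd Q 0 → q ∈ evenOdd Q 0 → p * q ∈ evenOdd Q 0 := fun hp hq => by
    simpa using SetLike.mul_mem_graded hp hq
  have hsplit : v₀ * u₀ + v₁ * u₁ = 1 := by
    have e : (v₀ * u₀ + v₁ * u₁ - 1) + (v₀ * u₁ + v₁ * u₀) = 0 := by
      have := Units.inv_mul u
      rw [← hu01, ← hv01] at this
      rw [← sub_eq_zero.2 this]
      noncomm_ring
    have hE := add_mem (h00 hv0 hu0) (h11 hv1 hu1)
    have hO := add_mem (h01 hv0 hu1) (h10 hv1 hu0)
    have h1' := sub_mem hE (SetLike.one_mem_graded (evenOdd Q))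
    exact sub_eq_zero.1 (eq_zero_of_even_of_odd h1' (by
      rw [eq_neg_of_add_eq_zero_left e]; exact neg_mem hO))
  have ev : ∀ x ∈ evenOdd Q 0, topC b hB x = 0 := fun x hx => topC_even_of_odd_rank b hB hn hx
  refine Units.ext ?_
  rw [det_eq_basis_det b g, ← topC_prod b hB, show (fun i => ι Q ((g ∘ b) i)) = fun i => ι Q (g (b i)) from rfl,
    prod_conj u g hg, ← hy0, ← hu01, ← hv01]
  have key : topC b hB ((u₀ + u₁) * (y * (v₀ + v₁))) = topC b hB (y * (v₀ * u₀ + v₁ * u₁)) := by
    rw [add_mul, mul_add, mul_add, mul_add, map_add, map_add, map_add, ev _ (h00 hu0 (h11 hy hv1)),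
      ev _ (h11 hu1 (h10 hy hv0)), topC_mul_even b hB hu0, topC_mul_odd b hB hu1,
      involute_eq_of_mem_even (h11 hy hv1), add_zero, zero_add, mul_add, map_add]
    simp only [mul_assoc]
  rw [key, hsplit, mul_one, hy0, topC_prod, Module.Basis.det_self]
  rfl

end det

end Groth.Agent.CliffStr
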