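import Groth.Agent.CliffStr.Struct
import Groth.Agent.CliffStr.Top
import Groth.Agent.CliffStr.Local

/-!
# Isometries as inner automorphisms of Clifford algebras

General facts on units normalising the vectors, and the case of a regular form with an Arf element
(`fills_even`, `exists_conj_even`).
-/

set_option autoImplicit false
universe u v

open CliffordAlgebra TensorProduct

namespace Groth.Agent.CliffStr

variable {R : Type u} [CommRing R] {M : Type v} [AddCommGroup M] [Module R M] {Q : QuadraticForm R M}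
  {n : ℕ}

/-- `u` induces `g` by conjugation. -/
def Induces (u : (CliffordAlgebra Q)ˣ) (g : M ≃ₗ[R] M) : Prop :=
  ∀ v, (u : CliffordAlgebra Q) * ι Q v * ↑u⁻¹ = ι Q (g v)

theorem Induces.swap {u : (CliffordAlgebra Q)ˣ} {g : M ≃ₗ[R] M} (h : Induces u g) (v : M) :
    (u : CliffordAlgebra Q) * ι Q v = ι Q (g v) * u := (Units.mul_inv_eq_iff_eq_mul u).1 (h v)

theorem induces_of_swap {u : (CliffordAlgebra Q)ˣ} {g : M ≃ₗ[R] M}
    (h : ∀ v, (u : CliffordAlgebra Q) * ι Q v = ι Q (g v) * u) : Induces u g := fun v =>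
  (Units.mul_inv_eq_iff_eq_mul u).2 (h v)

theorem mem_GPin'_of_induces {u : (CliffordAlgebra Q)ˣ} {g : M ≃ₗ[R] M} (h : Induces u g) : u ∈ QuadGrp.GPin' Q := by
  rw [QuadGrp.mem_GPin']
  refine le_antisymm ?_ ?_
  · intro y hy
    obtain ⟨w, ⟨v, rfl⟩, rfl⟩ := hy
    refine ⟨g v, ?_⟩
    show ι Q (g v) = ConjAct.toConjAct u • ι Q v
    rw [ConjAct.units_smul_def, ConjAct.ofConjAct_toConjAct, h v]
  · rintro _ ⟨v, rfl⟩
    have := Submodule.smul_mem_pointwise_smul (ι Q (g.symm v)) (ConjAct.toConjAct u) (LinearMap.range (ι Q))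
      ⟨_, rfl⟩
    rwa [ConjAct.units_smul_def, ConjAct.ofConjAct_toConjAct, h, g.apply_symm_apply] at this

theorem ι_injective (b : Module.Basis (Fin n) R M) : Function.Injective (ι Q) := by
  haveI := Module.Free.of_basis b
  obtain ⟨B, hB⟩ := exists_toExterior Q
  intro x y h
  have := congrArg (changeForm hB) h
  rw [changeForm_ι, changeForm_ι] at this
  exact ExteriorAlgebra.ι_leftInverse.injective this

theorem exists_induced (b : Module.Basis (Fin n) R M) {u : (CliffordAlgebra Q)ˣ} (hu : u ∈ QuadGrp.GPin' Q) :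
    ∃ g ∈ QuadGrp.O Q, Induces u g := by
  haveI := Module.Free.of_basis b
  have hinj := ι_injective (Q := Q) b
  have hu' : u⁻¹ ∈ QuadGrp.GPin' Q := inv_mem hu
  have hmem : ∀ {u : (CliffordAlgebra Q)ˣ}, u ∈ QuadGrp.GPin' Q → ∀ v, ∃ w, ι Q w =
      (u : CliffordAlgebra Q) * ι Q v * ↑u⁻¹ := fun {u} hu v => by
    have h : ConjAct.toConjAct u • ι Q v ∈ LinearMap.range (ι Q) := by
      rw [← (QuadGrp.mem_GPin' Q u).1 hu]
      exact Submodule.smul_mem_pointwise_smul _ _ _ ⟨v, rfl⟩
    rw [ConjAct.units_smul_def, ConjAct.ofConjAct_toConjAct] at h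
    exact h
  choose f hf using hmem hu
  choose f' hf' using hmem hu'
  let F : M →ₗ[R] M :=
    { toFun := f
      map_add' := fun x y => hinj (by simp [hf, mul_add, add_mul])
      map_smul' := fun r x => hinj (by simp [hf]) }
  have h1 : ∀ v, f (f' v) = v := fun v => hinj (by simp [hf, hf', mul_assoc])
  have h2 : ∀ v, f' (f v) = v := fun v => hinj (by simp [hf, hf', mul_assoc])
  let g : M ≃ₗ[R] M := { F with invFun := f', left_inv := h2, right_inv := h1 }
  refine ⟨g, fun v => ?_, fun v => (hf v).symm⟩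
  refine sub_eq_zero.1 (algebraMap_inj (Q := Q) ?_)
  rw [map_sub, ← ι_sq_scalar, ← ι_sq_scalar, show ι Q (g v) = ι Q (f v) from rfl, hf v, sub_eq_zero,
    show (u : CliffordAlgebra Q) * ι Q v * ↑u⁻¹ * (↑u * ι Q v * ↑u⁻¹) = ↑u * (ι Q v * ι Q v) * ↑u⁻¹ by
      simp only [mul_assoc, Units.inv_mul_cancel_left], ι_sq_scalar, ← Algebra.commutes, mul_assoc, Units.mul_inv, mul_one]

/-- Both homogeneous parts of an intertwiner intertwine. -/
theorem parts_swap {u u₀ u₁ : CliffordAlgebra Q} (h0 : u₀ ∈ evenOdd Q 0) (h1 : u₁ ∈ evenOdd Q 1) (hu : u₀ + u₁ = u)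
    (g : M → M) (h : ∀ v, u * ι Q v = ι Q (g v) * u) (v : M) :
    u₀ * ι Q v = ι Q (g v) * u₀ ∧ u₁ * ι Q v = ι Q (g v) * u₁ := by
  have he : ∀ w : M, u₁ * ι Q w ∈ evenOdd Q 0 ∧ ι Q w * u₁ ∈ evenOdd Q 0 := fun w =>
    ⟨by simpa [show (1 : ZMod 2) + 1 = 0 from rfl] using SetLike.mul_mem_graded h1 (ι_mem_evenOdd_one Q w),
      by simpa [show (1 : ZMod 2) + 1 = 0 from rfl] using SetLike.mul_mem_graded (ι_mem_evenOdd_one Q w) h1⟩
  have e := h v
  rw [← hu, add_mul, mul_add, ← sub_eq_zero, add_sub_add_comm, add_comm] at e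
  obtain ⟨e1, e0⟩ := eq_zero_of_add_eq_zero (sub_mem (he v).1 (he (g v)).2)
    (sub_mem (mul_ι_mem_odd v h0) (ι_mul_mem_odd (g v) h0)) e
  exact ⟨sub_eq_zero.1 e0, sub_eq_zero.1 e1⟩

/-- When all central elements are scalars, units normalising the vectors are locally homogeneous. -/
theorem isLocHomog_of_induces (b : Module.Basis (Fin n) R M)
    (hc : ∀ y ∈ Subalgebra.center R (CliffordAlgebra Q), ∃ r : R, y = algebraMap R _ r)
    {u : (CliffordAlgebra Q)ˣ} {g : M ≃ₗ[R] M} (h : Induces u g) : QuadGrp.IsLocHomog Q (u : CliffordAlgebra Q) := by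
  haveI := Module.Free.of_basis b
  obtain ⟨u₀, h0, u₁, h1, hu⟩ := exists_even_odd (u : CliffordAlgebra Q)
  obtain ⟨e, he⟩ := hc (↑u⁻¹ * u₀) ((mem_center_iff _).2 fun v => by
    rw [mul_assoc, (parts_swap h0 h1 hu g h.swap v).1, ← mul_assoc, ← mul_assoc]
    refine congrArg (· * u₀) ?_
    rw [← h v]
    simp [mul_assoc])
  have hu0 : u₀ = e • (u : CliffordAlgebra Q) := by
    rw [Algebra.smul_def, Algebra.commutes, ← he, Units.mul_inv_cancel_left]
  have hu1 : u₁ = (1 - e) • (u : CliffordAlgebra Q) := by rw [sub_smul, one_smul, ← hu0, ← hu, add_sub_cancel_left]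
  refine ⟨e, ?_, hu0 ▸ h0, hu1 ▸ h1⟩
  have h01 : (e * (1 - e)) • (u : CliffordAlgebra Q) = 0 := eq_zero_of_even_of_odd
    (by rw [mul_comm, ← smul_smul, ← hu0]; exact Submodule.smul_mem _ _ h0)
    (by rw [← smul_smul, ← hu1]; exact Submodule.smul_mem _ _ h1)
  rw [Algebra.smul_def, Units.mul_left_eq_zero] at h01
  have := algebraMap_inj h01
  rw [mul_sub, mul_one, sub_eq_zero] at this
  exact this.symm

/-- The induced automorphism of the Clifford algebra is the conjugation. -/
theorem map_eq_conj {u : (CliffordAlgebra Q)ˣ} {g : M ≃ₗ[R] M} (hg : g ∈ QuadGrp.O Q) (h : Induces u g)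
    (y : CliffordAlgebra Q) : CliffordAlgebra.map (QuadGrp.isometryOfMem Q g hg) y = u * y * ↑u⁻¹ := by
  induction y using CliffordAlgebra.induction with
  | algebraMap r => rw [AlgHom.commutes, ← Algebra.commutes, mul_assoc, Units.mul_inv, mul_one]
  | ι x => rw [map_apply_ι, h x]; rfl
  | mul a c ha hc => rw [map_mul, ha, hc]; simp [mul_assoc]
  | add a c ha hc => rw [map_add, ha, hc, mul_add, add_mul]

theorem induces_of_map {u : (CliffordAlgebra Q)ˣ} {g : M ≃ₗ[R] M} (hg : g ∈ QuadGrp.O Q)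
    (h : ∀ a, CliffordAlgebra.map (QuadGrp.isometryOfMem Q g hg) a * u = u * a) : Induces u g :=
  induces_of_swap fun v => by
    rw [← h, map_apply_ι]
    rfl

theorem map_mem (f : Q →qᵢ Q) {i : ZMod 2} {y : CliffordAlgebra Q} (hy : y ∈ evenOdd Q i) :
    CliffordAlgebra.map f y ∈ evenOdd Q i := by
  fin_cases i
  · induction y, hy using CliffordAlgebra.even_induction with
    | algebraMap r => rw [AlgHom.commutes]; exact algebraMap_mem_even r
    | add a c _ _ ha hc => rw [map_add]; exact add_mem ha hc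
    | ι_mul_ι_mul m₁ m₂ a _ ha =>
      rw [map_mul, map_mul, map_apply_ι, map_apply_ι]
      simpa using SetLike.mul_mem_graded (ι_mul_ι_mem_evenOdd_zero Q (f m₁) (f m₂)) ha
  · induction y, hy using CliffordAlgebra.odd_induction with
    | ι v => rw [map_apply_ι]; exact ι_mem_evenOdd_one Q _
    | add a c _ _ ha hc => rw [map_add]; exact add_mem ha hc
    | ι_mul_ι_mul m₁ m₂ a _ ha =>
      rw [map_mul, map_mul, map_apply_ι, map_apply_ι]
      simpa using SetLike.mul_mem_graded (ι_mul_ι_mem_evenOdd_zero Q (f m₁) (f m₂)) ha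

/-- Elements commuting with all products of two vectors commute with the even subalgebra. -/
theorem commute_even {y : CliffordAlgebra Q} (hy : ∀ x x' : M, ι Q x * ι Q x' * y = y * (ι Q x * ι Q x'))
    {a : CliffordAlgebra Q} (ha : a ∈ evenOdd Q 0) : a * y = y * a := by
  induction a, ha using CliffordAlgebra.even_induction with
  | algebraMap r => exact Algebra.commutes r y
  | add a c _ _ ha hc => rw [add_mul, mul_add, ha, hc]
  | ι_mul_ι_mul m₁ m₂ a _ ha => rw [mul_assoc, ha, ← mul_assoc, hy, mul_assoc]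

theorem dickson_iff {g : M ≃ₗ[R] M} (hg : g ∈ QuadGrp.O Q) : QuadGrp.IsDicksonTrivial Q g hg ↔
    ∀ y ∈ evenOdd Q 0, (∀ x x' : M, ι Q x * ι Q x' * y = y * (ι Q x * ι Q x')) →
      CliffordAlgebra.map (QuadGrp.isometryOfMem Q g hg) y = y := by
  constructor
  · intro h y h0 hy
    have h0' : y ∈ CliffordAlgebra.even Q := by
      rwa [← Subalgebra.mem_toSubmodule, CliffordAlgebra.even_toSubmodule]
    exact h ⟨y, h0'⟩ (Subalgebra.mem_center_iff.2 fun a => Subtype.ext (commute_even hy (by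
      have := a.2
      rwa [← Subalgebra.mem_toSubmodule, CliffordAlgebra.even_toSubmodule] at this)))
  · intro h z hz
    have h0 := z.2
    rw [← Subalgebra.mem_toSubmodule, CliffordAlgebra.even_toSubmodule] at h0
    refine h _ h0 fun x x' => congrArg Subtype.val (Subalgebra.mem_center_iff.1 hz ⟨ι Q x * ι Q x', ?_⟩)
    rw [← Subalgebra.mem_toSubmodule, CliffordAlgebra.even_toSubmodule]
    exact ι_mul_ι_mem_evenOdd_zero Q x x'

section even

variable (b : Module.Basis (Fin n) R M) {z : CliffordAlgebra Q} (h : Arf Q ⊤ z) (hQ : QuadGrp.IsRegular Q)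

include b h hQ in
/-- Sandwiches fill the endomorphisms of a regular Clifford algebra of even rank. -/
theorem fills_even : Fills R (CliffordAlgebra Q) := by
  obtain ⟨w, hw⟩ := isUnit_w h
  have hinv : ∀ x : CliffordAlgebra Q, involute x = (w : CliffordAlgebra Q) * x * ↑w⁻¹ := fun x => by
    induction x using CliffordAlgebra.induction with
    | algebraMap r => rw [AlgHom.commutes, ← Algebra.commutes, mul_assoc, Units.mul_inv, mul_one]
    | ι x =>
      rw [involute_ι, eq_comm, Units.mul_inv_eq_iff_eq_mul, hw, neg_mul, mul_sub, mul_one, two_mul, mul_add,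
        h.on x trivial]
      noncomm_ring
    | mul a c ha hc => rw [map_mul, ha, hc]; simp [mul_assoc]
    | add a c ha hc => rw [map_add, ha, hc, mul_add, add_mul]
  have htop := eq_top_of_mulLeft_contract (S := (AlgHom.mulLeftRight R (CliffordAlgebra Q)).range) (b := b)
    (fun a => ⟨a ⊗ₜ 1, LinearMap.ext fun x => by simp⟩) fun i => by
      obtain ⟨v, hv⟩ := hQ.2 (b.coord i)
      refine ⟨ι Q v ⊗ₜ 1 - (w : CliffordAlgebra Q) ⊗ₜ MulOpposite.op (↑w⁻¹ * ι Q v), LinearMap.ext fun x => ?_⟩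
      rw [← hv, show QuadraticMap.polarBilin Q v = pol Q v from rfl, ← ι_mul_sub_involute_mul, hinv]
      simp [mul_assoc]
  intro f
  exact (htop ▸ Algebra.mem_top : f ∈ (AlgHom.mulLeftRight R (CliffordAlgebra Q)).range)

include b in
theorem nontrivial_cliff [Nontrivial R] : Nontrivial (CliffordAlgebra Q) :=
  (cliffBasis (Q := Q) b).repr.toEquiv.nontrivial

include b h hQ in
/-- Over a local ring every isometry of a regular form of even rank is induced by a homogeneous unit. -/
theorem exists_conj_even [IsLocalRing R] (g : M ≃ₗ[R] M) (hg : g ∈ QuadGrp.O Q) :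
    ∃ u : (CliffordAlgebra Q)ˣ, Induces u g ∧
      ((u : CliffordAlgebra Q) ∈ evenOdd Q 0 ∨ (u : CliffordAlgebra Q) ∈ evenOdd Q 1) := by
  haveI := Module.Free.of_basis (cliffBasis (Q := Q) b)
  haveI := Module.Finite.of_basis (cliffBasis (Q := Q) b)
  haveI := nontrivial_cliff (Q := Q) b
  obtain ⟨u, hu⟩ := exists_unit_conj (fills_even b h hQ) (CliffordAlgebra.map (QuadGrp.isometryOfMem Q g hg))
  have hi := induces_of_map hg hu
  obtain ⟨e, he, he0, he1⟩ := isLocHomog_of_induces b (fun y hy => centre_even h b hQ hy) hi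
  refine ⟨u, hi, ?_⟩
  rcases IsLocalRing.isUnit_or_isUnit_one_sub_self e with he' | he'
  · rw [show e = 1 from (he'.mul_left_inj).1 (by rw [he.eq, one_mul])] at he0
    exact Or.inl (by rwa [one_smul] at he0)
  · have h2 : (1 - e) * (1 - e) = 1 - e := he.one_sub.eq
    rw [show 1 - e = 1 from (he'.mul_left_inj).1 (by rw [h2, one_mul])] at he1
    exact Or.inr (by rwa [one_smul] at he1)

include h in
theorem map_of_even {u : (CliffordAlgebra Q)ˣ} {g : M ≃ₗ[R] M} (hg : g ∈ QuadGrp.O Q) (hi : Induces u g)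
    (hu : (u : CliffordAlgebra Q) ∈ evenOdd Q 0) :
    CliffordAlgebra.map (QuadGrp.isometryOfMem Q g hg) z = z := by
  rw [map_eq_conj hg hi, z_commute_even h hu, mul_assoc, Units.mul_inv, mul_one]

include h in
theorem map_of_odd {u : (CliffordAlgebra Q)ˣ} {g : M ≃ₗ[R] M} (hg : g ∈ QuadGrp.O Q) (hi : Induces u g)
    (hu : (u : CliffordAlgebra Q) ∈ evenOdd Q 1) :
    CliffordAlgebra.map (QuadGrp.isometryOfMem Q g hg) z = 1 - z := by
  rw [map_eq_conj hg hi, z_swap_odd h hu, mul_assoc, Units.mul_inv, mul_one]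

include b h in
theorem z_ne [Nontrivial R] : (1 - z : CliffordAlgebra Q) ≠ z := fun e => by
  haveI := nontrivial_cliff (Q := Q) b
  exact (isUnit_w h).ne_zero (by rw [two_mul, ← sub_sub, e, sub_self])

omit h in
theorem dickson_of_even {u : (CliffordAlgebra Q)ˣ} {g : M ≃ₗ[R] M} (hg : g ∈ QuadGrp.O Q) (hi : Induces u g)
    (hu : (u : CliffordAlgebra Q) ∈ evenOdd Q 0) : QuadGrp.IsDicksonTrivial Q g hg :=
  (dickson_iff hg).2 fun y _ hy => by rw [map_eq_conj hg hi, commute_even hy hu, mul_assoc, Units.mul_inv, mul_one]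

include b h in
theorem not_dickson_of_odd [Nontrivial R] {u : (CliffordAlgebra Q)ˣ} {g : M ≃ₗ[R] M} (hg : g ∈ QuadGrp.O Q)
    (hi : Induces u g) (hu : (u : CliffordAlgebra Q) ∈ evenOdd Q 1) : ¬ QuadGrp.IsDicksonTrivial Q g hg := fun hd => by
  have := (dickson_iff hg).1 hd z h.even fun x x' => z_commute_even h (ι_mul_ι_mem_evenOdd_zero Q x x')
  rw [map_of_odd h hg hi hu] at this
  exact z_ne b h this

end even

end Groth.Agent.CliffStr
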