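import Groth.Agent.CliffStr.Local

/-!
# Global facts on semiregular Clifford algebras of odd rank
-/

set_option autoImplicit false
universe u v

open CliffordAlgebra TensorProduct

namespace Groth.Agent.CliffStr

variable {R : Type u} [CommRing R] {M : Type v} [AddCommGroup M] [Module R M] {Q : QuadraticForm R M}
  {m : ℕ} (b : Module.Basis (Fin (2 * m + 1)) R M) (hQ : QuadGrp.IsSemiregular b (LinearEquiv.refl R R) Q)

/-- The generator of the odd centre. -/
structure OddCentral (Q : QuadraticForm R M) (c : CliffordAlgebra Q) : Prop where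
  odd : c ∈ evenOdd Q 1
  central : ∀ x, ι Q x * c = c * ι Q x

include b hQ in
theorem exists_local_gen [IsLocalRing R] :
    ∃ c : CliffordAlgebra Q, OddCentral Q c ∧ (∃ u : R, IsUnit u ∧ c * c = algebraMap R _ u) ∧
      star c = ((-1 : R) ^ (m + 1)) • c ∧
      (∀ y ∈ Subalgebra.center R (CliffordAlgebra Q), ∃ a s : R, y = algebraMap R _ a + s • c) ∧
      ∀ y ∈ evenOdd Q 0, (∀ x, ι Q x * y = y * ι Q x) → ∃ r : R, y = algebraMap R _ r := by
  haveI := Module.Free.of_basis b
  haveI := Module.Finite.of_basis b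
  obtain ⟨P, z, b', j, h, hv, hvu, hrest, hline, hst⟩ := exists_arf_odd b rfl hQ
  refine ⟨oddGen z (b' j), ⟨oddGen_mem h, oddGen_central h hv hrest⟩, oddGen_sq h hv hvu, ?_,
    fun y hy => centre_odd h hv hvu hrest hline hy, fun y h0 hy => even_central_odd_rank h hv hline h0 hy⟩
  have hzv : ι Q (b' j) * (1 - 2 * z) = (1 - 2 * z) * ι Q (b' j) := by
    simp only [mul_sub, mul_one, sub_mul, one_mul, two_mul, mul_add, add_mul, h.off _ hv]
  rw [oddGen, star_mul, hst, CliffordAlgebra.star_ι, mul_smul_comm, neg_mul, hzv, pow_succ, mul_neg_one, smul_neg,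
    neg_smul]

include b hQ in
/-- A central odd element of a given parity has the expected sign under `star`. -/
theorem star_odd_central {y : CliffordAlgebra Q} (hy : OddCentral Q y) : star y = ((-1 : R) ^ (m + 1)) • y := by
  haveI := Module.Free.of_basis b
  haveI := Module.Finite.of_basis b
  refine sub_eq_zero.1 (eq_zero_of_local fun p _ => ?_)
  obtain ⟨c, hc, -, hst, hcen, -⟩ := exists_local_gen (b.baseChange (Localization.AtPrime p))
    (semiregular_bcf (Localization.AtPrime p) b hQ)
  have hy' := bcHom_center (Localization.AtPrime p) ((mem_center_iff y).2 hy.central)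
  obtain ⟨a, s, has⟩ := hcen _ hy'
  have h0 : algebraMap (Localization.AtPrime p)
      (CliffordAlgebra (QuadGrp.baseChangeForm (Localization.AtPrime p) Q)) a = 0 := eq_zero_of_even_of_odd (algebraMap_mem_even a)
    (by rw [show algebraMap (Localization.AtPrime p)
          (CliffordAlgebra (QuadGrp.baseChangeForm (Localization.AtPrime p) Q)) a = bcHom (Localization.AtPrime p) Q y - s • c by rw [has]; abel]
        exact sub_mem (bcHom_mem _ Q hy.odd) (Submodule.smul_mem _ s hc.odd))
  rw [h0, zero_add] at has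
  rw [map_sub, bcHom_star, bcHom_smul, has, CliffordAlgebra.star_smul, hst, map_pow, map_neg, map_one, smul_comm,
    sub_self]

include b hQ in
/-- Even central elements are scalars. -/
theorem even_central_global {y : CliffordAlgebra Q} (h0 : y ∈ evenOdd Q 0) (hy : ∀ x, ι Q x * y = y * ι Q x) :
    ∃ r : R, y = algebraMap R _ r := by
  haveI := Module.Free.of_basis b
  haveI := Module.Finite.of_basis b
  refine mem_range_of_local fun p _ => ?_
  obtain ⟨c, -, -, -, -, hev⟩ := exists_local_gen (b.baseChange (Localization.AtPrime p))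
    (semiregular_bcf (Localization.AtPrime p) b hQ)
  exact hev _ (bcHom_mem _ Q h0) ((mem_center_iff _).1 (bcHom_center _ ((mem_center_iff y).2 hy)))

include b hQ in
/-- Near each prime the odd centre has a generator with square outside the prime. -/
theorem exists_gen_near (p : Ideal R) [p.IsMaximal] :
    ∃ c : CliffordAlgebra Q, OddCentral Q c ∧ ∃ t : R, t ∉ p ∧ c * c = algebraMap R _ t := by
  haveI := Module.Free.of_basis b
  haveI := Module.Finite.of_basis b
  classical
  obtain ⟨c, hc, ⟨u, hu, hcu⟩, -, -, -⟩ := exists_local_gen (b.baseChange (Localization.AtPrime p))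
    (semiregular_bcf (Localization.AtPrime p) b hQ)
  obtain ⟨s, hs, x, hx⟩ := exists_numerator p c
  obtain ⟨x₀, h0, x₁, h1, hx01⟩ := exists_even_odd x
  have hx1 : bcHom (Localization.AtPrime p) Q x₁ = algebraMap R (Localization.AtPrime p) s • c := by
    have e : bcHom (Localization.AtPrime p) Q x₀ +
        (bcHom (Localization.AtPrime p) Q x₁ - algebraMap R (Localization.AtPrime p) s • c) = 0 := by
      rw [← add_sub_assoc, ← map_add, hx01, hx, sub_self]
    exact sub_eq_zero.1 (eq_zero_of_add_eq_zero (bcHom_mem _ Q h0)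
      (sub_mem (bcHom_mem _ Q h1) (Submodule.smul_mem _ _ hc.odd)) e).2
  -- kill the commutators
  choose t ht htc using fun i => exists_smul_eq_zero (Q := Q) p (y := ι Q (b i) * x₁ - x₁ * ι Q (b i)) (by
    rw [map_sub, map_mul, map_mul, hx1, bcHom_ι, mul_smul_comm, smul_mul_assoc, hc.central, sub_self])
  -- the square
  obtain ⟨⟨r, s'⟩, hr⟩ := IsLocalization.surj p.primeCompl
    (algebraMap R (Localization.AtPrime p) s * algebraMap R (Localization.AtPrime p) s * u)
  have hsq : bcHom (Localization.AtPrime p) Q ((s' : R) • (x₁ * x₁) - algebraMap R _ r) = 0 := by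
    rw [map_sub, bcHom_smul, map_mul, hx1, bcHom_algebraMap, smul_mul_smul_comm, hcu, smul_smul, Algebra.smul_def,
      ← map_mul, ← hr]
    ring_nf
    rw [sub_self]
  obtain ⟨t', ht', htsq⟩ := exists_smul_eq_zero p hsq
  let T : R := (∏ i, t i) * t' * (s' : R)
  have hT : T ∉ p := fun hm => by
    rcases ‹p.IsMaximal›.isPrime.mem_or_mem hm with hm | hm
    · rcases ‹p.IsMaximal›.isPrime.mem_or_mem hm with hm | hm
      · obtain ⟨i, -, hi⟩ := (‹p.IsMaximal›.isPrime.prod_mem_iff).1 hm
        exact ht i hi
      · exact ht' hm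
    · exact s'.2 hm
  have hrp : r ∉ p := by
    intro hm
    have h3 : IsUnit (algebraMap R (Localization.AtPrime p) r) := by
      rw [← hr]
      have hs' : IsUnit (algebraMap R (Localization.AtPrime p) s) :=
        IsLocalization.map_units (Localization.AtPrime p) (⟨s, hs⟩ : p.primeCompl)
      exact ((hs'.mul hs').mul hu).mul (IsLocalization.map_units (Localization.AtPrime p) s')
    exact (IsLocalization.AtPrime.isUnit_to_map_iff (Localization.AtPrime p) p r).1 h3 hm
  refine ⟨T • x₁, ⟨Submodule.smul_mem _ _ h1, fun v => ?_⟩, T * (∏ i, t i) * t' * r, ?_, ?_⟩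
  · have hb : ∀ i, ι Q (b i) * (T • x₁) = (T • x₁) * ι Q (b i) := fun i => by
      rw [← sub_eq_zero, mul_smul_comm, smul_mul_assoc, ← smul_sub,
        show T = ((∏ j ∈ Finset.univ.erase i, t j) * t' * (s' : R)) * t i by
          simp only [T]; rw [← Finset.mul_prod_erase _ t (Finset.mem_univ i)]; ring,
        ← smul_smul, htc, smul_zero]
    rw [← b.sum_repr v, map_sum, Finset.sum_mul, Finset.mul_sum]
    exact Finset.sum_congr rfl fun i _ => by rw [map_smul, smul_mul_assoc, hb, mul_smul_comm]
  · intro hm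
    rcases ‹p.IsMaximal›.isPrime.mem_or_mem hm with hm | hm
    · rcases ‹p.IsMaximal›.isPrime.mem_or_mem hm with hm | hm
      · rcases ‹p.IsMaximal›.isPrime.mem_or_mem hm with hm | hm
        · exact hT hm
        · obtain ⟨i, -, hi⟩ := (‹p.IsMaximal›.isPrime.prod_mem_iff).1 hm
          exact ht i hi
      · exact ht' hm
    · exact hrp hm
  · rw [smul_sub, sub_eq_zero, smul_smul] at htsq
    rw [smul_mul_smul_comm, show T * T = (T * (∏ i, t i)) * (t' * (s' : R)) by simp only [T]; ring, ← smul_smul, htsq,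
      Algebra.smul_def, Algebra.smul_def, ← map_mul, ← map_mul, mul_assoc (T * ∏ i, t i)]

/-- The multiplication of the centre with the even part. -/
noncomputable def mulMap (Q : QuadraticForm R M) :
    Subalgebra.center R (CliffordAlgebra Q) ⊗[R] CliffordAlgebra.even Q →ₗ[R] CliffordAlgebra Q :=
  TensorProduct.lift
    (((LinearMap.mul R (CliffordAlgebra Q)).comp (Subalgebra.center R (CliffordAlgebra Q)).val.toLinearMap).compl₂
      (CliffordAlgebra.even Q).val.toLinearMap)

theorem mulMap_tmul (z : Subalgebra.center R (CliffordAlgebra Q)) (e : CliffordAlgebra.even Q) :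
    mulMap Q (z ⊗ₜ e) = (z : CliffordAlgebra Q) * e := rfl

theorem coe_even_iff {y : CliffordAlgebra Q} : y ∈ CliffordAlgebra.even Q ↔ y ∈ evenOdd Q 0 := by
  rw [← CliffordAlgebra.even_toSubmodule, Subalgebra.mem_toSubmodule]

include b hQ in
theorem mulMap_bijective : Function.Bijective (mulMap Q) := by
  haveI := Module.Free.of_basis b
  refine ⟨(injective_iff_map_eq_zero _).2 fun w hw => ?_, LinearMap.range_eq_top.1 (eq_top_iff.2 fun y _ => ?_)⟩
  · by_contra hne
    obtain ⟨p, hp, hle⟩ := Ideal.exists_le_maximal (Submodule.span R {w}).annihilator (fun htop => hne (by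
      have := (Submodule.mem_annihilator_span_singleton _ _).1 (htop ▸ Submodule.mem_top : (1 : R) ∈ _)
      rwa [one_smul] at this))
    obtain ⟨c, hc, t, ht, hct⟩ := exists_gen_near b hQ p
    let cc : Subalgebra.center R (CliffordAlgebra Q) := ⟨c, (mem_center_iff c).2 hc.central⟩
    have hform : ∀ w : Subalgebra.center R (CliffordAlgebra Q) ⊗[R] CliffordAlgebra.even Q,
        ∃ A B : CliffordAlgebra.even Q, t • w = (1 : Subalgebra.center R (CliffordAlgebra Q)) ⊗ₜ A + cc ⊗ₜ B := by
      intro w
      induction w using TensorProduct.induction_on with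
      | zero => exact ⟨0, 0, by rw [smul_zero, tmul_zero, tmul_zero, add_zero]⟩
      | add u v hu hv =>
        obtain ⟨A, B, h1⟩ := hu
        obtain ⟨A', B', h2⟩ := hv
        exact ⟨A + A', B + B', by rw [smul_add, h1, h2, tmul_add, tmul_add]; abel⟩
      | tmul z e =>
        obtain ⟨z₀, h0, z₁, h1, hz⟩ := exists_even_odd (z : CliffordAlgebra Q)
        have hp := central_parts h0 h1 hz ((mem_center_iff _).1 z.2)
        obtain ⟨r, hr⟩ := even_central_global b hQ h0 fun x => (hp x).1
        obtain ⟨u, hu⟩ := even_central_global b hQ (y := z₁ * c)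
          (by simpa [show (1 : ZMod 2) + 1 = 0 from rfl] using SetLike.mul_mem_graded h1 hc.odd)
          fun x => by rw [← mul_assoc, (hp x).2, mul_assoc, hc.central, mul_assoc]
        refine ⟨(t * r) • e, u • e, ?_⟩
        rw [TensorProduct.tmul_smul, TensorProduct.tmul_smul, TensorProduct.smul_tmul', TensorProduct.smul_tmul',
          TensorProduct.smul_tmul', ← TensorProduct.add_tmul]
        refine congrArg (· ⊗ₜ[R] e) (Subtype.ext ?_)
        show t • (z : CliffordAlgebra Q) = (t * r) • 1 + u • c
        rw [← hz, smul_add, hr, ← Algebra.algebraMap_eq_smul_one, map_mul, Algebra.smul_def t]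
        refine congrArg _ ?_
        calc t • z₁ = z₁ * (c * c) := by rw [hct, ← Algebra.commutes, Algebra.smul_def]
          _ = u • c := by rw [← mul_assoc, hu, Algebra.smul_def]
    obtain ⟨A, B, hAB⟩ := hform w
    have h0 : (A : CliffordAlgebra Q) + c * B = 0 := by
      have := congrArg (mulMap Q) hAB
      rw [map_smul, hw, smul_zero, map_add, mulMap_tmul, mulMap_tmul] at this
      rw [this]
      simp [cc]
    obtain ⟨hA, hB⟩ := eq_zero_of_add_eq_zero (coe_even_iff.1 A.2)
      (by simpa using SetLike.mul_mem_graded hc.odd (coe_even_iff.1 B.2)) h0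
    have hB' : t • B = 0 := Subtype.ext (by
      show t • (B : CliffordAlgebra Q) = 0
      rw [Algebra.smul_def, ← hct, mul_assoc, hB, mul_zero])
    have : (t * t) • w = 0 := by
      rw [← smul_smul, hAB, show A = 0 from Subtype.ext hA, tmul_zero, zero_add, ← TensorProduct.tmul_smul, hB',
        tmul_zero]
    exact (‹p.IsMaximal›.isPrime.mem_or_mem (hle ((Submodule.mem_annihilator_span_singleton _ _).2 this))).elim ht ht
  · let I : Ideal R := (LinearMap.range (mulMap Q)).comap (LinearMap.toSpanSingleton R _ y)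
    by_contra hcon
    obtain ⟨p, hp, hle⟩ := Ideal.exists_le_maximal I (fun htop => hcon (by
      have : (1 : R) ∈ I := htop ▸ Submodule.mem_top
      simpa [I] using this))
    obtain ⟨c, hc, t, ht, hct⟩ := exists_gen_near b hQ p
    obtain ⟨y₀, h0, y₁, h1, hy⟩ := exists_even_odd y
    refine ht (hle ?_)
    show t • y ∈ LinearMap.range (mulMap Q)
    refine ⟨(1 : Subalgebra.center R (CliffordAlgebra Q)) ⊗ₜ ⟨t • y₀, coe_even_iff.2 (Submodule.smul_mem _ t h0)⟩ +
      (⟨c, (mem_center_iff c).2 hc.central⟩ : Subalgebra.center R (CliffordAlgebra Q)) ⊗ₜ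
        ⟨c * y₁, coe_even_iff.2 (by simpa [show (1 : ZMod 2) + 1 = 0 from rfl] using SetLike.mul_mem_graded hc.odd h1)⟩, ?_⟩
    rw [map_add, mulMap_tmul, mulMap_tmul, OneMemClass.coe_one, one_mul, ← mul_assoc]
    show t • y₀ + c * c * y₁ = t • y
    rw [hct, ← Algebra.smul_def, ← smul_add, hy]

include b in
theorem ι_injective_summand : Function.Injective (ι Q) ∧
    ∃ W : Submodule R (CliffordAlgebra Q), IsCompl (LinearMap.range (ι Q)) W := by
  haveI := Module.Free.of_basis b
  obtain ⟨B, hB⟩ := exists_toExterior Q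
  let π : CliffordAlgebra Q →ₗ[R] M := (ExteriorAlgebra.ιInv).comp (changeForm hB)
  have hπ : ∀ x, π (ι Q x) = x := fun x => by
    show ExteriorAlgebra.ιInv (changeForm hB (ι Q x)) = x
    rw [changeForm_ι]
    exact ExteriorAlgebra.ι_leftInverse x
  refine ⟨fun x y h => by rw [← hπ x, ← hπ y, h], LinearMap.ker π, isCompl_iff.2 ⟨?_, ?_⟩⟩
  · refine Submodule.disjoint_def.2 ?_
    rintro _ ⟨x, rfl⟩ hx
    rw [LinearMap.mem_ker, hπ] at hx
    rw [hx, map_zero]
  · refine codisjoint_iff.2 (eq_top_iff.2 fun y _ => Submodule.mem_sup.2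
      ⟨ι Q (π y), ⟨_, rfl⟩, y - ι Q (π y), ?_, add_sub_cancel _ _⟩)
    rw [LinearMap.mem_ker, map_sub, hπ, sub_self]

end Groth.Agent.CliffStr
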