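import Groth.Agent.CliffStr.Inner
import Groth.Agent.CliffStr.OddGlobal

/-!
# Local homogeneity of norm-one normalising units in odd rank; rank three
-/

set_option autoImplicit false
universe u v

open CliffordAlgebra TensorProduct

namespace Groth.Agent.CliffStr

variable {R : Type u} [CommRing R] {M : Type v} [AddCommGroup M] [Module R M] {Q : QuadraticForm R M}

theorem star_mem {i : ZMod 2} {y : CliffordAlgebra Q} (hy : y ∈ evenOdd Q i) : star y ∈ evenOdd Q i := by
  rw [star_def]
  exact (reverse_mem_evenOdd_iff Q).2 ((involute_mem_evenOdd_iff Q).2 hy)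

theorem isLocHomog_of_norm_one {m : ℕ} (hm : Odd m) (b : Module.Basis (Fin (2 * m + 1)) R M)
    (hQ : QuadGrp.IsSemiregular b (LinearEquiv.refl R R) Q) (h2 : IsUnit (2 : R)) {u : (CliffordAlgebra Q)ˣ}
    (hu : u ∈ QuadGrp.GPin' Q) (hn : star (u : CliffordAlgebra Q) * u = 1) :
    QuadGrp.IsLocHomog Q (u : CliffordAlgebra Q) := by
  haveI := Module.Free.of_basis b
  haveI := Module.Finite.of_basis b
  obtain ⟨g, -, hi⟩ := exists_induced b hu
  obtain ⟨u₀, h0, u₁, h1, hu01⟩ := exists_even_odd (u : CliffordAlgebra Q)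
  have hp := parts_swap h0 h1 hu01 g hi.swap
  have back : ∀ a : CliffordAlgebra Q, (∀ v, a * ι Q v = ι Q (g v) * a) →
      ∀ v, ι Q v * star a = star a * ι Q (g v) := fun a ha v => by
    have := congrArg star (ha v)
    rwa [star_mul, star_mul, CliffordAlgebra.star_ι, CliffordAlgebra.star_ι, neg_mul, mul_neg, neg_inj] at this
  have hcomm : ∀ a a' : CliffordAlgebra Q, (∀ v, a * ι Q v = ι Q (g v) * a) → (∀ v, a' * ι Q v = ι Q (g v) * a') →
      ∀ v, ι Q v * (star a * a') = star a * a' * ι Q v := fun a a' ha ha' v => by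
    rw [← mul_assoc, back a ha, mul_assoc, ← ha', mul_assoc]
  obtain ⟨e, he⟩ := even_central_global b hQ (by simpa using SetLike.mul_mem_graded (star_mem h0) h0)
    (hcomm u₀ u₀ (fun v => (hp v).1) fun v => (hp v).1)
  obtain ⟨e', he'⟩ := even_central_global b hQ
    (by simpa [show (1 : ZMod 2) + 1 = 0 from rfl] using SetLike.mul_mem_graded (star_mem h1) h1)
    (hcomm u₁ u₁ (fun v => (hp v).2) fun v => (hp v).2)
  have hx1 : star u₀ * u₁ ∈ evenOdd Q 1 := by simpa using SetLike.mul_mem_graded (star_mem h0) h1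
  have hx : star (star u₀ * u₁) = star u₀ * u₁ := by
    rw [star_odd_central b hQ ⟨hx1, hcomm u₀ u₁ (fun v => (hp v).1) fun v => (hp v).2⟩,
      (Odd.add_one hm).neg_one_pow, one_smul]
  rw [star_mul, star_star] at hx
  have hsum : (algebraMap R _ e + algebraMap R _ e' - 1) + (star u₀ * u₁ + star u₀ * u₁) = 0 := by
    rw [← sub_self (1 : CliffordAlgebra Q)]
    conv_rhs => arg 1; rw [← hn, ← hu01, star_add, add_mul, mul_add, mul_add, he, he', hx]
    abel
  obtain ⟨he1, hx0⟩ := eq_zero_of_add_eq_zero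
    (sub_mem (add_mem (algebraMap_mem_even e) (algebraMap_mem_even e')) (SetLike.one_mem_graded _)) (add_mem hx1 hx1) hsum
  have hx0' : star u₀ * u₁ = 0 := by
    have h' := congrArg ((↑h2.unit⁻¹ : R) • ·) hx0
    simp only [smul_zero, ← two_smul R, smul_smul, IsUnit.val_inv_mul, one_smul] at h'
    exact h'
  have hsu : star (u : CliffordAlgebra Q) = ↑u⁻¹ := (Units.inv_eq_of_mul_eq_one_left hn).symm
  have hu1' : u₁ = e' • (u : CliffordAlgebra Q) := by
    calc u₁ = (u : CliffordAlgebra Q) * (star (u : CliffordAlgebra Q) * u₁) := by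
          rw [← mul_assoc, hsu, Units.mul_inv, one_mul]
      _ = e' • (u : CliffordAlgebra Q) := by
          conv_lhs => arg 2; rw [← hu01, star_add, add_mul, hx0', he', zero_add]
          rw [← Algebra.commutes, ← Algebra.smul_def]
  have hee : e' = 1 - e := by
    rw [eq_sub_iff_add_eq']
    refine sub_eq_zero.1 (algebraMap_inj (Q := Q) ?_)
    rw [map_sub, map_add, map_one, he1]
  have hu0' : u₀ = e • (u : CliffordAlgebra Q) := by
    rw [show e = 1 - e' by rw [hee, sub_sub_cancel], sub_smul, one_smul, ← hu1', ← hu01, add_sub_cancel_right]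
  refine ⟨e, ?_, hu0' ▸ h0, by rw [← hee]; exact hu1' ▸ h1⟩
  have h01 : (e * (1 - e)) • (u : CliffordAlgebra Q) = 0 := eq_zero_of_even_of_odd
    (by rw [mul_comm, ← smul_smul, ← hu0']; exact Submodule.smul_mem _ _ h0)
    (by rw [← smul_smul, ← hee, ← hu1']; exact Submodule.smul_mem _ _ h1)
  rw [Algebra.smul_def, Units.mul_left_eq_zero] at h01
  have := algebraMap_inj h01
  rw [mul_sub, mul_one, sub_eq_zero] at this
  exact this.symm

section three

variable (b : Module.Basis (Fin 3) R M)

theorem changeForm_odd {B : LinearMap.BilinForm R M} (hB : B.toQuadraticMap = (0 : QuadraticForm R M) - Q)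
    {y : CliffordAlgebra Q} (hy : y ∈ evenOdd Q 1) :
    changeForm hB y ∈ evenOdd (0 : QuadraticForm R M) 1 := by
  induction y, hy using CliffordAlgebra.odd_induction with
  | ι v => rw [changeForm_ι]; exact ι_mem_evenOdd_one _ v
  | add a c _ _ ha hc => rw [map_add]; exact add_mem ha hc
  | ι_mul_ι_mul m₁ m₂ a _ ha =>
    rw [mul_assoc]
    simpa [show (1 : ZMod 2) + (1 + 1) = 1 from rfl, add_comm, add_left_comm] using
      changeForm_ι_mul_evenOdd hB m₁ (changeForm_ι_mul_evenOdd hB m₂ ha)

include b in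
/-- An odd element of a rank three Clifford algebra without top coefficient is a vector. -/
theorem mem_range_of_top {B : LinearMap.BilinForm R M} (hB : B.toQuadraticMap = (0 : QuadraticForm R M) - Q)
    {y : CliffordAlgebra Q} (hy : y ∈ evenOdd Q 1) (ht : topC b hB y = 0) : y ∈ LinearMap.range (ι Q) := by
  have key : ∀ w ∈ evenOdd (0 : QuadraticForm R M) 1,
      w - top b w • ExteriorAlgebra.ιMulti R 3 b ∈ (⋀[R]^1 M : Submodule R (ExteriorAlgebra R M)) := by
    intro w hw
    induction hw using Submodule.iSup_induction' with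
    | mem j x hx =>
      obtain ⟨j, hj⟩ := j
      have hj' : Odd j := (ZMod.natCast_eq_one_iff_odd).1 hj
      rcases Nat.lt_trichotomy j 3 with h | rfl | h
      · obtain rfl : j = 1 := by obtain ⟨k, rfl⟩ := hj'; omega
        rw [top_of_mem b (show (1 : ℕ) ≠ 3 by omega) hx, zero_smul, sub_zero]
        exact hx
      · rw [show x - top b x • ExteriorAlgebra.ιMulti R 3 b = 0 from ?_]
        · exact zero_mem _
        change x ∈ (⋀[R]^3 M : Submodule R (ExteriorAlgebra R M)) at hx
        rw [← ExteriorAlgebra.ιMulti_span_fixedDegree] at hx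
        refine (Submodule.span_le.2 ?_ hx : x ∈ LinearMap.ker
          (LinearMap.id - (top b).smulRight (ExteriorAlgebra.ιMulti R 3 b) : ExteriorAlgebra R M →ₗ[R] _))
        rintro _ ⟨v, rfl⟩
        rw [SetLike.mem_coe, LinearMap.mem_ker, LinearMap.sub_apply, LinearMap.id_apply, LinearMap.smulRight_apply,
          top_ιMulti, sub_eq_zero]
        exact congrFun (congrArg DFunLike.coe (b.ext_alternating (f := ExteriorAlgebra.ιMulti R 3)
          (g := (LinearMap.toSpanSingleton R _ (ExteriorAlgebra.ιMulti R 3 b)).compAlternatingMap b.det) fun w hw => by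
            obtain ⟨σ, hσ⟩ : ∃ σ : Equiv.Perm (Fin 3), ∀ i, σ i = w i :=
              ⟨Equiv.ofBijective w (Finite.injective_iff_bijective.1 hw), fun i => rfl⟩
            simp only [← hσ, LinearMap.compAlternatingMap_apply, LinearMap.toSpanSingleton_apply]
            rw [show (fun i => b (σ i)) = b ∘ σ from rfl, AlternatingMap.map_perm, AlternatingMap.map_perm,
              Module.Basis.det_self]
            rw [Units.smul_def, Units.smul_def, smul_assoc, one_smul])) v
      · have h0 : x = 0 := by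
          obtain ⟨k, rfl⟩ : ∃ k, j = (k + 4) := ⟨j - 4, by omega⟩
          change x ∈ (⋀[R]^(k + 4) M : Submodule R (ExteriorAlgebra R M)) at hx
          rw [← ExteriorAlgebra.ιMulti_span_fixedDegree] at hx
          refine (Submodule.span_le.2 ?_ hx : x ∈ (⊥ : Submodule R (ExteriorAlgebra R M)))
          rintro _ ⟨v, rfl⟩
          have hz : ExteriorAlgebra.ιMulti R (k + 4) (M := M) = 0 := b.ext_alternating fun w hw => by
            have := Fintype.card_le_of_injective w hw
            simp at this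
          rw [hz]
          exact zero_mem _
        rw [h0, map_zero, zero_smul, sub_zero]
        exact zero_mem _
    | zero => simp
    | add x y _ _ hx hy => rw [map_add, add_smul, add_sub_add_comm]; exact add_mem hx hy
  have h := key _ (changeForm_odd hB hy)
  rw [show top b (changeForm hB y) = topC b hB y from rfl, ht, zero_smul, sub_zero] at h
  change changeForm hB y ∈ LinearMap.range (ExteriorAlgebra.ι R : M →ₗ[R] ExteriorAlgebra R M) ^ 1 at h
  rw [pow_one] at h
  obtain ⟨v, hv⟩ := h
  refine ⟨v, (changeFormEquiv hB).injective ?_⟩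
  rw [changeFormEquiv_apply, changeFormEquiv_apply, changeForm_ι]
  exact hv

include b in
theorem even_unit_mem_GPin' {u : (CliffordAlgebra Q)ˣ} (hu : u ∈ QuadGrp.evenUnits Q) : u ∈ QuadGrp.GPin' Q := by
  haveI := Module.Free.of_basis b
  obtain ⟨B, hB⟩ := exists_toExterior Q
  have hconj : ∀ {u : (CliffordAlgebra Q)ˣ}, u ∈ QuadGrp.evenUnits Q → ∀ v,
      (u : CliffordAlgebra Q) * ι Q v * ↑u⁻¹ ∈ LinearMap.range (ι Q) := fun {u} hu v => by
    have hu' : (↑u⁻¹ : CliffordAlgebra Q) ∈ evenOdd Q 0 := (QuadGrp.evenUnits Q).inv_mem hu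
    have hv0 : topC b hB (ι Q v) = 0 := by
      show top b (changeForm hB (ι Q v)) = 0
      rw [changeForm_ι]
      refine top_of_mem b (by omega : (1 : ℕ) ≠ 3) ?_
      show _ ∈ LinearMap.range (ExteriorAlgebra.ι R : M →ₗ[R] ExteriorAlgebra R M) ^ 1
      rw [pow_one]
      exact ⟨v, rfl⟩
    refine mem_range_of_top b hB ?_ ?_
    · have h1 := SetLike.mul_mem_graded (SetLike.mul_mem_graded (show (u : CliffordAlgebra Q) ∈ evenOdd Q 0 from hu)
        (ι_mem_evenOdd_one Q v)) hu'
      simpa using h1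
    · rw [mul_assoc, topC_mul_even b hB hu, mul_assoc, Units.inv_mul, mul_one, hv0]
  rw [QuadGrp.mem_GPin']
  refine le_antisymm ?_ ?_
  · intro y hy
    obtain ⟨w, ⟨v, rfl⟩, rfl⟩ := hy
    show ConjAct.toConjAct u • ι Q v ∈ LinearMap.range (ι Q)
    rw [ConjAct.units_smul_def, ConjAct.ofConjAct_toConjAct]
    exact hconj hu v
  · rintro _ ⟨v, rfl⟩
    obtain ⟨w, hw⟩ := hconj ((QuadGrp.evenUnits Q).inv_mem hu) v
    have := Submodule.smul_mem_pointwise_smul (ι Q w) (ConjAct.toConjAct u) (LinearMap.range (ι Q)) ⟨_, rfl⟩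
    rw [ConjAct.units_smul_def, ConjAct.ofConjAct_toConjAct, hw] at this
    simpa [mul_assoc] using this

end three

end Groth.Agent.CliffStr
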