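import Groth.Agent.CliffStr.Local
import Groth.Agent.CliffStr.Inner
import Groth.Agent.CliffStr.Pin

/-!
# Maps between base changes of a Clifford algebra

`bcMap φ`, natural coordinates, extensions of linear endomorphisms, tests for range of `ι` and parity.
-/

set_option autoImplicit false
set_option linter.unusedSectionVars false
universe u v

open CliffordAlgebra TensorProduct

namespace Groth.Agent.CliffStr

variable {R : Type u} [CommRing R] {M : Type v} [AddCommGroup M] [Module R M] [Module.Free R M]
  (Q : QuadraticForm R M) {A B : Type u} [CommRing A] [Algebra R A] [CommRing B] [Algebra R B] (φ : A →ₐ[R] B)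

/-- The map of Clifford algebras along a map of algebras. -/
noncomputable def bcMap :
    CliffordAlgebra (QuadGrp.baseChangeForm A Q) →+* CliffordAlgebra (QuadGrp.baseChangeForm B Q) :=
  ((bcTo B Q).toRingHom.comp (Algebra.TensorProduct.map φ (AlgHom.id R (CliffordAlgebra Q))).toRingHom).comp
    (bcInv A Q).toRingHom

theorem bcMap_smul_bcHom (a : A) (x : CliffordAlgebra Q) :
    bcMap Q φ (a • bcHom A Q x) = φ a • bcHom B Q x := by
  show bcTo B Q (Algebra.TensorProduct.map φ (AlgHom.id R (CliffordAlgebra Q)) (bcInv A Q (a • bcHom A Q x))) = _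
  rw [map_smul, bcInv_bcHom, TensorProduct.smul_tmul', smul_eq_mul, mul_one, Algebra.TensorProduct.map_tmul,
    bcTo_tmul]
  rfl

theorem bcMap_bcHom (x : CliffordAlgebra Q) : bcMap Q φ (bcHom A Q x) = bcHom B Q x := by
  simpa using bcMap_smul_bcHom Q φ 1 x

theorem bcMap_algebraMap (a : A) : bcMap Q φ (algebraMap A _ a) = algebraMap B _ (φ a) := by
  have h := bcMap_smul_bcHom Q φ a 1
  rwa [map_one, map_one, ← Algebra.algebraMap_eq_smul_one, ← Algebra.algebraMap_eq_smul_one] at h

theorem bcMap_smul (a : A) (y : CliffordAlgebra (QuadGrp.baseChangeForm A Q)) :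
    bcMap Q φ (a • y) = φ a • bcMap Q φ y := by
  rw [Algebra.smul_def, map_mul, bcMap_algebraMap, ← Algebra.smul_def]

theorem bcMap_ι (v : A ⊗[R] M) : bcMap Q φ (ι _ v) = ι _ (LinearMap.rTensor M φ.toLinearMap v) := by
  induction v using TensorProduct.induction_on with
  | zero => simp
  | add v w hv hw => simp only [map_add, hv, hw]
  | tmul a m =>
    have e : ∀ (C : Type u) [CommRing C] [Algebra R C] (c : C),
        ι (QuadGrp.baseChangeForm C Q) (c ⊗ₜ[R] m) = c • bcHom C Q (ι Q m) := fun C _ _ c => by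
      rw [bcHom_ι, ← map_smul, TensorProduct.smul_tmul', smul_eq_mul, mul_one]
    rw [e, bcMap_smul_bcHom, LinearMap.rTensor_tmul, e]
    rfl

theorem bcMap_star (y : CliffordAlgebra (QuadGrp.baseChangeForm A Q)) :
    bcMap Q φ (star y) = star (bcMap Q φ y) := by
  induction y using CliffordAlgebra.induction with
  | algebraMap a => rw [CliffordAlgebra.star_algebraMap, bcMap_algebraMap, CliffordAlgebra.star_algebraMap]
  | ι x => rw [CliffordAlgebra.star_ι, map_neg, bcMap_ι, CliffordAlgebra.star_ι]
  | mul a c ha hc => rw [star_mul, map_mul, map_mul, star_mul, ha, hc]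
  | add a c ha hc => rw [star_add, map_add, map_add, star_add, ha, hc]

variable (A) in
/-- The extension of an endomorphism of the Clifford algebra to a base change. -/
noncomputable def ext (f : CliffordAlgebra Q →ₗ[R] CliffordAlgebra Q) :
    CliffordAlgebra (QuadGrp.baseChangeForm A Q) →ₗ[A] CliffordAlgebra (QuadGrp.baseChangeForm A Q) :=
  (bcTo A Q).toLinearMap ∘ₗ f.baseChange A ∘ₗ (bcInv A Q).toLinearMap

variable (A) in
theorem ext_smul_bcHom (f : CliffordAlgebra Q →ₗ[R] CliffordAlgebra Q) (a : A) (x : CliffordAlgebra Q) :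
    ext Q A f (a • bcHom A Q x) = a • bcHom A Q (f x) := by
  rw [map_smul]
  show a • bcTo A Q (f.baseChange A (bcInv A Q (bcHom A Q x))) = _
  rw [bcInv_bcHom, LinearMap.baseChange_tmul, bcTo_tmul, one_smul]

variable (A) in
/-- Every element is a combination of images from the base. -/
theorem induction_bc {P : CliffordAlgebra (QuadGrp.baseChangeForm A Q) → Prop} (h0 : P 0)
    (hs : ∀ (a : A) x, P (a • bcHom A Q x)) (hadd : ∀ y z, P y → P z → P (y + z)) (y) : P y := by
  rw [← bcTo_bcInv A Q y]
  induction bcInv A Q y using TensorProduct.induction_on with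
  | zero => rwa [map_zero]
  | add a b ha hb => rw [map_add]; exact hadd _ _ ha hb
  | tmul a x => rw [bcTo_tmul]; exact hs a x

theorem bcMap_ext (f : CliffordAlgebra Q →ₗ[R] CliffordAlgebra Q)
    (y : CliffordAlgebra (QuadGrp.baseChangeForm A Q)) :
    bcMap Q φ (ext Q A f y) = ext Q B f (bcMap Q φ y) := by
  induction y using induction_bc Q A with
  | h0 => simp
  | hs a x => rw [ext_smul_bcHom, bcMap_smul_bcHom, bcMap_smul_bcHom, ext_smul_bcHom]
  | hadd y z hy hz => simp only [map_add, hy, hz]

section tests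

variable {n : ℕ} (b : Module.Basis (Fin n) R M)

/-- A projection onto the vectors. -/
noncomputable def vecProj : CliffordAlgebra Q →ₗ[R] CliffordAlgebra Q :=
  (ι Q) ∘ₗ (ExteriorAlgebra.ιInv (R := R) (M := M)) ∘ₗ changeForm (exists_toExterior Q).choose_spec

theorem vecProj_ι (x : M) : vecProj Q (ι Q x) = ι Q x := by
  show ι Q (ExteriorAlgebra.ιInv (changeForm _ (ι Q x))) = _
  rw [changeForm_ι]
  exact congrArg _ (ExteriorAlgebra.ι_leftInverse x)

variable (A) in
theorem mem_range_ι_iff (y : CliffordAlgebra (QuadGrp.baseChangeForm A Q)) :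
    y ∈ LinearMap.range (ι (QuadGrp.baseChangeForm A Q)) ↔ ext Q A (vecProj Q) y = y := by
  constructor
  · rintro ⟨v, rfl⟩
    induction v using TensorProduct.induction_on with
    | zero => simp
    | add v w hv hw => simp only [map_add, hv, hw]
    | tmul a m =>
      rw [show ι (QuadGrp.baseChangeForm A Q) (a ⊗ₜ[R] m) = a • bcHom A Q (ι Q m) by
        rw [bcHom_ι, ← map_smul, TensorProduct.smul_tmul', smul_eq_mul, mul_one], ext_smul_bcHom, vecProj_ι]
  · intro h
    rw [← h]
    clear h
    induction y using induction_bc Q A with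
    | h0 => rw [map_zero]; exact zero_mem _
    | hs a x =>
      rw [ext_smul_bcHom, show bcHom A Q (vecProj Q x) = ι (QuadGrp.baseChangeForm A Q)
        ((1 : A) ⊗ₜ[R] ExteriorAlgebra.ιInv (changeForm (exists_toExterior Q).choose_spec x)) from bcHom_ι A Q _]
      exact Submodule.smul_mem _ _ ⟨_, rfl⟩
    | hadd y z hy hz => rw [map_add]; exact add_mem hy hz

/-- The projection onto a parity. -/
noncomputable def parProj (i : ZMod 2) : CliffordAlgebra Q →ₗ[R] CliffordAlgebra Q :=
  if i = 0 then (evenOdd Q 0).projection (evenOdd Q 1) (evenOdd_isCompl (Q := Q))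
  else (evenOdd Q 1).projection (evenOdd Q 0) (evenOdd_isCompl (Q := Q)).symm

theorem parProj_spec (i : ZMod 2) (x : CliffordAlgebra Q) :
    parProj Q i x ∈ evenOdd Q i ∧ x - parProj Q i x ∈ evenOdd Q (i + 1) := by
  have h2 : ∀ j : ZMod 2, j = 0 ∨ j = 1 := by decide
  rcases h2 i with rfl | rfl
  · rw [parProj, if_pos rfl, zero_add]
    exact ⟨Submodule.projection_apply_mem _ x, by
      have := Submodule.projection_add_projection_eq_self (evenOdd_isCompl (Q := Q)) x
      rw [sub_eq_of_eq_add' this.symm]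
      exact Submodule.projection_apply_mem _ x⟩
  · rw [parProj, if_neg (by decide), show (1 : ZMod 2) + 1 = 0 from rfl]
    exact ⟨Submodule.projection_apply_mem _ x, by
      have := Submodule.projection_add_projection_eq_self (evenOdd_isCompl (Q := Q)).symm x
      rw [sub_eq_of_eq_add' this.symm]
      exact Submodule.projection_apply_mem _ x⟩

variable (A) in
theorem ext_parProj (i : ZMod 2) (y : CliffordAlgebra (QuadGrp.baseChangeForm A Q)) :
    ext Q A (parProj Q i) y ∈ evenOdd _ i ∧ y - ext Q A (parProj Q i) y ∈ evenOdd _ (i + 1) := by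
  induction y using induction_bc Q A with
  | h0 => simp
  | hs a x =>
    rw [ext_smul_bcHom, ← smul_sub, ← map_sub]
    exact ⟨Submodule.smul_mem _ _ (bcHom_mem A Q (parProj_spec Q i x).1),
      Submodule.smul_mem _ _ (bcHom_mem A Q (parProj_spec Q i x).2)⟩
  | hadd y z hy hz =>
    rw [map_add, add_sub_add_comm]
    exact ⟨add_mem hy.1 hz.1, add_mem hy.2 hz.2⟩

variable (A) in
theorem mem_evenOdd_iff (i : ZMod 2) (y : CliffordAlgebra (QuadGrp.baseChangeForm A Q)) :
    y ∈ evenOdd (QuadGrp.baseChangeForm A Q) i ↔ ext Q A (parProj Q i) y = y := by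
  refine ⟨fun h => ?_, fun h => h ▸ (ext_parProj Q A i y).1⟩
  obtain ⟨h1, h2⟩ := ext_parProj Q A i y
  have h3 := sub_mem h h1
  have h02 : ∀ j : ZMod 2, j = 0 ∨ j = 1 := by decide
  rcases h02 i with rfl | rfl
  · exact (sub_eq_zero.1 (eq_zero_of_even_of_odd h3 h2)).symm
  · exact (sub_eq_zero.1 (eq_zero_of_even_of_odd h2 h3)).symm

variable (A) in
/-- A basis of the base-changed Clifford algebra from the base. -/
noncomputable def bcBasis : Module.Basis (Finset (Fin n)) A (CliffordAlgebra (QuadGrp.baseChangeForm A Q)) :=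
  ((cliffBasis (Q := Q) b).baseChange A).map (bcEquiv A Q).toLinearEquiv

theorem bcBasis_apply (j : Finset (Fin n)) : bcBasis Q A b j = bcHom A Q (cliffBasis (Q := Q) b j) := by
  rw [bcBasis, Module.Basis.map_apply, Module.Basis.baseChange_apply]
  exact bcEquiv_one_tmul A Q _

theorem bcMap_sum (x : Finset (Fin n) → A) :
    bcMap Q φ ((bcBasis Q A b).equivFun.symm x) = (bcBasis Q B b).equivFun.symm (φ ∘ x) := by
  rw [Module.Basis.equivFun_symm_apply, Module.Basis.equivFun_symm_apply, map_sum]
  refine Finset.sum_congr rfl fun j _ => ?_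
  rw [bcBasis_apply, bcBasis_apply, bcMap_smul_bcHom]
  rfl

theorem bcMap_equivFun (y : CliffordAlgebra (QuadGrp.baseChangeForm A Q)) :
    (bcBasis Q B b).equivFun (bcMap Q φ y) = φ ∘ (bcBasis Q A b).equivFun y := by
  conv_lhs => rw [← (bcBasis Q A b).equivFun.symm_apply_apply y, bcMap_sum, LinearEquiv.apply_symm_apply]

end tests

end Groth.Agent.CliffStr
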