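import Groth.Agent.CliffStr.Inner

/-!
# Dickson invariant of isometries over a local ring, and units normalising the vectors in even rank
-/

set_option autoImplicit false
universe u v

open CliffordAlgebra TensorProduct

namespace Groth.Agent.CliffStr

variable {R : Type u} [CommRing R] {M : Type v} [AddCommGroup M] [Module R M] [Module.Free R M] [Module.Finite R M]
  {Q : QuadraticForm R M} {m : ℕ} (hM : Module.finrank R M = 2 * m) (hQ : QuadGrp.IsRegular Q)

section loc

variable [IsLocalRing R]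

include hM hQ in
theorem exists_even_data :
    ∃ (z : CliffordAlgebra Q) (_ : Module.Basis (Fin (2 * m)) R M), Arf Q ⊤ z := by
  obtain ⟨z, hz⟩ := exists_arf_even hM hQ
  exact ⟨z, Module.finBasisOfFinrankEq R M hM, hz⟩

include hM hQ in
theorem exists_conj {g : M ≃ₗ[R] M} (hg : g ∈ QuadGrp.O Q) :
    ∃ u : (CliffordAlgebra Q)ˣ, Induces u g ∧
      ((u : CliffordAlgebra Q) ∈ evenOdd Q 0 ∧ QuadGrp.IsDicksonTrivial Q g hg ∧ LinearEquiv.det g = 1 ∨
        (u : CliffordAlgebra Q) ∈ evenOdd Q 1 ∧ ¬ QuadGrp.IsDicksonTrivial Q g hg ∧ LinearEquiv.det g = -1) := by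
  obtain ⟨z, b, hz⟩ := exists_even_data hM hQ
  obtain ⟨u, hi, hu | hu⟩ := exists_conj_even b hz hQ g hg
  · exact ⟨u, hi, Or.inl ⟨hu, dickson_of_even hg hi hu, det_of_even b u g hi hu⟩⟩
  · exact ⟨u, hi, Or.inr ⟨hu, not_dickson_of_odd b hz hg hi hu, det_of_odd b u g hi ⟨m, two_mul m⟩ hu⟩⟩

include hM hQ in
/-- Isometries satisfying the Dickson condition come from even units. -/
theorem exists_gspin {g : M ≃ₗ[R] M} (hg : g ∈ QuadGrp.SOeven Q) :
    ∃ u ∈ QuadGrp.GSpin Q, Induces u g := by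
  obtain ⟨hgO, hd⟩ := hg
  obtain ⟨u, hi, ⟨hu, -, -⟩ | ⟨-, hn, -⟩⟩ := exists_conj hM hQ hgO
  · exact ⟨u, ⟨⟨mem_GPin'_of_induces hi, (QuadGrp.mem_LH Q u).2 ⟨1, IsIdempotentElem.one, by rwa [one_smul],
      by rw [sub_self, zero_smul]; exact zero_mem _⟩⟩, hu⟩, hi⟩
  · exact absurd hd hn

include hM hQ in
theorem exists_aniso (hm : 1 ≤ m) : ∃ v : M, IsUnit (Q v) := by
  by_contra h
  push Not at h
  obtain ⟨z, b, -⟩ := exists_even_data hM hQ
  obtain ⟨x, hx⟩ := hQ.2 (b.coord ⟨0, by omega⟩)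
  have h1 : QuadraticMap.polar Q x (b ⟨0, by omega⟩) = 1 := (LinearMap.congr_fun hx _).trans (by simp)
  have hmax : ∀ v, Q v ∈ IsLocalRing.maximalIdeal R := fun v => (IsLocalRing.mem_maximalIdeal _).2 (h v)
  refine (IsLocalRing.maximalIdeal.isMaximal R).ne_top ((Ideal.eq_top_iff_one _).2 ?_)
  rw [← h1, QuadraticMap.polar]
  exact sub_mem (sub_mem (hmax _) (hmax _)) (hmax _)

include hM hQ in
/-- The index of the Dickson kernel. -/
theorem soeven_index (hm : 1 ≤ m) : ((QuadGrp.SOeven Q).subgroupOf (QuadGrp.O Q)).index = 2 := by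
  obtain ⟨z, b, hz⟩ := exists_even_data hM hQ
  obtain ⟨v, hv⟩ := exists_aniso hM hQ hm
  -- the reflection
  obtain ⟨u, hu⟩ : IsUnit (ι Q v) := by
    obtain ⟨c, hc⟩ := hv
    refine ⟨⟨ι Q v, (↑c⁻¹ : R) • ι Q v, ?_, ?_⟩, rfl⟩
    · rw [mul_smul_comm, ι_sq_scalar, ← hc, Algebra.algebraMap_eq_smul_one, smul_smul, Units.inv_mul, one_smul]
    · rw [smul_mul_assoc, ι_sq_scalar, ← hc, Algebra.algebraMap_eq_smul_one, smul_smul, Units.inv_mul, one_smul]
  have hu1 : (u : CliffordAlgebra Q) ∈ evenOdd Q 1 := hu ▸ ι_mem_evenOdd_one Q v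
  have huG : u ∈ QuadGrp.GPin' Q := by
    obtain ⟨c, hc⟩ := hv
    let s : M →ₗ[R] M := ((↑c⁻¹ : R) • QuadraticMap.polarBilin Q v).smulRight v - LinearMap.id
    have hs : ∀ x, (u : CliffordAlgebra Q) * ι Q x = ι Q (s x) * u := fun x => by
      simp only [hu, s, LinearMap.sub_apply, LinearMap.smulRight_apply, LinearMap.smul_apply,
        QuadraticMap.polarBilin_apply_apply, LinearMap.id_apply, map_sub, map_smul, sub_mul, smul_mul_assoc,
        ι_sq_scalar]
      rw [ι_swap, ← hc, Algebra.algebraMap_eq_smul_one (c : R), smul_smul, smul_eq_mul, mul_comm (↑c⁻¹ : R),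
        mul_assoc, Units.inv_mul, mul_one, Algebra.algebraMap_eq_smul_one]
    have hss : ∀ x, s (s x) = x := fun x => by
      have e : (↑c⁻¹ : R) * QuadraticMap.polar Q v v = 2 := by
        rw [QuadraticMap.polar_self, ← hc, nsmul_eq_mul, Nat.cast_ofNat, mul_left_comm, Units.inv_mul, mul_one]
      simp only [s, LinearMap.sub_apply, LinearMap.smulRight_apply, LinearMap.smul_apply,
        QuadraticMap.polarBilin_apply_apply, LinearMap.id_apply, map_sub, map_smul, smul_eq_mul]
      rw [e, two_smul, add_sub_cancel_right]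
      abel
    exact mem_GPin'_of_induces (g := LinearEquiv.ofLinear s s (LinearMap.ext hss) (LinearMap.ext hss))
      (induces_of_swap hs)
  obtain ⟨a, ha, hai⟩ := exists_induced b huG
  have ha0 : ¬ QuadGrp.IsDicksonTrivial Q a ha := not_dickson_of_odd b hz ha hai hu1
  rw [Subgroup.index_eq_two_iff]
  refine ⟨⟨a, ha⟩, fun g => ?_⟩
  obtain ⟨w, hwi, hw⟩ := exists_conj hM hQ g.2
  have hprod : Induces (w * u) ((g * ⟨a, ha⟩ : ↥(QuadGrp.O Q)) : M ≃ₗ[R] M) := induces_of_swap fun x => by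
    rw [Units.val_mul, mul_assoc, hai.swap, ← mul_assoc, hwi.swap, mul_assoc]
    rfl
  rcases hw with ⟨hw, hd, -⟩ | ⟨hw, hd, -⟩
  · refine Or.inr ⟨⟨g.2, hd⟩, fun ⟨hga, hda⟩ => ?_⟩
    exact not_dickson_of_odd b hz _ hprod (by simpa using SetLike.mul_mem_graded hw hu1) hda
  · refine Or.inl ⟨⟨(QuadGrp.O Q).mul_mem g.2 ha, dickson_of_even _ hprod ?_⟩, fun ⟨_, hg'⟩ => hd hg'⟩
    simpa [show (1 : ZMod 2) + 1 = 0 from rfl] using SetLike.mul_mem_graded hw hu1

end loc

include hM hQ in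
/-- The centre of a regular Clifford algebra of even rank consists of the scalars. -/
theorem centre_regular {y : CliffordAlgebra Q} (hy : y ∈ Subalgebra.center R (CliffordAlgebra Q)) :
    ∃ r : R, y = algebraMap R _ r := by
  rcases subsingleton_or_nontrivial R with hR | hR
  · haveI := Module.subsingleton R (CliffordAlgebra Q)
    exact ⟨0, Subsingleton.elim _ _⟩
  let b := Module.finBasis R M
  refine mem_range_of_local fun p _ => ?_
  haveI := Module.Finite.of_basis (b.baseChange (Localization.AtPrime p))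
  have hM' : Module.finrank (Localization.AtPrime p) (Localization.AtPrime p ⊗[R] M) = 2 * m := by
    rw [Module.finrank_baseChange, hM]
  obtain ⟨z, bb, hz⟩ := exists_even_data hM' (regular_bcf (Localization.AtPrime p) b hQ)
  exact centre_even hz bb (regular_bcf (Localization.AtPrime p) b hQ) (bcHom_center _ hy)

include hM hQ in
/-- In even rank the units normalising the vectors are locally homogeneous. -/
theorem gpin'_le_LH : QuadGrp.GPin' Q ≤ QuadGrp.LH Q := fun u hu => by
  rcases subsingleton_or_nontrivial R with hR | hR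
  · haveI := Module.subsingleton R (CliffordAlgebra Q)
    exact (QuadGrp.mem_LH Q u).2 ⟨1, IsIdempotentElem.one, by
      rw [Subsingleton.elim ((1 : R) • (u : CliffordAlgebra Q)) 0]; exact zero_mem _, by
      rw [Subsingleton.elim (((1 : R) - 1) • (u : CliffordAlgebra Q)) 0]; exact zero_mem _⟩
  obtain ⟨g, -, hi⟩ := exists_induced (Module.finBasis R M) hu
  exact (QuadGrp.mem_LH Q u).2 (isLocHomog_of_induces (Module.finBasis R M) (fun y hy => centre_regular hM hQ hy) hi)

end Groth.Agent.CliffStr
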