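import Groth.Agent.CliffStr.Frame

/-!
# Existence of Arf elements over local rings
-/

set_option autoImplicit false
universe u v

open CliffordAlgebra

namespace Groth.Agent.CliffStr

variable {R : Type u} [CommRing R] [IsLocalRing R] {M : Type v} [AddCommGroup M] [Module R M] [Module.Free R M]
  [Module.Finite R M] {Q : QuadraticForm R M}

omit [IsLocalRing R] [Module.Free R M] [Module.Finite R M] in
/-- The sign of `star` on `1 - 2 z` changes with each plane. -/
theorem star_step {P : Submodule R M} {z : CliffordAlgebra Q} (h : Arf Q P z) {e f : M} (he : e ∈ perp Q P)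
    (hf : f ∈ perp Q P) (hef : QuadraticMap.polar Q e f = 1) {s : R} (hs : star (1 - 2 * z) = s • (1 - 2 * z)) :
    star (1 - 2 * (ι Q e * ι Q f + z - 2 * (ι Q e * ι Q f * z))) =
      (-s) • (1 - 2 * (ι Q e * ι Q f + z - 2 * (ι Q e * ι Q f * z))) := by
  have hza : z * (ι Q e * ι Q f) = ι Q e * ι Q f * z := by
    rw [← mul_assoc, ← h.off e he, mul_assoc, ← h.off f hf, mul_assoc]
  have hfac : 1 - 2 * (ι Q e * ι Q f + z - 2 * (ι Q e * ι Q f * z)) = (1 - 2 * (ι Q e * ι Q f)) * (1 - 2 * z) := by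
    noncomm_ring
  have hcomm : (1 - 2 * z) * (1 - 2 * (ι Q e * ι Q f)) = (1 - 2 * (ι Q e * ι Q f)) * (1 - 2 * z) := by
    noncomm_ring [hza]
  have hpl : star (1 - 2 * (ι Q e * ι Q f)) = -(1 - 2 * (ι Q e * ι Q f)) := by
    rw [star_sub, star_one, two_mul, star_add, star_mul, CliffordAlgebra.star_ι, CliffordAlgebra.star_ι, neg_mul_neg,
      ι_swap f e, QuadraticMap.polar_comm, hef, map_one]
    noncomm_ring
  rw [hfac, star_mul, hs, hpl, smul_mul_assoc, mul_neg, hcomm, smul_neg, neg_smul]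

theorem finrank_step {P : Submodule R M} {z : CliffordAlgebra Q} (h : Arf Q P z) {e f : M} (he : e ∈ perp Q P)
    (hf : f ∈ perp Q P) (hef : QuadraticMap.polar Q e f = 1) (hu : IsUnit (4 * Q e * Q f - 1)) :
    ∃ (P' : Submodule R M) (z' : CliffordAlgebra Q), Arf Q P' z' ∧
      Module.finrank R (perp Q P') + 2 = Module.finrank R (perp Q P) ∧
      ∀ s : R, star (1 - 2 * z) = s • (1 - 2 * z) → star (1 - 2 * z') = (-s) • (1 - 2 * z') := by
  obtain ⟨h', ⟨φ⟩⟩ := arf_step h he hf hef hu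
  obtain ⟨hfree, hfin⟩ := free_perp h'
  refine ⟨_, _, h', ?_, fun s hs => star_step h he hf hef hs⟩
  rw [← φ.finrank_eq, Module.finrank_prod, Module.finrank_prod, Module.finrank_self]
  omega

theorem isUnit_sub_one_of_not_two {e f : M} (h2 : ¬ IsUnit (2 : R)) : IsUnit (4 * Q e * Q f - 1) := by
  by_contra hn
  have h4 : 4 * Q e * Q f ∈ IsLocalRing.maximalIdeal R := by
    rw [show 4 * Q e * Q f = 2 * (2 * Q e * Q f) by ring]
    exact Ideal.mul_mem_right _ _ ((IsLocalRing.mem_maximalIdeal _).2 h2)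
  have := sub_mem h4 ((IsLocalRing.mem_maximalIdeal _).2 hn)
  rw [sub_sub_cancel] at this
  exact (IsLocalRing.mem_maximalIdeal _).1 this isUnit_one

theorem exists_pair_of_regular (hQ : QuadGrp.IsRegular Q) {P : Submodule R M} {z : CliffordAlgebra Q} (h : Arf Q P z)
    (hr : 2 ≤ Module.finrank R (perp Q P)) :
    ∃ e ∈ perp Q P, ∃ f ∈ perp Q P, QuadraticMap.polar Q e f = 1 ∧ IsUnit (4 * Q e * Q f - 1) := by
  by_cases h2 : IsUnit (2 : R)
  · exact pair_of_unit_two hQ h h2 hr
  obtain ⟨hfree, hfin⟩ := free_perp h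
  let bW := Module.finBasisOfFinrankEq R (perp Q P) rfl
  let i₀ : Fin (Module.finrank R (perp Q P)) := ⟨0, by omega⟩
  obtain ⟨x, hx⟩ := hQ.2 ((bW.coord i₀).comp ((perp Q P).projectionOnto P h.compl.symm))
  refine ⟨x, fun p hp => ?_, bW i₀, (bW i₀).2, ?_, isUnit_sub_one_of_not_two h2⟩
  · rw [QuadraticMap.polar_comm, ← pol_apply, show pol Q x = _ from hx, LinearMap.comp_apply,
      Submodule.projectionOnto_apply_right h.compl.symm ⟨p, hp⟩, map_zero]
  · rw [← pol_apply, show pol Q x = _ from hx, LinearMap.comp_apply,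
      Submodule.projectionOnto_apply_left h.compl.symm (bW i₀)]
    simp

/-- Frames of regular forms. -/
theorem exists_arf_regular (hQ : QuadGrp.IsRegular Q) :
    ∀ k : ℕ, 2 * k ≤ Module.finrank R M → ∃ (P : Submodule R M) (z : CliffordAlgebra Q), Arf Q P z ∧
      Module.finrank R (perp Q P) + 2 * k = Module.finrank R M := by
  intro k
  induction k with
  | zero =>
    refine fun _ => ⟨⊥, 0, arf_bot Q, ?_⟩
    have : perp Q (⊥ : Submodule R M) = ⊤ := eq_top_iff.2 fun w _ p hp => by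
      rw [(Submodule.mem_bot R).1 hp, ← pol_apply, pol_zero, LinearMap.zero_apply]
    rw [this, finrank_top, mul_zero, add_zero]
  | succ k ih =>
    intro hk
    obtain ⟨P, z, h, hr⟩ := ih (by omega)
    obtain ⟨e, he, f, hf, hef, hu⟩ := exists_pair_of_regular hQ h (by omega)
    obtain ⟨P', z', h', hr', -⟩ := finrank_step h he hf hef hu
    exact ⟨P', z', h', by omega⟩

/-- The Arf element of a regular form of even rank. -/
theorem exists_arf_even {m : ℕ} (hM : Module.finrank R M = 2 * m) (hQ : QuadGrp.IsRegular Q) :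
    ∃ z : CliffordAlgebra Q, Arf Q ⊤ z := by
  obtain ⟨P, z, h, hr⟩ := exists_arf_regular hQ m (by omega)
  obtain ⟨hfree, hfin⟩ := free_perp h
  have h0 : Module.finrank R (perp Q P) = 0 := by omega
  haveI : Subsingleton (perp Q P) := (Module.finBasisOfFinrankEq R (perp Q P) h0).repr.toEquiv.subsingleton
  have hP : P = ⊤ := by
    rw [← h.compl.sup_eq_top, Submodule.subsingleton_iff_eq_bot.1 this, sup_bot_eq]
  exact ⟨z, hP ▸ h⟩

section odd

variable {n : ℕ} (b : Module.Basis (Fin n) R M)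

omit [IsLocalRing R] in
theorem isUnit_halfDisc_of_basis (hn : Odd n) (b' : Module.Basis (Fin n) R M)
    (hQ : QuadGrp.IsSemiregular b (LinearEquiv.refl R R) Q) : QuadGrp.IsSemiregular b' (LinearEquiv.refl R R) Q := by
  let g : M ≃ₗ[R] M := b.equiv b' (Equiv.refl _)
  have hg : ∀ i, g (b i) = b' i := fun i => by simp [g]
  have hc : QuadGrp.coeffs b (LinearEquiv.refl R R) (Q.comp g.toLinearMap) =
      QuadGrp.coeffs b' (LinearEquiv.refl R R) Q := by
    funext s
    induction s using Sym2.ind with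
    | _ i j => simp [QuadGrp.coeffs_mk, QuadraticMap.polar, hg]
  show IsUnit (QuadGrp.halfDisc b' (LinearEquiv.refl R R) Q)
  rw [QuadLib.halfDisc_eq_hd, ← hc, ← QuadLib.halfDisc_eq_hd, QuadLib.halfDisc_comp b Q hn]
  exact ((LinearEquiv.isUnit_det' g).pow 2).mul hQ

omit [IsLocalRing R] in
theorem isRegular_of_det (h : IsUnit (QuadLib.polarMat b Q).det) : QuadGrp.IsRegular Q := by
  have e : LinearMap.toMatrix b b.dualBasis (QuadraticMap.polarBilin Q) = (QuadLib.polarMat b Q).transpose := by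
    ext i j
    simp [LinearMap.toMatrix_apply, QuadLib.polarMat, Module.Basis.dualBasis_repr]
  exact (LinearEquiv.ofIsUnitDet (f := QuadraticMap.polarBilin Q) (v := b) (v' := b.dualBasis)
    (by rw [e, Matrix.det_transpose]; exact h)).bijective

omit [IsLocalRing R] in
theorem isRegular_of_two (hn : Odd n) (h2 : IsUnit (2 : R)) (hQ : QuadGrp.IsSemiregular b (LinearEquiv.refl R R) Q) :
    QuadGrp.IsRegular Q :=
  isRegular_of_det b (by rw [← QuadLib.two_mul_halfDisc b Q hn]; exact h2.mul hQ)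

omit [IsLocalRing R] in
/-- A basis adapted to a summand and its complement. -/
theorem exists_adapted {P : Submodule R M} {z : CliffordAlgebra Q} (h : Arf Q P z) [Module.Free R (perp Q P)]
    [Module.Finite R (perp Q P)] [Module.Free R P] [Module.Finite R P] [Nontrivial R]
    (hM : Module.finrank R M = n) :
    ∃ (b' : Module.Basis (Fin n) R M) (σ : Fin (Module.finrank R (perp Q P)) → Fin n), Function.Injective σ ∧
      (∀ i, b' (σ i) ∈ perp Q P) ∧ (∀ j, (∀ i, σ i ≠ j) → b' j ∈ P) := by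
  let bP := Module.finBasisOfFinrankEq R P rfl
  let bW := Module.finBasisOfFinrankEq R (perp Q P) rfl
  let e := Submodule.prodEquivOfIsCompl P (perp Q P) h.compl
  let b₀ := (bP.prod bW).map e
  have hcard : Module.finrank R P + Module.finrank R (perp Q P) = n := by
    rw [← hM, ← e.finrank_eq, Module.finrank_prod]
  let τ : Fin (Module.finrank R P) ⊕ Fin (Module.finrank R (perp Q P)) ≃ Fin n :=
    finSumFinEquiv.trans (finCongr hcard)
  refine ⟨b₀.reindex τ, fun i => τ (Sum.inr i), fun i j h => Sum.inr_injective (τ.injective h), fun i => ?_,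
    fun j hj => ?_⟩
  · rw [Module.Basis.reindex_apply, τ.symm_apply_apply]
    simp [b₀, e]
  · obtain ⟨x, rfl⟩ := τ.surjective j
    rcases x with x | x
    · rw [Module.Basis.reindex_apply, τ.symm_apply_apply]
      simp [b₀, e]
    · exact absurd rfl (hj x)

theorem free_summand {P : Submodule R M} {z : CliffordAlgebra Q} (h : Arf Q P z) :
    Module.Free R P ∧ Module.Finite R P := by
  have hs : (P.projectionOnto (perp Q P) h.compl).comp P.subtype = LinearMap.id :=
    LinearMap.ext fun w => Submodule.projectionOnto_apply_left h.compl w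
  haveI : Module.Projective R P := Module.Projective.of_split P.subtype (P.projectionOnto (perp Q P) h.compl) hs
  haveI : Module.Finite R P :=
    Module.Finite.of_surjective (P.projectionOnto (perp Q P) h.compl) fun w => ⟨w, LinearMap.congr_fun hs w⟩
  exact ⟨Module.free_of_flat_of_isLocalRing, inferInstance⟩

include b in
theorem exists_pair_of_semiregular (hn : Odd n) (hQ : QuadGrp.IsSemiregular b (LinearEquiv.refl R R) Q)
    {P : Submodule R M} {z : CliffordAlgebra Q} (h : Arf Q P z) (hr : 2 ≤ Module.finrank R (perp Q P)) :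
    ∃ e ∈ perp Q P, ∃ f ∈ perp Q P, QuadraticMap.polar Q e f = 1 ∧ IsUnit (4 * Q e * Q f - 1) := by
  by_cases h2 : IsUnit (2 : R)
  · exact exists_pair_of_regular (isRegular_of_two b hn h2 hQ) h hr
  by_contra hcon
  have hpm : ∀ e ∈ perp Q P, ∀ f ∈ perp Q P, QuadraticMap.polar Q e f ∈ IsLocalRing.maximalIdeal R := by
    intro e he f hf
    by_contra hu
    rw [IsLocalRing.mem_maximalIdeal, mem_nonunits_iff, not_not] at hu
    obtain ⟨u, hu⟩ := hu
    refine hcon ⟨e, he, (↑u⁻¹ : R) • f, Submodule.smul_mem _ _ hf, ?_, isUnit_sub_one_of_not_two h2⟩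
    rw [← pol_apply, map_smul, pol_apply, ← hu, smul_eq_mul, u.inv_mul]
  obtain ⟨hf1, hf2⟩ := free_perp h
  obtain ⟨hf3, hf4⟩ := free_summand h
  obtain ⟨b', σ, hσ, hW, hP⟩ := exists_adapted h (n := n) (by rw [Module.finrank_eq_card_basis b, Fintype.card_fin])
  have hu : IsUnit (QuadGrp.halfDisc b' (LinearEquiv.refl R R) Q) := isUnit_halfDisc_of_basis b hn b' hQ
  rw [QuadLib.halfDisc_eq_hd] at hu
  let k := IsLocalRing.ResidueField R
  have hk := hu.map (IsLocalRing.residue R)
  rw [QuadLib.map_hd] at hk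
  let i : Fin n := σ ⟨0, by omega⟩
  let i' : Fin n := σ ⟨1, by omega⟩
  have hne : i' ≠ i := fun he => by simpa using hσ he
  have hoff : ∀ i ∈ Set.range σ, ∀ j, j ≠ i →
      IsLocalRing.residue R (QuadGrp.coeffs b' (LinearEquiv.refl R R) Q s(i, j)) = 0 := by
    rintro _ ⟨a, rfl⟩ j hj
    rw [QuadGrp.coeffs_mk, if_neg hj.symm, LinearEquiv.refl_apply, IsLocalRing.residue_eq_zero_iff]
    by_cases hj' : ∃ a', σ a' = j
    · obtain ⟨a', rfl⟩ := hj'
      exact hpm _ (hW a) _ (hW a')
    · rw [QuadraticMap.polar_comm, (hW a) _ (hP j fun a' ha' => hj' ⟨a', ha'⟩)]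
      exact zero_mem _
  rw [QuadLib.hd_row hn _ i fun j hj => hoff i ⟨_, rfl⟩ j hj,
    Matrix.det_eq_zero_of_row_eq_zero i' fun j => ?_, mul_zero] at hk
  · exact not_isUnit_zero hk
  · rw [Matrix.updateRow_ne hne]
    rcases eq_or_ne i' j with rfl | hj
    · simp [QuadLib.pm, show (2 : k) = 0 by
        rw [← map_ofNat (IsLocalRing.residue R), IsLocalRing.residue_eq_zero_iff, IsLocalRing.mem_maximalIdeal]
        exact h2]
    · simp [QuadLib.pm, hj, hoff i' ⟨_, rfl⟩ j hj.symm]

include b in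
/-- Frames of semiregular forms of odd rank: the complement is a line with unit value. -/
theorem exists_arf_odd {m : ℕ} (hn : n = 2 * m + 1) (hQ : QuadGrp.IsSemiregular b (LinearEquiv.refl R R) Q) :
    ∃ (P : Submodule R M) (z : CliffordAlgebra Q) (b' : Module.Basis (Fin n) R M) (j : Fin n), Arf Q P z ∧
      b' j ∈ perp Q P ∧ IsUnit (Q (b' j)) ∧ (∀ i, i ≠ j → b' i ∈ P) ∧
      (∀ w ∈ perp Q P, ∃ a : R, w = a • b' j) ∧ star (1 - 2 * z) = ((-1 : R) ^ m) • (1 - 2 * z) := by
  have hM : Module.finrank R M = n := by rw [Module.finrank_eq_card_basis b, Fintype.card_fin]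
  have hodd : Odd n := ⟨m, hn⟩
  have hex : ∀ k : ℕ, k ≤ m → ∃ (P : Submodule R M) (z : CliffordAlgebra Q), Arf Q P z ∧
      Module.finrank R (perp Q P) + 2 * k = n ∧ star (1 - 2 * z) = ((-1 : R) ^ k) • (1 - 2 * z) := by
    intro k
    induction k with
    | zero =>
      refine fun _ => ⟨⊥, 0, arf_bot Q, ?_, by simp⟩
      have : perp Q (⊥ : Submodule R M) = ⊤ := eq_top_iff.2 fun w _ p hp => by
        rw [(Submodule.mem_bot R).1 hp, ← pol_apply, pol_zero, LinearMap.zero_apply]
      rw [this, finrank_top, mul_zero, add_zero, hM]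
    | succ k ih =>
      intro hk
      obtain ⟨P, z, h, hr, hst⟩ := ih (by omega)
      obtain ⟨e, he, f, hf, hef, hu⟩ := exists_pair_of_semiregular b hodd hQ h (by omega)
      obtain ⟨P', z', h', hr', hs'⟩ := finrank_step h he hf hef hu
      exact ⟨P', z', h', by omega, by rw [hs' _ hst, pow_succ, mul_neg_one]⟩
  obtain ⟨P, z, h, hr, hst⟩ := hex m le_rfl
  obtain ⟨hf1, hf2⟩ := free_perp h
  obtain ⟨hf3, hf4⟩ := free_summand h
  obtain ⟨b', σ, hσ, hW, hP⟩ := exists_adapted h hM
  have h1 : Module.finrank R (perp Q P) = 1 := by omega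
  let a₀ : Fin (Module.finrank R (perp Q P)) := ⟨0, by omega⟩
  have hone : ∀ a, a = a₀ := fun a => Fin.ext (by have := a.2; simp [a₀]; omega)
  have hP' : ∀ i, i ≠ σ a₀ → b' i ∈ P := fun i hi => hP i fun a ha => hi (by rw [← ha, hone a])
  refine ⟨P, z, b', σ a₀, h, hW a₀, ?_, hP', fun w hw => ?_, hst⟩
  · have hu : IsUnit (QuadGrp.halfDisc b' (LinearEquiv.refl R R) Q) := isUnit_halfDisc_of_basis b hodd b' hQ
    rw [QuadLib.halfDisc_eq_hd, QuadLib.hd_row hodd _ (σ a₀) fun j hj => by
      rw [QuadGrp.coeffs_mk, if_neg hj.symm, LinearEquiv.refl_apply, QuadraticMap.polar_comm]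
      exact hW a₀ _ (hP' j hj)] at hu
    rw [QuadGrp.coeffs_mk, if_pos rfl, LinearEquiv.refl_apply] at hu
    exact (IsUnit.mul_iff.1 hu).1
  · refine ⟨b'.repr w (σ a₀), ?_⟩
    have hrest : ∑ i ∈ Finset.univ.erase (σ a₀), b'.repr w i • b' i = w - b'.repr w (σ a₀) • b' (σ a₀) := by
      rw [eq_sub_iff_add_eq, Finset.sum_erase_add _ _ (Finset.mem_univ _), b'.sum_repr]
    have h0 : w - b'.repr w (σ a₀) • b' (σ a₀) = 0 := Submodule.disjoint_def.1 h.compl.disjoint _
      (by rw [← hrest]; exact sum_mem fun i hi => Submodule.smul_mem _ _ (hP' i (Finset.ne_of_mem_erase hi)))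
      (sub_mem hw (Submodule.smul_mem _ _ (hW a₀)))
    exact sub_eq_zero.1 h0

end odd

end Groth.Agent.CliffStr
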