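import Groth.Agent.CliffStr.Basic
import Groth.Agent.QuadLib.Fibre
import Groth.Agent.QuadLib.Orth
import Groth.Agent.QuadLib.SplitSorth
import Mathlib.RingTheory.LocalRing.Module
import Mathlib.LinearAlgebra.Projection

/-!
# Hyperbolic-like frames over local rings and the Arf element

`Arf Q P z`: `P` is an orthogonal direct summand with perfect pairing, and `z` is an even element with
`x z = (1 - z) x` on `P` and `x z = z x` on the orthogonal complement.
-/

set_option autoImplicit false
universe u v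

open CliffordAlgebra

namespace Groth.Agent.CliffStr

variable {R : Type u} [CommRing R] {M : Type v} [AddCommGroup M] [Module R M] {Q : QuadraticForm R M}

theorem pol_zero : pol Q 0 = 0 := map_zero (QuadraticMap.polarBilin Q)

theorem pol_add (x y : M) : pol Q (x + y) = pol Q x + pol Q y := map_add (QuadraticMap.polarBilin Q) x y

theorem pol_sub (x y : M) : pol Q (x - y) = pol Q x - pol Q y := map_sub (QuadraticMap.polarBilin Q) x y

theorem pol_smul (c : R) (x : M) : pol Q (c • x) = c • pol Q x := map_smul (QuadraticMap.polarBilin Q) c x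

/-- The orthogonal complement. -/
noncomputable def perp (Q : QuadraticForm R M) (P : Submodule R M) : Submodule R M where
  carrier := {w | ∀ p ∈ P, QuadraticMap.polar Q p w = 0}
  add_mem' := fun {a b} ha hb p hp => by rw [← pol_apply, map_add, pol_apply, pol_apply, ha p hp, hb p hp, add_zero]
  zero_mem' := fun p _ => by rw [← pol_apply, map_zero]
  smul_mem' := fun c a ha p hp => by rw [← pol_apply, map_smul, pol_apply, ha p hp, smul_zero]

theorem mem_perp {P : Submodule R M} {w : M} : w ∈ perp Q P ↔ ∀ p ∈ P, QuadraticMap.polar Q p w = 0 := Iff.rfl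

theorem ι_anticomm {x y : M} (h : QuadraticMap.polar Q x y = 0) : ι Q x * ι Q y = -(ι Q y * ι Q x) := by
  rw [ι_swap, h, map_zero, zero_sub]

/-- An orthogonal summand with its Arf element. -/
structure Arf (Q : QuadraticForm R M) (P : Submodule R M) (z : CliffordAlgebra Q) : Prop where
  even : z ∈ evenOdd Q 0
  on : ∀ x ∈ P, ι Q x * z = (1 - z) * ι Q x
  off : ∀ x ∈ perp Q P, ι Q x * z = z * ι Q x
  sq : ∃ c : R, z * z = z + algebraMap R _ c ∧ IsUnit (1 + 4 * c)
  compl : IsCompl P (perp Q P)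
  perf : ∀ f : Module.Dual R M, (∀ w ∈ perp Q P, f w = 0) → ∃ x ∈ P, pol Q x = f

theorem arf_bot (Q : QuadraticForm R M) : Arf Q ⊥ 0 where
  even := zero_mem _
  on x hx := by rw [(Submodule.mem_bot R).1 hx, map_zero, zero_mul, mul_zero]
  off x _ := by rw [mul_zero, zero_mul]
  sq := ⟨0, by simp⟩
  compl := by
    have : perp Q (⊥ : Submodule R M) = ⊤ := eq_top_iff.2 fun w _ p hp => by
      rw [(Submodule.mem_bot R).1 hp, ← pol_apply, pol_zero, LinearMap.zero_apply]
    rw [this]
    exact isCompl_bot_top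
  perf f hf := ⟨0, zero_mem _, LinearMap.ext fun w => by
    rw [pol_zero, LinearMap.zero_apply, hf w fun p hp => by
      rw [(Submodule.mem_bot R).1 hp, ← pol_apply, pol_zero, LinearMap.zero_apply]]⟩

theorem isUnit_w {P : Submodule R M} {z : CliffordAlgebra Q} (h : Arf Q P z) : IsUnit (1 - 2 * z) := by
  obtain ⟨c, hc, hu⟩ := h.sq
  obtain ⟨u, hu⟩ := hu
  have h1 : (1 - 2 * z) * (1 - 2 * z) = algebraMap R _ (1 + 4 * c) := by
    rw [map_add, map_one, map_mul, map_ofNat, sub_mul, one_mul, mul_sub, mul_one,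
      show 2 * z * (2 * z) = 4 * (z * z) by noncomm_ring, hc]
    noncomm_ring
  have h2 : IsUnit (algebraMap R (CliffordAlgebra Q) (1 + 4 * c)) := (hu ▸ u.isUnit).map _
  rw [← h1] at h2
  exact ((Commute.refl _).isUnit_mul_iff.1 h2).1

section step

variable {P : Submodule R M} {z : CliffordAlgebra Q} (h : Arf Q P z) {e f : M} (he : e ∈ perp Q P)
  (hf : f ∈ perp Q P) (hef : QuadraticMap.polar Q e f = 1) (hu : IsUnit (4 * Q e * Q f - 1))

include hu in
theorem exists_solve (s t : R) :
    ∃ α β : R, α * (2 * Q e) + β = s ∧ α + β * (2 * Q f) = t := by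
  obtain ⟨u, hu⟩ := hu
  refine ⟨(↑u⁻¹ : R) * (2 * Q f * s - t), (↑u⁻¹ : R) * (2 * Q e * t - s), ?_, ?_⟩
  · linear_combination (norm := (rw [hu]; ring)) (s : R) * u.inv_mul
  · linear_combination (norm := (rw [hu]; ring)) (t : R) * u.inv_mul

include hef in
theorem polar_pair (α β : R) :
    QuadraticMap.polar Q e (α • e + β • f) = α * (2 * Q e) + β ∧
      QuadraticMap.polar Q f (α • e + β • f) = α + β * (2 * Q f) := by
  constructor
  · rw [← pol_apply, map_add, map_smul, map_smul, pol_apply, pol_apply, hef, QuadraticMap.polar_self]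
    simp only [smul_eq_mul, nsmul_eq_mul, Nat.cast_ofNat]
    ring
  · rw [← pol_apply, map_add, map_smul, map_smul, pol_apply, pol_apply, QuadraticMap.polar_comm _ f e, hef,
      QuadraticMap.polar_self]
    simp only [smul_eq_mul, nsmul_eq_mul, Nat.cast_ofNat]
    ring

theorem mem_perp_sup {w : M} :
    w ∈ perp Q (P ⊔ Submodule.span R {e, f}) ↔
      w ∈ perp Q P ∧ QuadraticMap.polar Q e w = 0 ∧ QuadraticMap.polar Q f w = 0 := by
  constructor
  · intro hw
    exact ⟨fun p hp => hw p (Submodule.mem_sup_left hp),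
      hw e (Submodule.mem_sup_right (Submodule.subset_span (Set.mem_insert _ _))),
      hw f (Submodule.mem_sup_right (Submodule.subset_span (Set.mem_insert_of_mem _ rfl)))⟩
  · rintro ⟨h1, h2, h3⟩ p hp
    obtain ⟨a, ha, b, hb, rfl⟩ := Submodule.mem_sup.1 hp
    obtain ⟨α, β, rfl⟩ := Submodule.mem_span_pair.1 hb
    rw [← pol_apply, pol_add, pol_add, pol_smul, pol_smul]
    simp only [LinearMap.add_apply, LinearMap.smul_apply, pol_apply, h1 a ha, h2, h3, smul_zero, add_zero]

include h he hf hef hu in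
/-- Adjoining a nondegenerate plane. -/
theorem arf_step : Arf Q (P ⊔ Submodule.span R {e, f}) (ι Q e * ι Q f + z - 2 * (ι Q e * ι Q f * z)) ∧
    Nonempty (((R × R) × perp Q (P ⊔ Submodule.span R {e, f})) ≃ₗ[R] perp Q P) := by
  have hze : ι Q e * z = z * ι Q e := h.off e he
  have hzf : ι Q f * z = z * ι Q f := h.off f hf
  set a := ι Q e * ι Q f with ha
  have hza : z * a = a * z := by rw [ha, ← mul_assoc, ← hze, mul_assoc, ← hzf, mul_assoc]
  have hfe : ι Q f * ι Q e = 1 - a := by
    rw [ι_swap, QuadraticMap.polar_comm, hef, map_one, ha]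
  have hea : ι Q e * a = (1 - a) * ι Q e := by
    rw [sub_mul, one_mul, ha, mul_assoc (ι Q e) (ι Q f) (ι Q e), hfe, mul_sub, mul_one, sub_sub_cancel, ha]
  have hfa : ι Q f * a = (1 - a) * ι Q f := by rw [ha, ← mul_assoc, hfe]
  have haa : a * a = a + algebraMap R _ (-(Q e * Q f)) := by
    calc a * a = ι Q e * (ι Q f * ι Q e) * ι Q f := by rw [ha]; noncomm_ring
      _ = a - (ι Q e * ι Q e) * (ι Q f * ι Q f) := by rw [hfe, ha]; noncomm_ring
      _ = _ := by rw [ι_sq_scalar, ι_sq_scalar, ← map_mul, map_neg, sub_eq_add_neg]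
  have hout : ∀ x, QuadraticMap.polar Q e x = 0 → QuadraticMap.polar Q f x = 0 → ι Q x * a = a * ι Q x := by
    intro x h1 h2
    have e1 := ι_anticomm (Q := Q) h1
    have e2 := ι_anticomm (Q := Q) h2
    rw [ha, ← mul_assoc, ← neg_eq_iff_eq_neg.2 e1, neg_mul, mul_assoc (ι Q e) (ι Q x),
      ← neg_eq_iff_eq_neg.2 e2]
    noncomm_ring
  have hxon : ∀ x ∈ P, ι Q x * a = a * ι Q x := fun x hx => hout x
    (by rw [QuadraticMap.polar_comm]; exact he x hx) (by rw [QuadraticMap.polar_comm]; exact hf x hx)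
  refine ⟨⟨?_, ?_, ?_, ?_, ?_, ?_⟩, ?_⟩
  · -- parity
    have hae : a ∈ evenOdd Q 0 := ι_mul_ι_mem_evenOdd_zero Q e f
    have haz : a * z ∈ evenOdd Q 0 := by simpa using SetLike.mul_mem_graded hae h.even
    refine sub_mem (add_mem hae h.even) ?_
    rw [two_mul]
    exact add_mem haz haz
  · -- on the new summand
    intro x hx
    obtain ⟨p, hp, q, hq, rfl⟩ := Submodule.mem_sup.1 hx
    have key : ∀ y : CliffordAlgebra Q, (y * a = (1 - a) * y ∧ y * z = z * y) ∨ (y * a = a * y ∧ y * z = (1 - z) * y) →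
        y * (a + z - 2 * (a * z)) = (1 - (a + z - 2 * (a * z))) * y := by
      rintro y (⟨h1, h2⟩ | ⟨h1, h2⟩)
      · have h3 : y * (a * z) = (1 - a) * z * y := by rw [← mul_assoc, h1, mul_assoc, h2, ← mul_assoc]
        rw [mul_sub, mul_add, h1, h2, two_mul, mul_add, h3]
        noncomm_ring
      · have h3 : y * (a * z) = a * (1 - z) * y := by rw [← mul_assoc, h1, mul_assoc, h2, ← mul_assoc]
        rw [mul_sub, mul_add, h1, h2, two_mul, mul_add, h3]
        noncomm_ring
    obtain ⟨α, β, rfl⟩ := Submodule.mem_span_pair.1 hq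
    simp only [map_add, map_smul, add_mul, mul_add (1 - (a + z - 2 * (a * z))), smul_mul_assoc, mul_smul_comm,
      key (ι Q p) (Or.inr ⟨hxon p hp, h.on p hp⟩), key (ι Q e) (Or.inl ⟨hea, hze⟩), key (ι Q f) (Or.inl ⟨hfa, hzf⟩)]
  · -- on the complement
    intro x hx
    obtain ⟨h1, h2, h3⟩ := mem_perp_sup.1 hx
    have e1 := hout x h2 h3
    have e2 := h.off x h1
    have e3 : ι Q x * (a * z) = a * z * ι Q x := by rw [← mul_assoc, e1, mul_assoc, e2, ← mul_assoc]
    rw [mul_sub, mul_add, e1, e2, two_mul, mul_add, e3]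
    noncomm_ring
  · -- the square
    obtain ⟨c, hc, hcu⟩ := h.sq
    refine ⟨-(Q e * Q f) + c + 4 * -(Q e * Q f) * c, ?_, ?_⟩
    · have h4 : a * z * (a * z) = a * a * (z * z) := by rw [mul_assoc a z, ← mul_assoc z a z, hza]; noncomm_ring
      have hexp : (a + z - 2 * (a * z)) * (a + z - 2 * (a * z)) =
          a * a + z * z + 2 * (a * z) + 4 * (a * a * (z * z)) - 4 * (a * a * z) - 4 * (a * (z * z)) := by
        calc (a + z - 2 * (a * z)) * (a + z - 2 * (a * z))
            = a * a + z * z + (a * z + z * a) + 4 * (a * z * (a * z)) - 2 * (a * a * z) - 2 * (z * a * z) -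
              2 * (a * z * a) - 2 * (a * z * z) := by noncomm_ring
          _ = _ := by rw [h4, hza, mul_assoc a z a, hza]; noncomm_ring
      rw [hexp, haa, hc, map_add, map_add, map_mul, map_mul, map_ofNat]
      generalize algebraMap R (CliffordAlgebra Q) (-(Q e * Q f)) = c1
      generalize hc2 : algebraMap R (CliffordAlgebra Q) c = c2
      have hcc : a * c2 = c2 * a := by rw [← hc2, Algebra.commutes]
      noncomm_ring [hcc]
    · rw [show (1 : R) + 4 * (-(Q e * Q f) + c + 4 * -(Q e * Q f) * c) = -(4 * Q e * Q f - 1) * (1 + 4 * c) by ring]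
      exact hu.neg.mul hcu
  · -- complement
    refine isCompl_iff.2 ⟨Submodule.disjoint_def.2 fun x hx hx' => ?_, codisjoint_iff.2 (eq_top_iff.2 fun x _ => ?_)⟩
    · obtain ⟨p, hp, q, hq, rfl⟩ := Submodule.mem_sup.1 hx
      obtain ⟨h1, h2, h3⟩ := mem_perp_sup.1 hx'
      obtain ⟨α, β, rfl⟩ := Submodule.mem_span_pair.1 hq
      have hp0 : p = 0 := Submodule.disjoint_def.1 h.compl.disjoint p hp
        ((Submodule.add_mem_iff_left _ (add_mem (Submodule.smul_mem _ α he) (Submodule.smul_mem _ β hf))).1 h1)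
      rw [hp0, zero_add] at h2 h3 ⊢
      obtain ⟨e1, e2⟩ := polar_pair hef α β
      rw [h2] at e1
      rw [h3] at e2
      have hα : (4 * Q e * Q f - 1) * α = 0 := by linear_combination (-(2 * Q f)) * e1 + e2
      have hβ : (4 * Q e * Q f - 1) * β = 0 := by linear_combination (-(2 * Q e)) * e2 + e1
      rw [hu.mul_right_eq_zero] at hα hβ
      rw [hα, hβ, zero_smul, zero_smul, add_zero]
    · obtain ⟨p, hp, w, hw, rfl⟩ := Submodule.mem_sup.1 (h.compl.sup_eq_top.ge (Submodule.mem_top (x := x)))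
      obtain ⟨α, β, hs, ht⟩ := exists_solve hu (QuadraticMap.polar Q e w) (QuadraticMap.polar Q f w)
      refine Submodule.mem_sup.2 ⟨p + (α • e + β • f), add_mem (Submodule.mem_sup_left hp)
        (Submodule.mem_sup_right (Submodule.mem_span_pair.2 ⟨α, β, rfl⟩)), w - (α • e + β • f),
        mem_perp_sup.2 ⟨sub_mem hw (add_mem (Submodule.smul_mem _ α he) (Submodule.smul_mem _ β hf)), ?_, ?_⟩, by abel⟩
      · rw [← pol_apply, map_sub, pol_apply, pol_apply, (polar_pair hef α β).1, hs, sub_self]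
      · rw [← pol_apply, map_sub, pol_apply, pol_apply, (polar_pair hef α β).2, ht, sub_self]
  · -- perfectness
    intro g hg
    obtain ⟨α, β, hs, ht⟩ := exists_solve hu (g e) (g f)
    obtain ⟨x, hx, hxg⟩ := h.perf (g - pol Q (α • e + β • f)) fun w hw => by
      obtain ⟨γ, δ, hs', ht'⟩ := exists_solve hu (QuadraticMap.polar Q e w) (QuadraticMap.polar Q f w)
      have hw' : w - (γ • e + δ • f) ∈ perp Q (P ⊔ Submodule.span R {e, f}) :=
        mem_perp_sup.2 ⟨sub_mem hw (add_mem (Submodule.smul_mem _ γ he) (Submodule.smul_mem _ δ hf)),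
          by rw [← pol_apply, map_sub, pol_apply, pol_apply, (polar_pair hef γ δ).1, hs', sub_self],
          by rw [← pol_apply, map_sub, pol_apply, pol_apply, (polar_pair hef γ δ).2, ht', sub_self]⟩
      obtain ⟨-, h2, h3⟩ := mem_perp_sup.1 hw'
      have e1 : g w = γ * g e + δ * g f := by
        have h4 := hg _ hw'
        rw [map_sub, sub_eq_zero] at h4
        rw [h4, map_add, map_smul, map_smul, smul_eq_mul, smul_eq_mul]
      have e2 : QuadraticMap.polar Q (α • e + β • f) w = γ * g e + δ * g f := by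
        rw [← pol_apply, pol_add, pol_smul, pol_smul]
        simp only [LinearMap.add_apply, LinearMap.smul_apply, pol_apply, smul_eq_mul]
        rw [← hs', ← ht', ← hs, ← ht]
        ring
      rw [LinearMap.sub_apply, e1, pol_apply, e2, sub_self]
    exact ⟨x + (α • e + β • f), add_mem (Submodule.mem_sup_left hx)
      (Submodule.mem_sup_right (Submodule.mem_span_pair.2 ⟨α, β, rfl⟩)), by rw [pol_add, hxg, sub_add_cancel]⟩
  · -- the complement, split
    let F : ((R × R) × perp Q (P ⊔ Submodule.span R {e, f})) →ₗ[R] perp Q P :=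
      (((LinearMap.toSpanSingleton R M e).comp (LinearMap.fst R R R) +
          (LinearMap.toSpanSingleton R M f).comp (LinearMap.snd R R R)).comp (LinearMap.fst R _ _) +
        (Submodule.subtype _).comp (LinearMap.snd R _ _)).codRestrict _ fun p =>
        add_mem (add_mem (Submodule.smul_mem _ _ he) (Submodule.smul_mem _ _ hf)) (mem_perp_sup.1 p.2.2).1
    refine ⟨LinearEquiv.ofBijective F ⟨(injective_iff_map_eq_zero _).2 fun p hp => ?_, fun w => ?_⟩⟩
    · obtain ⟨⟨α, β⟩, w⟩ := p
      have h0 : α • e + β • f + (w : M) = 0 := congrArg Subtype.val hp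
      obtain ⟨-, h2, h3⟩ := mem_perp_sup.1 w.2
      obtain ⟨e1, e2⟩ := polar_pair hef α β
      have h4 := congrArg (pol Q e) h0
      have h5 := congrArg (pol Q f) h0
      rw [map_add (pol Q e) _ (w : M), map_zero, pol_apply, pol_apply, h2, add_zero, e1] at h4
      rw [map_add (pol Q f) _ (w : M), map_zero, pol_apply, pol_apply, h3, add_zero, e2] at h5
      have hα : (4 * Q e * Q f - 1) * α = 0 := by linear_combination (2 * Q f) * h4 - h5
      have hβ : (4 * Q e * Q f - 1) * β = 0 := by linear_combination (2 * Q e) * h5 - h4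
      rw [hu.mul_right_eq_zero] at hα hβ
      rw [hα, hβ, zero_smul, zero_smul, add_zero, zero_add] at h0
      exact Prod.ext (Prod.ext hα hβ) (Subtype.ext h0)
    · obtain ⟨γ, δ, hs', ht'⟩ := exists_solve hu (QuadraticMap.polar Q e w.1) (QuadraticMap.polar Q f w.1)
      refine ⟨((γ, δ), ⟨w.1 - (γ • e + δ • f), mem_perp_sup.2
        ⟨sub_mem w.2 (add_mem (Submodule.smul_mem _ γ he) (Submodule.smul_mem _ δ hf)),
          by rw [← pol_apply, map_sub, pol_apply, pol_apply, (polar_pair hef γ δ).1, hs', sub_self],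
          by rw [← pol_apply, map_sub, pol_apply, pol_apply, (polar_pair hef γ δ).2, ht', sub_self]⟩⟩), Subtype.ext ?_⟩
      show γ • e + δ • f + (w.1 - (γ • e + δ • f)) = w.1
      rw [add_sub_cancel]

end step

section exists_frame

variable [IsLocalRing R] [Module.Free R M] [Module.Finite R M]

theorem free_perp {P : Submodule R M} {z : CliffordAlgebra Q} (h : Arf Q P z) :
    Module.Free R (perp Q P) ∧ Module.Finite R (perp Q P) := by
  have hs : ((perp Q P).projectionOnto P h.compl.symm).comp (perp Q P).subtype = LinearMap.id :=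
    LinearMap.ext fun w => Submodule.projectionOnto_apply_left h.compl.symm w
  haveI : Module.Projective R (perp Q P) :=
    Module.Projective.of_split (perp Q P).subtype ((perp Q P).projectionOnto P h.compl.symm) hs
  haveI : Module.Finite R (perp Q P) := Module.Finite.of_surjective ((perp Q P).projectionOnto P h.compl.symm)
    fun w => ⟨w, LinearMap.congr_fun hs w⟩
  exact ⟨Module.free_of_flat_of_isLocalRing, inferInstance⟩

theorem pair_of_unit_two (hQ : QuadGrp.IsRegular Q) {P : Submodule R M} {z : CliffordAlgebra Q} (h : Arf Q P z)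
    (h2 : IsUnit (2 : R)) (hr : 2 ≤ Module.finrank R (perp Q P)) :
    ∃ e ∈ perp Q P, ∃ f ∈ perp Q P, QuadraticMap.polar Q e f = 1 ∧ IsUnit (4 * Q e * Q f - 1) := by
  obtain ⟨hfree, hfin⟩ := free_perp h
  -- polar is perfect on the complement
  have hperf : ∀ g : Module.Dual R M, (∀ p ∈ P, g p = 0) → ∃ x ∈ perp Q P, pol Q x = g := fun g hg => by
    obtain ⟨x, hx⟩ := hQ.2 g
    exact ⟨x, fun p hp => by rw [QuadraticMap.polar_comm, ← pol_apply, show pol Q x = g from hx, hg p hp], hx⟩
  have hval : ∀ W : Submodule R M, (∃ a ∈ W, ∃ a' ∈ W, IsUnit (QuadraticMap.polar Q a a')) →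
      ∃ a ∈ W, IsUnit (Q a) := by
    rintro W ⟨a, ha, a', ha', hu⟩
    by_contra hcon
    push Not at hcon
    have hm : ∀ b ∈ W, Q b ∈ IsLocalRing.maximalIdeal R := fun b hb => (IsLocalRing.mem_maximalIdeal _).2 (hcon b hb)
    have hpm : QuadraticMap.polar Q a a' ∈ IsLocalRing.maximalIdeal R :=
      sub_mem (sub_mem (hm _ (add_mem ha ha')) (hm a ha)) (hm a' ha')
    exact ((IsLocalRing.mem_maximalIdeal _).1 hpm) hu
  -- a first vector of unit value
  let bW := Module.finBasisOfFinrankEq R (perp Q P) rfl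
  let i₀ : Fin (Module.finrank R (perp Q P)) := ⟨0, by omega⟩
  obtain ⟨g, hg, hg'⟩ := hperf (((bW.coord i₀)).comp ((perp Q P).projectionOnto P h.compl.symm)) fun p hp => by
    rw [LinearMap.comp_apply, Submodule.projectionOnto_apply_right h.compl.symm ⟨p, hp⟩, map_zero]
  have hone : QuadraticMap.polar Q g (bW i₀ : M) = 1 := by
    rw [← pol_apply, hg', LinearMap.comp_apply, Submodule.projectionOnto_apply_left h.compl.symm (bW i₀)]
    simp
  obtain ⟨e, he, ⟨ue, hue⟩⟩ := hval (perp Q P) ⟨g, hg, bW i₀, (bW i₀).2, by rw [hone]; exact isUnit_one⟩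
  obtain ⟨t, ht⟩ := h2
  -- the complement of that vector
  let r : M → R := fun w => (↑t⁻¹ : R) * ↑ue⁻¹ * QuadraticMap.polar Q e w
  have hr0 : ∀ w, QuadraticMap.polar Q e (w - r w • e) = 0 := fun w => by
    rw [← pol_apply, map_sub, map_smul, pol_apply, pol_apply, QuadraticMap.polar_self]
    simp only [r, smul_eq_mul, nsmul_eq_mul, Nat.cast_ofNat, ← hue, ← ht]
    linear_combination (-(QuadraticMap.polar Q e w) * (↑ue⁻¹ * ↑ue : R)) * t.inv_mul -
      QuadraticMap.polar Q e w * ue.inv_mul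
  let W' : Submodule R M := perp Q P ⊓ LinearMap.ker (pol Q e)
  have hdec : ∀ w ∈ perp Q P, w - r w • e ∈ W' := fun w hw =>
    ⟨sub_mem hw (Submodule.smul_mem _ _ he), LinearMap.mem_ker.2 (hr0 w)⟩
  -- some vector of that complement has a unit coordinate
  obtain ⟨a, ha, i, hai⟩ : ∃ a : perp Q P, QuadraticMap.polar Q e a = 0 ∧ ∃ i, IsUnit (bW.repr a i) := by
    let a : Fin (Module.finrank R (perp Q P)) → perp Q P := fun j => bW j - r (bW j : M) • ⟨e, he⟩
    have ha : ∀ j, QuadraticMap.polar Q e (a j : M) = 0 := fun j => hr0 (bW j : M)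
    by_contra hcon
    push Not at hcon
    have hm : ∀ j i, bW.repr (a j) i ∈ IsLocalRing.maximalIdeal R := fun j i =>
      (IsLocalRing.mem_maximalIdeal _).2 (hcon (a j) (ha j) i)
    let i₁ : Fin (Module.finrank R (perp Q P)) := ⟨1, by omega⟩
    have hne : i₀ ≠ i₁ := by simp [i₀, i₁]
    have hcoef : ∀ j i, bW.repr (a j) i = Finsupp.single j 1 i - r (bW j : M) * bW.repr ⟨e, he⟩ i := fun j i => by
      simp only [a, map_sub, map_smul, bW.repr_self, Finsupp.sub_apply, Finsupp.smul_apply, smul_eq_mul]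
    have k00 := hm i₀ i₀
    have k01 := hm i₀ i₁
    have k11 := hm i₁ i₁
    rw [hcoef, Finsupp.single_eq_same] at k00 k11
    rw [hcoef, Finsupp.single_eq_of_ne hne.symm, zero_sub, neg_mem_iff] at k01
    have hr0u : IsUnit (r (bW i₀ : M)) := by
      by_contra hn
      have := add_mem k00 (Ideal.mul_mem_right (bW.repr ⟨e, he⟩ i₀) _ ((IsLocalRing.mem_maximalIdeal _).2 hn))
      rw [sub_add_cancel] at this
      exact (IsLocalRing.mem_maximalIdeal _).1 this isUnit_one
    obtain ⟨v, hv⟩ := hr0u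
    have h1 : bW.repr ⟨e, he⟩ i₁ ∈ IsLocalRing.maximalIdeal R := by
      have := Ideal.mul_mem_left _ (↑v⁻¹ : R) k01
      rwa [← mul_assoc, ← hv, v.inv_mul, one_mul] at this
    have := add_mem k11 (Ideal.mul_mem_left _ (r (bW i₁ : M)) h1)
    rw [sub_add_cancel] at this
    exact (IsLocalRing.mem_maximalIdeal _).1 this isUnit_one
  obtain ⟨x, hx, hx'⟩ := hperf ((bW.coord i).comp ((perp Q P).projectionOnto P h.compl.symm)) fun p hp => by
    rw [LinearMap.comp_apply, Submodule.projectionOnto_apply_right h.compl.symm ⟨p, hp⟩, map_zero]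
  have hxa : QuadraticMap.polar Q (x - r x • e) (a : M) = bW.repr a i := by
    rw [← pol_apply, pol_sub, pol_smul, LinearMap.sub_apply, LinearMap.smul_apply, pol_apply e, ha, smul_zero,
      sub_zero, hx', LinearMap.comp_apply, Submodule.projectionOnto_apply_left h.compl.symm a]
    rfl
  obtain ⟨f₀, hf₀, hf₀u⟩ := hval W' ⟨x - r x • e, hdec x hx, a, ⟨a.2, LinearMap.mem_ker.2 ha⟩, by rw [hxa]; exact hai⟩
  let c : R := ↑t⁻¹ * ↑ue⁻¹
  have hc : c * (2 * Q e) = 1 := by
    rw [← hue, ← ht]
    linear_combination (↑ue⁻¹ * ↑ue : R) * t.inv_mul + ue.inv_mul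
  have hf0 : QuadraticMap.polar Q e f₀ = 0 := LinearMap.mem_ker.1 hf₀.2
  refine ⟨e, he, f₀ + c • e, add_mem hf₀.1 (Submodule.smul_mem _ _ he), ?_, ?_⟩
  · rw [← pol_apply, map_add, map_smul, pol_apply, pol_apply, hf0, QuadraticMap.polar_self, zero_add]
    simp only [smul_eq_mul, nsmul_eq_mul, Nat.cast_ofNat]
    exact hc
  · rw [QuadraticMap.map_add (⇑Q), QuadraticMap.map_smul, QuadraticMap.polar_comm, ← pol_apply, pol_smul,
      LinearMap.smul_apply, pol_apply, hf0, smul_zero, add_zero, smul_eq_mul,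
      show 4 * Q e * (Q f₀ + c * c * Q e) - 1 = 2 * 2 * Q e * Q f₀ + ((c * (2 * Q e)) ^ 2 - 1) by ring, hc, one_pow,
      sub_self, add_zero]
    rw [← ht, ← hue]
    exact ((t.isUnit.mul t.isUnit).mul ue.isUnit).mul hf₀u

end exists_frame

end Groth.Agent.CliffStr
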