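import Groth.Agent.CliffStr.Inner
import Groth.Agent.CliffStr.OddGlobal

/-!
# Semiregular Clifford algebras of odd rank: the even part and the even Clifford group

`OddFrame`: an Arf element with the line left over.  `evenEquiv`: the even subalgebra is the Clifford algebra of
the regular form `c² Q` on the plane part. `exists_even_unit`: isometries of determinant one come from even units.
-/

set_option autoImplicit false
universe u v

open CliffordAlgebra TensorProduct

namespace Groth.Agent.CliffStr

variable {R : Type u} [CommRing R] {M : Type v} [AddCommGroup M] [Module R M] {Q : QuadraticForm R M}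
  {n : ℕ}

theorem mem_even_iff {y : CliffordAlgebra Q} : y ∈ CliffordAlgebra.even Q ↔ y ∈ evenOdd Q 0 := by
  rw [← CliffordAlgebra.even_toSubmodule, Subalgebra.mem_toSubmodule]

/-- Odd rank data: an Arf element on a summand and the line left over. -/
structure OddFrame (Q : QuadraticForm R M) (n : ℕ) where
  /-- the summand -/
  P : Submodule R M
  /-- the Arf element -/
  z : CliffordAlgebra Q
  /-- adapted basis -/
  b : Module.Basis (Fin (n + 1)) R M
  /-- the line -/
  j : Fin (n + 1)
  arf : Arf Q P z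
  hv : b j ∈ perp Q P
  hvu : IsUnit (Q (b j))
  hrest : ∀ i, i ≠ j → b i ∈ P
  hline : ∀ w ∈ perp Q P, ∃ a : R, w = a • b j

namespace OddFrame

variable (F : OddFrame Q n)

/-- The odd central element. -/
noncomputable def c : CliffordAlgebra Q := oddGen F.z (F.b F.j)

theorem c_odd : F.c ∈ evenOdd Q 1 := oddGen_mem F.arf

theorem c_central (x : M) : ι Q x * F.c = F.c * ι Q x := oddGen_central F.arf F.hv F.hrest x

theorem exists_sq : ∃ t : Rˣ, F.c * F.c = algebraMap R _ (t : R) := by
  obtain ⟨t, ht, htc⟩ := oddGen_sq F.arf F.hv F.hvu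
  exact ⟨ht.unit, htc⟩

/-- The square of the odd central element. -/
noncomputable def t : Rˣ := Classical.choose F.exists_sq

theorem c_sq : F.c * F.c = algebraMap R _ (F.t : R) := Classical.choose_spec F.exists_sq

theorem c_commute (y : CliffordAlgebra Q) : y * F.c = F.c * y :=
  Subalgebra.mem_center_iff.1 ((mem_center_iff F.c).2 F.c_central) y

theorem mul_c_cancel {x y : CliffordAlgebra Q} (h : x * F.c = y * F.c) : x = y := by
  have := congrArg (fun a => (↑F.t⁻¹ : R) • (a * F.c)) h
  simpa only [mul_assoc, F.c_sq, ← Algebra.commutes, ← Algebra.smul_def, smul_smul, Units.inv_mul, one_smul] using this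

theorem mem_P {x : M} (hx : x ∈ F.P) : F.b.coord F.j x = 0 := by
  have hd : x - (x - F.b.coord F.j x • F.b F.j) = F.b.coord F.j x • F.b F.j := sub_sub_cancel _ _
  have h1 : x - F.b.coord F.j x • F.b F.j ∈ F.P := by
    rw [show x - F.b.coord F.j x • F.b F.j = ∑ i ∈ Finset.univ.erase F.j, F.b.repr x i • F.b i by
      rw [sub_eq_iff_eq_add', Module.Basis.coord_apply, Finset.add_sum_erase _ (fun i => F.b.repr x i • F.b i)
        (Finset.mem_univ F.j), F.b.sum_repr]]
    exact sum_mem fun i hi => F.P.smul_mem _ (F.hrest i (Finset.ne_of_mem_erase hi))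
  have h2 : F.b.coord F.j x • F.b F.j = 0 := Submodule.disjoint_def.1 F.arf.compl.disjoint _
    (hd ▸ sub_mem hx h1) ((perp Q F.P).smul_mem _ F.hv)
  simpa using congrArg (F.b.coord F.j) h2

/-- A basis of the summand. -/
noncomputable def basisP : Module.Basis (Fin n) R F.P :=
  Module.Basis.mk (v := fun i => (⟨F.b (F.j.succAbove i), F.hrest _ (Fin.succAbove_ne _ _)⟩ : F.P))
    (LinearIndependent.of_comp F.P.subtype (F.b.linearIndependent.comp _ Fin.succAbove_right_injective))
    (fun x _ => by
      have e : x = ∑ i, F.b.coord (F.j.succAbove i) (x : M) •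
          (⟨F.b (F.j.succAbove i), F.hrest _ (Fin.succAbove_ne _ _)⟩ : F.P) := Subtype.ext (by
        rw [Submodule.coe_sum]
        conv_lhs => rw [← F.b.sum_repr (x : M), Fin.sum_univ_succAbove _ F.j]
        rw [← Module.Basis.coord_apply, F.mem_P x.2, zero_smul, zero_add]
        rfl)
      rw [e]
      exact sum_mem fun i _ => Submodule.smul_mem _ _ (Submodule.subset_span ⟨i, rfl⟩))

/-- The regular form on the summand whose Clifford algebra is the even part. -/
noncomputable def form : QuadraticForm R F.P := (F.t : R) • Q.comp F.P.subtype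

theorem form_apply (x : F.P) : F.form x = (F.t : R) * Q (x : M) := rfl

theorem form_regular : QuadGrp.IsRegular F.form := by
  have hp : ∀ x y : F.P, QuadraticMap.polar F.form x y = (F.t : R) * QuadraticMap.polar Q (x : M) (y : M) := fun x y => by
    simp only [QuadraticMap.polar, F.form_apply, Submodule.coe_add]
    ring
  constructor
  · refine (injective_iff_map_eq_zero _).2 fun x hx => Subtype.ext ?_
    refine Submodule.disjoint_def.1 F.arf.compl.disjoint _ x.2 fun p hpP => ?_
    have h := LinearMap.congr_fun hx ⟨p, hpP⟩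
    rw [QuadraticMap.polarBilin_apply_apply, LinearMap.zero_apply, hp, Units.mul_right_eq_zero,
      QuadraticMap.polar_comm] at h
    exact h
  · intro f
    obtain ⟨x, hxP, hx⟩ := F.arf.perf (f.comp (F.P.projectionOnto (perp Q F.P) F.arf.compl))
      fun w hw => by
        rw [LinearMap.comp_apply, Submodule.projectionOnto_apply_of_mem_right F.arf.compl hw, map_zero]
    refine ⟨(↑F.t⁻¹ : R) • ⟨x, hxP⟩, LinearMap.ext fun y => ?_⟩
    rw [map_smul, LinearMap.smul_apply, QuadraticMap.polarBilin_apply_apply, hp, smul_eq_mul, Units.inv_mul_cancel_left,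
      ← pol_apply, hx, LinearMap.comp_apply, Submodule.projectionOnto_apply_left]

theorem ι_c_mem (x : M) : ι Q x * F.c ∈ CliffordAlgebra.even Q :=
  mem_even_iff.2 (by
    simpa [show (1 : ZMod 2) + 1 = 0 from rfl] using SetLike.mul_mem_graded (ι_mem_evenOdd_one Q x) F.c_odd)

/-- The map to the even subalgebra. -/
noncomputable def toEven : CliffordAlgebra F.form →ₐ[R] CliffordAlgebra.even Q :=
  CliffordAlgebra.lift F.form
    ⟨{ toFun := fun x => ⟨ι Q (x : M) * F.c, F.ι_c_mem x⟩
       map_add' := fun x y => Subtype.ext (by simp [add_mul])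
       map_smul' := fun r x => Subtype.ext (by simp) },
      fun x => Subtype.ext (by
        show ι Q (x : M) * F.c * (ι Q (x : M) * F.c) = algebraMap R (CliffordAlgebra Q) (F.form x)
        rw [mul_assoc, ← mul_assoc F.c, ← F.c_commute (ι Q (x : M)), mul_assoc (ι Q (x : M)) F.c F.c, F.c_sq,
          ← mul_assoc, ι_sq_scalar, ← map_mul, F.form_apply, mul_comm (F.t : R)])⟩

theorem toEven_ι (x : F.P) : (F.toEven (ι F.form x) : CliffordAlgebra Q) = ι Q (x : M) * F.c := by
  rw [toEven, lift_ι_apply]
  rfl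

theorem commutant (y : CliffordAlgebra.even Q) (hy : ∀ a, F.toEven a * y = y * F.toEven a) :
    ∃ r : R, y = algebraMap R _ r := by
  have h0 := mem_even_iff.1 y.2
  have hP : ∀ x ∈ F.P, ι Q x * (y : CliffordAlgebra Q) = y * ι Q x := fun x hx => by
    have e := congrArg Subtype.val (hy (ι F.form ⟨x, hx⟩))
    rw [Subalgebra.coe_mul, Subalgebra.coe_mul, F.toEven_ι] at e
    refine F.mul_c_cancel ?_
    rw [mul_assoc, F.c_commute, ← mul_assoc, e, mul_assoc]
  obtain ⟨r, s, hrs⟩ := contract_zero_mem_line F.b F.j (y := (y : CliffordAlgebra Q)) fun i hi => by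
    obtain ⟨x, hxP, hx⟩ := F.arf.perf (F.b.coord i) fun w hw => by
      obtain ⟨a, rfl⟩ := F.hline w hw
      simp [Finsupp.single_eq_of_ne hi]
    rw [← hx, contract_eq_of_even h0, hP x hxP, sub_self]
  refine ⟨r, Subtype.ext ?_⟩
  have hs : s • ι Q (F.b F.j) = 0 := eq_zero_of_even_of_odd
    (by rw [show s • ι Q (F.b F.j) = (y : CliffordAlgebra Q) - algebraMap R _ r by rw [hrs]; abel]
        exact sub_mem h0 (algebraMap_mem_even r))
    (Submodule.smul_mem _ s (ι_mem_evenOdd_one Q _))
  rw [hrs, hs, add_zero]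
  rfl

variable [IsLocalRing R] {m : ℕ} (hn : n = 2 * m)

include hn in
theorem exists_data : ∃ (z : CliffordAlgebra F.form), Arf F.form ⊤ z := by
  haveI := Module.Free.of_basis F.basisP
  haveI := Module.Finite.of_basis F.basisP
  exact exists_arf_even (by rw [Module.finrank_eq_card_basis F.basisP, Fintype.card_fin, hn]) F.form_regular

include hn in
theorem fills : Fills R (CliffordAlgebra F.form) := by
  obtain ⟨z, hz⟩ := F.exists_data hn
  exact fills_even F.basisP hz F.form_regular

include hn in
theorem toEven_bijective : Function.Bijective F.toEven := by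
  haveI := Module.Free.of_basis F.b
  haveI := Module.Free.of_basis (cliffBasis (Q := F.form) F.basisP)
  haveI := Module.Finite.of_basis (cliffBasis (Q := F.form) F.basisP)
  exact ⟨injective_of_scalar (F.fills hn) F.toEven fun r hr => algebraMap_inj (Q := Q) (congrArg Subtype.val hr),
    surjective_of_commutant (F.fills hn) F.toEven F.commutant⟩

/-- The even subalgebra is a Clifford algebra of a regular form. -/
noncomputable def evenEquiv : CliffordAlgebra F.form ≃ₐ[R] CliffordAlgebra.even Q :=
  AlgEquiv.ofBijective F.toEven (F.toEven_bijective hn)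

end OddFrame

section loc

variable [IsLocalRing R] [Module.Free R M] [Module.Finite R M] {m : ℕ} (b : Module.Basis (Fin (2 * m + 1)) R M)
  (hQ : QuadGrp.IsSemiregular b (LinearEquiv.refl R R) Q)

include b hQ in
theorem exists_oddFrame : Nonempty (OddFrame Q (2 * m)) := by
  obtain ⟨P, z, b', j, h, hv, hvu, hrest, hline, -⟩ := exists_arf_odd b rfl hQ
  exact ⟨⟨P, z, b', j, h, hv, hvu, hrest, hline⟩⟩

include b hQ in
/-- An isometry is induced, up to a sign, by an even unit. -/
theorem exists_even_unit {g : M ≃ₗ[R] M} (hg : g ∈ QuadGrp.SO' Q) :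
    ∃ u : (CliffordAlgebra Q)ˣ, (u : CliffordAlgebra Q) ∈ evenOdd Q 0 ∧ Induces u g := by
  obtain ⟨F⟩ := exists_oddFrame b hQ
  obtain ⟨hgO, hdet⟩ := hg
  haveI := Module.Free.of_basis (cliffBasis (Q := F.form) F.basisP)
  haveI := Module.Finite.of_basis (cliffBasis (Q := F.form) F.basisP)
  haveI := nontrivial_cliff (Q := F.form) F.basisP
  let φ := CliffordAlgebra.map (QuadGrp.isometryOfMem Q g hgO)
  let φ0 : CliffordAlgebra.even Q →ₐ[R] CliffordAlgebra.even Q :=
    (φ.comp (CliffordAlgebra.even Q).val).codRestrict _ fun y => mem_even_iff.2 (map_mem _ (mem_even_iff.1 y.2))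
  let e := F.evenEquiv (m := m) rfl
  obtain ⟨u0, hu0⟩ := exists_unit_conj (F.fills (m := m) rfl) ((e.symm.toAlgHom.comp φ0).comp e.toAlgHom)
  let u : (CliffordAlgebra Q)ˣ := Units.map ((CliffordAlgebra.even Q).val.comp e.toAlgHom).toRingHom.toMonoidHom u0
  have hu : (u : CliffordAlgebra Q) ∈ evenOdd Q 0 := mem_even_iff.1 (e u0).2
  have hconj : ∀ y ∈ CliffordAlgebra.even Q, φ y * u = u * y := fun y hy => by
    have h := congrArg (fun a => ((e a : CliffordAlgebra.even Q) : CliffordAlgebra Q)) (hu0 (e.symm ⟨y, hy⟩))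
    simp only [map_mul, AlgHom.comp_apply, AlgEquiv.coe_toAlgHom, AlgEquiv.apply_symm_apply, Subalgebra.coe_mul] at h
    exact h
  -- the image of the central element
  obtain ⟨a, s, has⟩ : ∃ a s : R, φ F.c = algebraMap R _ a + s • F.c := by
    refine centre_odd F.arf F.hv F.hvu F.hrest F.hline ((mem_center_iff _).2 fun x => ?_)
    have := congrArg φ (F.c_central (g.symm x))
    rwa [map_mul, map_mul, show φ (ι Q (g.symm x)) = ι Q x by
      rw [show φ = CliffordAlgebra.map (QuadGrp.isometryOfMem Q g hgO) from rfl, map_apply_ι,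
        QuadGrp.isometryOfMem_apply, g.apply_symm_apply]] at this
  have hφc : φ F.c = s • F.c := by
    have h0 : algebraMap R (CliffordAlgebra Q) a = 0 := eq_zero_of_even_of_odd (algebraMap_mem_even a)
      (by rw [show algebraMap R (CliffordAlgebra Q) a = φ F.c - s • F.c by rw [has]; abel]
          exact sub_mem (map_mem _ F.c_odd) (Submodule.smul_mem _ s F.c_odd))
    rw [has, h0, zero_add]
  have hs2 : s * s = 1 := by
    have h := congrArg φ F.c_sq
    rw [map_mul, hφc, smul_mul_smul_comm, F.c_sq, AlgHom.commutes, Algebra.smul_def, ← map_mul, ← sub_eq_zero,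
      ← map_sub] at h
    have h2 := algebraMap_inj h
    rw [← sub_one_mul, Units.mul_left_eq_zero] at h2
    exact sub_eq_zero.1 h2
  have hsw : ∀ v, (u : CliffordAlgebra Q) * ι Q v = ι Q (s • g v) * u := fun v => by
    refine F.mul_c_cancel ?_
    have h := hconj (ι Q v * F.c) (F.ι_c_mem v)
    rw [map_mul, hφc, show φ (ι Q v) = ι Q (g v) from map_apply_ι _ v, mul_smul_comm, smul_mul_assoc, mul_assoc,
      ← F.c_commute (u : CliffordAlgebra Q), ← mul_assoc] at h
    rw [map_smul, smul_mul_assoc, smul_mul_assoc, h, mul_assoc]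
  let h' : M ≃ₗ[R] M := g.trans (LinearEquiv.smulOfUnit ⟨s, s, hs2, hs2⟩)
  have hi : Induces u h' := induces_of_swap hsw
  have hd := det_of_odd_rank b u h' hi ⟨m, rfl⟩
  have hs1 : s = 1 := by
    have h1 : ((LinearEquiv.det h' : Rˣ) : R) = s ^ (2 * m + 1) := by
      rw [LinearEquiv.coe_det,
        show (h' : M →ₗ[R] M) = s • (g : M →ₗ[R] M) from LinearMap.ext fun x => rfl, LinearMap.det_smul,
        Module.finrank_eq_card_basis b, Fintype.card_fin, ← LinearEquiv.coe_det, MonoidHom.mem_ker.1 hdet,
        Units.val_one, mul_one]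
    rw [hd, Units.val_one, pow_succ, pow_mul, sq, hs2, one_pow, one_mul] at h1
    exact h1.symm
  refine ⟨u, hu, induces_of_swap fun v => ?_⟩
  rw [hsw, hs1, one_smul]

include b hQ in
theorem exists_gspin_odd {g : M ≃ₗ[R] M} (hg : g ∈ QuadGrp.SO' Q) : ∃ u ∈ QuadGrp.GSpin Q, Induces u g := by
  obtain ⟨u, hu, hi⟩ := exists_even_unit b hQ hg
  exact ⟨u, ⟨⟨mem_GPin'_of_induces hi, (QuadGrp.mem_LH Q u).2 ⟨1, IsIdempotentElem.one, by rwa [one_smul],
    by rw [sub_self, zero_smul]; exact zero_mem _⟩⟩, hu⟩, hi⟩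

include b hQ in
/-- Units normalising the vectors are central units times even ones. -/
theorem exists_central_mul_gspin {u' : (CliffordAlgebra Q)ˣ} (hu' : u' ∈ QuadGrp.GPin' Q) :
    ∃ z : (CliffordAlgebra Q)ˣ, (z : CliffordAlgebra Q) ∈ Subalgebra.center R (CliffordAlgebra Q) ∧
      ∃ u ∈ QuadGrp.GSpin Q, u' = z * u := by
  obtain ⟨g, hg, hi⟩ := exists_induced b hu'
  obtain ⟨u, hu, hiu⟩ := exists_gspin_odd b hQ ⟨hg, MonoidHom.mem_ker.2 (det_of_odd_rank b u' g hi ⟨m, rfl⟩)⟩
  refine ⟨u' * u⁻¹, (mem_center_iff _).2 fun x => ?_, u, hu, (inv_mul_cancel_right u' u).symm⟩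
  have h1 : (u : CliffordAlgebra Q) * ι Q (g.symm x) = ι Q x * u := by rw [hiu.swap, g.apply_symm_apply]
  have h2 : (u' : CliffordAlgebra Q) * ι Q (g.symm x) = ι Q x * u' := by rw [hi.swap, g.apply_symm_apply]
  rw [Units.val_mul, ← mul_assoc, ← h2, mul_assoc, mul_assoc]
  refine congrArg _ ?_
  rw [Units.eq_inv_mul_iff_mul_eq, ← mul_assoc, h1, mul_assoc, Units.mul_inv, mul_one]

end loc

end Groth.Agent.CliffStr
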