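import Groth.Agent.CliffStr.GPinScheme
import Groth.Agent.CliffStr.EvenLocal
import Groth.Agent.CliffStr.Odd
import Groth.Agent.QuadLib.Smooth
import Groth.Agent.QuadLib.Infinitesimal

/-!
# Infinitesimal lifting of points of Clifford and Pin groups

`gpin_lift_even`, `gpin_lift_odd`, `pin_lift_odd`.
-/

set_option autoImplicit false
set_option linter.unusedSectionVars false
set_option linter.style.haveILetI false
universe u

open CliffordAlgebra TensorProduct

namespace Groth.Agent.CliffStr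

section generalities

variable {R : Type u} [CommRing R] {M : Type u} [AddCommGroup M] [Module R M] {n : ℕ}
  (b : Module.Basis (Fin n) R M) {Q : QuadraticForm R M}

include b in
/-- A scalar that is a unit in the Clifford algebra is a unit. -/
theorem isUnit_of_algebraMap {r : R} {w : (CliffordAlgebra Q)ˣ} (h : (w : CliffordAlgebra Q) = algebraMap R _ r) :
    IsUnit r := by
  rcases subsingleton_or_nontrivial R with hR | hR
  · exact isUnit_of_subsingleton r
  haveI := Module.Free.of_basis (cliffBasis (Q := Q) b)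
  have hb : IsUnit (r • (LinearMap.id : CliffordAlgebra Q →ₗ[R] CliffordAlgebra Q)) := by
    rw [show r • (LinearMap.id : CliffordAlgebra Q →ₗ[R] CliffordAlgebra Q) =
      Algebra.lmul R (CliffordAlgebra Q) (w : CliffordAlgebra Q) from
        LinearMap.ext fun y => by rw [h]; simp [Algebra.smul_def]]
    exact w.isUnit.map _
  have := hb.map LinearMap.det
  rw [LinearMap.det_smul, LinearMap.det_id, mul_one, Module.finrank_eq_card_basis (cliffBasis (Q := Q) b)] at this
  exact (isUnit_pow_iff Fintype.card_ne_zero).1 this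

/-- A scalar unit in the Clifford group. -/
theorem scalar_mem_GPin' (r : Rˣ) : Units.map (algebraMap R (CliffordAlgebra Q)).toMonoidHom r ∈ QuadGrp.GPin' Q :=
  mem_GPin'_of_induces (g := LinearEquiv.refl R M) (induces_of_swap fun v => Algebra.commutes _ _)

theorem mem_GPin'_of_central {u : (CliffordAlgebra Q)ˣ} (h : ∀ v, ι Q v * (u : CliffordAlgebra Q) = u * ι Q v) :
    u ∈ QuadGrp.GPin' Q :=
  mem_GPin'_of_induces (g := LinearEquiv.refl R M) (induces_of_swap fun v => (h v).symm)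

theorem mem_LH_of_mem {u : (CliffordAlgebra Q)ˣ} {i : ZMod 2} (h : (u : CliffordAlgebra Q) ∈ evenOdd Q i) :
    u ∈ QuadGrp.LH Q := by
  have h02 : ∀ j : ZMod 2, j = 0 ∨ j = 1 := by decide
  rcases h02 i with rfl | rfl
  · exact (QuadGrp.mem_LH Q u).2 ⟨1, IsIdempotentElem.one, by rwa [one_smul],
      by rw [sub_self, zero_smul]; exact zero_mem _⟩
  · exact (QuadGrp.mem_LH Q u).2 ⟨0, IsIdempotentElem.zero, by rw [zero_smul]; exact zero_mem _,
      by rwa [sub_zero, one_smul]⟩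

/-- Over a local ring locally homogeneous units are homogeneous. -/
theorem homogeneous_of_LH [IsLocalRing R] {u : (CliffordAlgebra Q)ˣ} (h : u ∈ QuadGrp.LH Q) :
    ∃ i : ZMod 2, (u : CliffordAlgebra Q) ∈ evenOdd Q i := by
  obtain ⟨e, he, h0, h1⟩ := (QuadGrp.mem_LH Q u).1 h
  rcases IsLocalRing.isUnit_or_isUnit_one_sub_self e with hu | hu
  · rw [show e = 1 from (hu.mul_left_inj).1 (by rw [one_mul, he.eq]), one_smul] at h0
    exact ⟨0, h0⟩
  · rw [show 1 - e = 1 from (hu.mul_left_inj).1 (by rw [one_mul, he.one_sub.eq]), one_smul] at h1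
    exact ⟨1, h1⟩

/-- The inverse of a homogeneous unit has the same parity. -/
theorem inv_mem_evenOdd {u : (CliffordAlgebra Q)ˣ} {i : ZMod 2} (h : (u : CliffordAlgebra Q) ∈ evenOdd Q i) :
    (↑u⁻¹ : CliffordAlgebra Q) ∈ evenOdd Q i := by
  obtain ⟨v₀, h0, v₁, h1, hv⟩ := exists_even_odd (↑u⁻¹ : CliffordAlgebra Q)
  have h02 : ∀ j : ZMod 2, j = 0 ∨ j = 1 := by decide
  have e : (u : CliffordAlgebra Q) * v₀ + (u : CliffordAlgebra Q) * v₁ = 1 := by rw [← mul_add, hv, Units.mul_inv]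
  rcases h02 i with rfl | rfl
  · have z : (u : CliffordAlgebra Q) * v₁ = 0 := by
      refine eq_zero_of_even_of_odd ?_ (by simpa using SetLike.mul_mem_graded h h1)
      rw [eq_sub_of_add_eq' e]
      exact sub_mem (SetLike.one_mem_graded _) (by simpa using SetLike.mul_mem_graded h h0)
    rw [← hv, (Units.mul_right_eq_zero u).1 z, add_zero]
    exact h0
  · have z : (u : CliffordAlgebra Q) * v₀ = 0 := by
      refine eq_zero_of_even_of_odd ?_ (by simpa using SetLike.mul_mem_graded h h0)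
      rw [eq_sub_of_add_eq e]
      exact sub_mem (SetLike.one_mem_graded _)
        (by simpa [show (1 : ZMod 2) + 1 = 0 from rfl] using SetLike.mul_mem_graded h h1)
    rw [← hv, (Units.mul_right_eq_zero u).1 z, zero_add]
    exact h1

theorem swap_star {u : CliffordAlgebra Q} {g : M → M} (h : ∀ v, u * ι Q v = ι Q (g v) * u) (v : M) :
    ι Q v * star u = star u * ι Q (g v) := by
  have := congrArg star (h v)
  rwa [star_mul, star_mul, CliffordAlgebra.star_ι, CliffordAlgebra.star_ι, neg_mul, mul_neg, neg_inj] at this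

end generalities

section lifting

variable {R : Type u} [CommRing R] {M : Type u} [AddCommGroup M] [Module R M] [Module.Free R M] [Module.Finite R M]
  (Q : QuadraticForm R M)
  {A B : Type u} [CommRing A] [Algebra R A] [CommRing B] [Algebra R B] [IsLocalRing A] [IsLocalRing B]
  (φ : A →ₐ[R] B)

local notation "QA" => QuadGrp.baseChangeForm A Q
local notation "QB" => QuadGrp.baseChangeForm B Q

theorem isUnit_lift {φ : A →ₐ[R] B} (hφ : Function.Surjective φ) {a : A} (h : IsUnit (φ a)) : IsUnit a := by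
  haveI : IsLocalHom φ.toRingHom := .of_surjective φ.toRingHom hφ
  exact (isUnit_map_iff φ.toRingHom a).1 h

theorem bcMap_mem {i : ZMod 2} {y : CliffordAlgebra QA} (h : y ∈ evenOdd QA i) : bcMap Q φ y ∈ evenOdd QB i := by
  rw [mem_evenOdd_iff Q A] at h
  rw [mem_evenOdd_iff Q B, ← bcMap_ext, h]

/-- Units along `bcMap`. -/
noncomputable def bcUnit : (CliffordAlgebra QA)ˣ →* (CliffordAlgebra QB)ˣ := Units.map (bcMap Q φ).toMonoidHom

theorem bcUnit_val (u : (CliffordAlgebra QA)ˣ) : (bcUnit Q φ u : CliffordAlgebra QB) = bcMap Q φ u := rfl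

/-- Lifting points of a smooth matrix group. -/
theorem exists_lift_isometry {S : ∀ (A : Type u) [CommRing A] [Algebra R A], Subgroup ((A ⊗[R] M) ≃ₗ[A] (A ⊗[R] M))}
    {C : Type u} [CommRing C] [Algebra R C] (P : QuadLib.PtData S C) [Algebra.FormallySmooth R C]
    (hφ : Function.Surjective φ) (hk : RingHom.ker φ.toRingHom ^ 2 = ⊥)
    {g₀ : (B ⊗[R] M) ≃ₗ[B] (B ⊗[R] M)} (hg₀ : g₀ ∈ S B) :
    ∃ g ∈ S A, ∀ m, g₀ (1 ⊗ₜ[R] m) = LinearMap.rTensor M φ.toLinearMap (g (1 ⊗ₜ[R] m)) := by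
  let f₀ := (P.Φ B).symm ⟨g₀, hg₀⟩
  have hnil : IsNilpotent (RingHom.ker (φ : A →+* B)) := ⟨2, hk⟩
  let f := Algebra.FormallySmooth.liftOfSurjective f₀ φ hφ hnil
  refine ⟨(P.Φ A f).1, (P.Φ A f).2, fun m => ?_⟩
  rw [← P.nat, Algebra.FormallySmooth.comp_liftOfSurjective, Equiv.apply_symm_apply]

/-- Two units inducing compatible isometries differ by a central element. -/
theorem central_quot {u : (CliffordAlgebra QA)ˣ} {g : (A ⊗[R] M) ≃ₗ[A] (A ⊗[R] M)} (hu : Induces u g)
    {u₀ : (CliffordAlgebra QB)ˣ} {g₀ : (B ⊗[R] M) ≃ₗ[B] (B ⊗[R] M)} (hu₀ : Induces u₀ g₀)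
    (hc : ∀ m, g₀ (1 ⊗ₜ[R] m) = LinearMap.rTensor M φ.toLinearMap (g (1 ⊗ₜ[R] m))) (v : B ⊗[R] M) :
    ι QB v * ↑((bcUnit Q φ u)⁻¹ * u₀) = ↑((bcUnit Q φ u)⁻¹ * u₀) * ι QB v := by
  have h1 : ∀ w, (bcUnit Q φ u : CliffordAlgebra QB) * ι QB w = ι QB (g₀ w) * bcUnit Q φ u := by
    intro w
    induction w using TensorProduct.induction_on with
    | zero => simp
    | add w w' hw hw' => simp only [map_add, mul_add, add_mul, hw, hw']
    | tmul c m =>
      rw [show c ⊗ₜ[R] m = c • ((1 : B) ⊗ₜ[R] m) by rw [TensorProduct.smul_tmul', smul_eq_mul, mul_one], map_smul,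
        map_smul, map_smul, smul_mul_assoc, mul_smul_comm, hc, ← bcMap_ι Q φ, bcUnit_val, ← map_mul, ← hu.swap,
        map_mul, bcMap_ι, LinearMap.rTensor_tmul]
      simp
  rw [Units.val_mul, ← mul_assoc, mul_assoc (↑(bcUnit Q φ u)⁻¹ : CliffordAlgebra QB) (u₀ : CliffordAlgebra QB),
    hu₀.swap, ← mul_assoc (↑(bcUnit Q φ u)⁻¹ : CliffordAlgebra QB)]
  refine congrArg (· * (u₀ : CliffordAlgebra QB)) ?_
  rw [Units.eq_inv_mul_iff_mul_eq, ← mul_assoc, h1, mul_assoc, Units.mul_inv, mul_one]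

theorem exists_scalar_lift {n : ℕ} (hφ : Function.Surjective φ) (b : Module.Basis (Fin n) R M)
    {w : (CliffordAlgebra QB)ˣ} {r : B} (hr : (w : CliffordAlgebra QB) = algebraMap B _ r) :
    ∃ a : Aˣ, bcMap Q φ (algebraMap A _ (a : A)) = w := by
  obtain ⟨a, rfl⟩ := hφ r
  obtain ⟨a, rfl⟩ := isUnit_lift hφ (isUnit_of_algebraMap (b.baseChange B) hr)
  exact ⟨a, by rw [bcMap_algebraMap, hr]⟩

variable {m : ℕ} (hk : RingHom.ker φ.toRingHom ^ 2 = ⊥) (hφ : Function.Surjective φ)

section even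

variable (b : Module.Basis (Fin (2 * m)) R M) (hQ : QuadGrp.IsRegular Q)

include b hQ hk hφ in
/-- Lifting in even rank. -/
theorem gpin_lift_even : ∀ u₀ ∈ grp Q false B, ∃ u ∈ grp Q false A, bcMap Q φ u.val = u₀.val := by
  intro u₀ hu₀
  rw [mem_grp_iff] at hu₀
  obtain ⟨⟨hu', -⟩, -⟩ := hu₀
  haveI := Module.Finite.of_basis (b.baseChange A)
  haveI := Module.Finite.of_basis (b.baseChange B)
  have hA : Module.finrank A (A ⊗[R] M) = 2 * m := by
    rw [Module.finrank_eq_card_basis (b.baseChange A), Fintype.card_fin]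
  have hB : Module.finrank B (B ⊗[R] M) = 2 * m := by
    rw [Module.finrank_eq_card_basis (b.baseChange B), Fintype.card_fin]
  have hn : QuadGrp.IsNondeg b (LinearEquiv.refl R R) Q :=
    ⟨fun _ => hQ, fun ho => absurd (even_two_mul m) (Nat.not_even_iff_odd.2 ho)⟩
  haveI := QuadLib.orth_smooth b Q hn (Or.inl (even_two_mul m))
  obtain ⟨g₀, hg₀, hi₀⟩ := exists_induced (b.baseChange B) hu'
  obtain ⟨g, hg, hc⟩ := exists_lift_isometry φ (QuadLib.orthPt b Q) hφ hk
    ((QuadLib.mem_O_baseChange_iff Q B g₀).1 hg₀)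
  obtain ⟨u, hu, -⟩ := exists_conj hA (regular_bcf A b hQ) ((QuadLib.mem_O_baseChange_iff Q A g).2 hg)
  obtain ⟨r, hr⟩ := centre_regular hB (regular_bcf B b hQ)
    ((mem_center_iff _).2 (central_quot Q φ hu hi₀ hc))
  obtain ⟨a, ha⟩ := exists_scalar_lift Q φ hφ b hr
  refine ⟨u * Units.map (algebraMap A (CliffordAlgebra QA)).toMonoidHom a, ?_, ?_⟩
  · have h' : u * Units.map (algebraMap A (CliffordAlgebra QA)).toMonoidHom a ∈ QuadGrp.GPin' QA :=
      mul_mem (mem_GPin'_of_induces hu) (scalar_mem_GPin' a)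
    exact (mem_grp_iff Q false A _).2 ⟨⟨h', gpin'_le_LH hA (regular_bcf A b hQ) h'⟩, fun h => absurd h (by simp)⟩
  · show bcMap Q φ ((u : CliffordAlgebra QA) * algebraMap A _ (a : A)) = _
    rw [map_mul, ha, ← bcUnit_val, ← Units.val_mul, mul_inv_cancel_left]

end even

section odd

variable (b : Module.Basis (Fin (2 * m + 1)) R M) (hQ : QuadGrp.IsSemiregular b (LinearEquiv.refl R R) Q)

include b hQ hk hφ in
/-- Lifting in odd rank. -/
theorem gpin_lift_odd : ∀ u₀ ∈ grp Q false B, ∃ u ∈ grp Q false A, bcMap Q φ u.val = u₀.val := by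
  intro u₀ hu₀
  rw [mem_grp_iff] at hu₀
  obtain ⟨⟨hu', hl⟩, -⟩ := hu₀
  haveI := Module.Finite.of_basis (b.baseChange A)
  haveI := Module.Finite.of_basis (b.baseChange B)
  have hQA := semiregular_bcf A b hQ
  have hQB := semiregular_bcf B b hQ
  have hn : QuadGrp.IsNondeg b (LinearEquiv.refl R R) Q :=
    ⟨fun he => absurd (odd_two_mul_add_one m) (Nat.not_odd_iff_even.2 he), fun _ => hQ⟩
  haveI := QuadLib.sorth_smooth b Q hn (Or.inl (odd_two_mul_add_one m))
  obtain ⟨g₀, hg₀, hi₀⟩ := exists_induced (b.baseChange B) hu'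
  have hg₀' : g₀ ∈ QuadGrp.sorth' Q B := ⟨(QuadLib.mem_O_baseChange_iff Q B g₀).1 hg₀,
    MonoidHom.mem_ker.2 (det_of_odd_rank (b.baseChange B) u₀ g₀ hi₀ ⟨m, rfl⟩)⟩
  obtain ⟨g, hg, hc⟩ := exists_lift_isometry φ (QuadLib.sorthPt b Q) hφ hk hg₀'
  obtain ⟨u, hu, hui⟩ := exists_gspin_odd (b.baseChange A) hQA (g := g)
    ⟨(QuadLib.mem_O_baseChange_iff Q A g).2 hg.1, hg.2⟩
  have hw := central_quot Q φ hui hi₀ hc
  set w := (bcUnit Q φ u)⁻¹ * u₀ with hwdef
  obtain ⟨i, hi⟩ := homogeneous_of_LH hl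
  have hwi : (w : CliffordAlgebra QB) ∈ evenOdd QB i := by
    rw [hwdef, Units.val_mul]
    simpa using SetLike.mul_mem_graded (inv_mem_evenOdd (u := bcUnit Q φ u) (bcMap_mem Q φ hu.2)) hi
  obtain ⟨s, hs, hsF⟩ : ∃ s ∈ QuadGrp.GPin QA, bcMap Q φ (s : (CliffordAlgebra QA)ˣ).val = (w : CliffordAlgebra QB) := by
    have h02 : ∀ j : ZMod 2, j = 0 ∨ j = 1 := by decide
    rcases h02 i with rfl | rfl
    · obtain ⟨r, hr⟩ := even_central_global (b.baseChange B) hQB hwi hw
      obtain ⟨a, ha⟩ := exists_scalar_lift Q φ hφ b hr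
      exact ⟨_, ⟨scalar_mem_GPin' a, mem_LH_of_mem (i := 0) (algebraMap_mem_even (a : A))⟩, ha⟩
    · obtain ⟨c, hc', ⟨t, ht, hct⟩, -⟩ := exists_local_gen (b.baseChange A) hQA
      obtain ⟨t, rfl⟩ := ht
      let cu : (CliffordAlgebra QA)ˣ := ⟨c, (↑t⁻¹ : A) • c,
        by rw [mul_smul_comm, hct, Algebra.smul_def, ← map_mul, Units.inv_mul, map_one],
        by rw [smul_mul_assoc, hct, Algebra.smul_def, ← map_mul, Units.inv_mul, map_one]⟩
      have hcu : cu ∈ QuadGrp.GPin QA :=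
        ⟨mem_GPin'_of_central hc'.central, mem_LH_of_mem (i := 1) hc'.odd⟩
      have hcB : ∀ v, ι QB v * bcUnit Q φ cu = bcUnit Q φ cu * ι QB v := by
        intro v
        induction v using TensorProduct.induction_on with
        | zero => simp
        | add v v' hv hv' => simp only [map_add, add_mul, mul_add, hv, hv']
        | tmul a' m' =>
          rw [show a' ⊗ₜ[R] m' = a' • ((1 : B) ⊗ₜ[R] m') by rw [TensorProduct.smul_tmul', smul_eq_mul, mul_one],
            map_smul, smul_mul_assoc, mul_smul_comm, ← bcHom_ι, ← bcMap_bcHom Q φ, bcUnit_val, ← map_mul,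
            ← map_mul, bcHom_ι]
          exact congrArg (fun z => a' • bcMap Q φ z) (hc'.central _)
      have hev : ((bcUnit Q φ cu * w : (CliffordAlgebra QB)ˣ) : CliffordAlgebra QB) ∈ evenOdd QB 0 := by
        rw [Units.val_mul]
        simpa [bcUnit_val, show (1 : ZMod 2) + 1 = 0 from rfl] using
          SetLike.mul_mem_graded (bcMap_mem Q φ hc'.odd : (bcUnit Q φ cu : CliffordAlgebra QB) ∈ _) hwi
      obtain ⟨r, hr⟩ := even_central_global (b.baseChange B) hQB hev fun v => by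
        rw [Units.val_mul, ← mul_assoc, hcB, mul_assoc, hw, ← mul_assoc]
      obtain ⟨a, ha⟩ := exists_scalar_lift Q φ hφ b hr
      refine ⟨cu⁻¹ * Units.map (algebraMap A (CliffordAlgebra QA)).toMonoidHom a,
        mul_mem (inv_mem hcu) ⟨scalar_mem_GPin' a, mem_LH_of_mem (i := 0) (algebraMap_mem_even (a : A))⟩, ?_⟩
      rw [← bcUnit_val, map_mul, map_inv, Units.val_mul]
      rw [show ((bcUnit Q φ (Units.map (algebraMap A (CliffordAlgebra QA)).toMonoidHom a)) : CliffordAlgebra QB) =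
        ↑(bcUnit Q φ cu * w) from ha, ← Units.val_mul, inv_mul_cancel_left]
  refine ⟨u * s, (mem_grp_iff Q false A _).2 ⟨mul_mem hu.1 hs, fun h => absurd h (by simp)⟩, ?_⟩
  rw [Units.val_mul, map_mul, hsF, ← bcUnit_val, ← Units.val_mul, hwdef, mul_inv_cancel_left]

include b hQ hk hφ in
/-- Lifting of elements of norm one in odd rank at least three. -/
theorem pin_lift_odd (hm : 1 ≤ m) : ∀ u₀ ∈ grp Q true B, ∃ u ∈ grp Q true A, bcMap Q φ u.val = u₀.val := by
  intro u₀ hu₀
  rw [mem_grp_iff] at hu₀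
  obtain ⟨hu', hn₀⟩ := hu₀
  have hn₀' := hn₀ rfl
  obtain ⟨u, hu, hF⟩ := gpin_lift_odd Q φ hk hφ b hQ u₀ ((mem_grp_iff Q false B _).2 ⟨hu', fun h => absurd h (by simp)⟩)
  rw [mem_grp_iff] at hu
  obtain ⟨hu, -⟩ := hu
  haveI := Module.Finite.of_basis (b.baseChange A)
  haveI := Module.Finite.of_basis (b.baseChange B)
  have hQA := semiregular_bcf A b hQ
  obtain ⟨g, -, hi⟩ := exists_induced (b.baseChange A) hu.1
  obtain ⟨i, hpar⟩ := homogeneous_of_LH hu.2
  obtain ⟨ν, hν⟩ := even_central_global (b.baseChange A) hQA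
    (y := star (u : CliffordAlgebra QA) * u)
    (by
      have h := SetLike.mul_mem_graded (star_mem hpar) hpar
      rwa [show i + i = 0 from CharTwo.add_self_eq_zero i] at h)
    (fun v => by rw [← mul_assoc, swap_star hi.swap, mul_assoc, ← hi.swap, ← mul_assoc])
  have hν1 : φ ν = 1 := by
    refine sub_eq_zero.1 (algebraMap_inj (Q := QB) ?_)
    rw [map_sub, map_one, ← bcMap_algebraMap Q φ, ← hν, map_mul, bcMap_star, hF, hn₀', sub_self]
  obtain ⟨νu, rfl⟩ := isUnit_lift hφ (hν1 ▸ isUnit_one)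
  set i' : A := (↑νu⁻¹ : A) - 1 with hi'
  have hiφ : φ i' = 0 := by
    have h1 : φ (↑νu⁻¹ : A) * φ (νu : A) = 1 := by rw [← map_mul, Units.inv_mul, map_one]
    rw [hν1, mul_one] at h1
    rw [hi', map_sub, h1, map_one, sub_self]
  have hii : i' * i' = 0 := by
    have : i' * i' ∈ RingHom.ker φ.toRingHom ^ 2 := by
      rw [pow_two]; exact Ideal.mul_mem_mul hiφ hiφ
    rwa [hk, Ideal.mem_bot] at this
  -- a hyperbolic pair
  obtain ⟨F⟩ := exists_oddFrame (b.baseChange A) hQA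
  obtain ⟨x, hx⟩ := F.form_regular.2 (F.basisP.coord ⟨0, by omega⟩)
  set c : A ⊗[R] M := ((F.basisP ⟨0, by omega⟩ : F.P) : A ⊗[R] M) with hcdef
  set a : A ⊗[R] M := (F.t : A) • (x : A ⊗[R] M) with hadef
  have hpol : QuadraticMap.polar QA a c = 1 := by
    have h := LinearMap.congr_fun hx (F.basisP ⟨0, by omega⟩)
    rw [QuadraticMap.polarBilin_apply_apply, Module.Basis.coord_apply, Module.Basis.repr_self,
      Finsupp.single_eq_same] at h
    rw [hadef, QuadraticMap.polar_smul_left, smul_eq_mul, ← h]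
    simp only [QuadraticMap.polar, F.form_apply, Submodule.coe_add, hcdef]
    ring
  set X : CliffordAlgebra QA := ι QA a * ι QA c with hX
  have hnil : (i' • X) * (i' • X) = 0 := by rw [smul_mul_smul_comm, hii, zero_smul]
  let wu : (CliffordAlgebra QA)ˣ := ⟨1 + i' • X, 1 - i' • X,
    by rw [add_mul, one_mul, mul_sub, mul_one, hnil]; abel,
    by rw [sub_mul, one_mul, mul_add, mul_one, hnil]; abel⟩
  let ξ : (A ⊗[R] M) →ₗ[A] (A ⊗[R] M) :=
    (QuadraticMap.polarBilin QA c).smulRight a - (QuadraticMap.polarBilin QA a).smulRight c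
  have hξ : ∀ v, X * ι QA v = ι QA v * X + ι QA (ξ v) := fun v => by
    simp only [ξ, hX, LinearMap.sub_apply, LinearMap.smulRight_apply, QuadraticMap.polarBilin_apply_apply,
      map_sub, map_smul, Algebra.smul_def]
    rw [mul_assoc, ι_swap c v, mul_sub, ← mul_assoc (ι QA a) (ι QA v), ι_swap a v, ← mul_assoc (ι QA v),
      ← Algebra.commutes, sub_mul]
    abel
  let gw : (A ⊗[R] M) ≃ₗ[A] (A ⊗[R] M) := LinearEquiv.ofLinear (LinearMap.id + i' • ξ) (LinearMap.id - i' • ξ)
    (LinearMap.ext fun v => by simp [smul_sub, smul_add, smul_smul, hii]) (LinearMap.ext fun v => by simp [smul_sub, smul_add, smul_smul, hii])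
  have hwi : Induces wu gw := induces_of_swap fun v => by
    show (1 + i' • X) * ι QA v = ι QA (v + i' • ξ v) * (1 + i' • X)
    rw [add_mul, one_mul, smul_mul_assoc, hξ, map_add, map_smul, mul_add, mul_one, add_mul, mul_smul_comm,
      smul_mul_assoc]
    simp only [smul_add, mul_smul_comm, smul_smul, hii, zero_smul, add_zero]
    abel
  have hXe : X ∈ evenOdd QA 0 := ι_mul_ι_mem_evenOdd_zero QA a c
  have hwG : wu ∈ QuadGrp.GPin QA := ⟨mem_GPin'_of_induces hwi,
    mem_LH_of_mem (i := 0) (add_mem (SetLike.one_mem_graded _) (Submodule.smul_mem _ _ hXe))⟩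
  have hsw : star (1 + i' • X) * (1 + i' • X) = algebraMap A _ (1 + i') := by
    have hs : star X = ι QA c * ι QA a := by
      rw [hX, star_mul, CliffordAlgebra.star_ι, CliffordAlgebra.star_ι, neg_mul_neg]
    rw [star_add, star_one, CliffordAlgebra.star_smul, hs, mul_add, mul_one, add_mul, one_mul, smul_mul_smul_comm, hii,
      zero_smul, add_zero, add_assoc, add_comm (i' • (ι QA c * ι QA a)), ← smul_add, hX, ι_mul_ι_add_swap, hpol, map_one,
      map_add, map_one, ← Algebra.algebraMap_eq_smul_one]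
  refine ⟨u * wu, (mem_grp_iff Q true A _).2 ⟨mul_mem hu hwG, fun _ => ?_⟩, ?_⟩
  · rw [Units.val_mul, star_mul, mul_assoc, ← mul_assoc (star (u : CliffordAlgebra QA)), hν, ← mul_assoc,
      ← Algebra.commutes, mul_assoc, show (wu : CliffordAlgebra QA) = 1 + i' • X from rfl, hsw, ← map_mul, hi',
      add_sub_cancel, Units.mul_inv, map_one]
  · rw [Units.val_mul, map_mul, hF, show (wu : CliffordAlgebra QA) = 1 + i' • X from rfl, map_add, map_one,
      bcMap_smul, hiφ, zero_smul, add_zero, mul_one]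

end odd

end lifting

end Groth.Agent.CliffStr
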