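import Groth.Agent.CliffStr.BcMap
import Groth.Agent.QuadLib.EqScheme
import Groth.Prelude.Def_QuadGrp2

/-!
# Coordinate algebras of Clifford and Pin groups

`gEqs`, `gEquiv`: the points of `GPin` and `Pin` as solutions of equations in the coordinates of `(u, u⁻¹, e)`;
`smooth_of_lift`: smoothness from lifting of points along square-zero surjections of local rings.
-/

set_option autoImplicit false
set_option linter.unusedSectionVars false
set_option linter.style.haveILetI false
universe u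

open CliffordAlgebra TensorProduct CategoryTheory AlgebraicGeometry

noncomputable section

namespace Groth.Agent.CliffStr

variable {R : Type u} [CommRing R] {M : Type u} [AddCommGroup M] [Module R M] [Module.Free R M]
  {n : ℕ} (b : Module.Basis (Fin n) R M) (Q : QuadraticForm R M) (pinned : Bool)

/-- The unknowns: coordinates of the unit, of its inverse, and the idempotent. -/
abbrev Var (n : ℕ) : Type := (Finset (Fin n) ⊕ Finset (Fin n)) ⊕ Unit

/-- The labels of the equations. -/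
abbrev Lab (n : ℕ) : Type := (Fin 6) ⊕ (Fin n ⊕ Fin n)

section elements

variable (A : Type u) [CommRing A] [Algebra R A] (x : Var n → A)

local notation "CA" => CliffordAlgebra (QuadGrp.baseChangeForm A Q)

/-- The element of a tuple. -/
def el : CA := (bcBasis Q A b).equivFun.symm fun j => x (Sum.inl (Sum.inl j))

/-- The candidate inverse of a tuple. -/
def elI : CA := (bcBasis Q A b).equivFun.symm fun j => x (Sum.inl (Sum.inr j))

/-- The idempotent of a tuple. -/
def idem : A := x (Sum.inr ())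

/-- The equations. -/
def eqn : Lab n → CA
  | Sum.inl 0 => el b Q A x * elI b Q A x - 1
  | Sum.inl 1 => elI b Q A x * el b Q A x - 1
  | Sum.inl 2 => algebraMap A CA (idem A x * idem A x - idem A x)
  | Sum.inl 3 => ext Q A (parProj Q 0) (idem A x • el b Q A x) - idem A x • el b Q A x
  | Sum.inl 4 => ext Q A (parProj Q 1) ((1 - idem A x) • el b Q A x) - (1 - idem A x) • el b Q A x
  | Sum.inl 5 => if pinned then star (el b Q A x) * el b Q A x - 1 else 0
  | Sum.inr (Sum.inl i) =>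
      ext Q A (vecProj Q) (el b Q A x * bcHom A Q (ι Q (b i)) * elI b Q A x) -
        el b Q A x * bcHom A Q (ι Q (b i)) * elI b Q A x
  | Sum.inr (Sum.inr i) =>
      ext Q A (vecProj Q) (elI b Q A x * bcHom A Q (ι Q (b i)) * el b Q A x) -
        elI b Q A x * bcHom A Q (ι Q (b i)) * el b Q A x

variable {A} {B : Type u} [CommRing B] [Algebra R B] (φ : A →ₐ[R] B)

theorem bcMap_el : bcMap Q φ (el b Q A x) = el b Q B (φ ∘ x) := bcMap_sum Q φ b _

theorem bcMap_elI : bcMap Q φ (elI b Q A x) = elI b Q B (φ ∘ x) := bcMap_sum Q φ b _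

theorem bcMap_eqn (i : Lab n) : bcMap Q φ (eqn b Q pinned A x i) = eqn b Q pinned B (φ ∘ x) i := by
  have he : idem B (φ ∘ x) = φ (idem A x) := rfl
  rcases i with i | i | i
  · fin_cases i
    · simp [eqn, bcMap_el, bcMap_elI]
    · simp [eqn, bcMap_el, bcMap_elI]
    · simp [eqn, bcMap_algebraMap, he]
    · simp [eqn, bcMap_ext, bcMap_smul, bcMap_el, he]
    · simp [eqn, bcMap_ext, bcMap_smul, bcMap_el, he]
    · cases pinned <;> simp [eqn, bcMap_star, bcMap_el]
  · simp [eqn, bcMap_ext, bcMap_el, bcMap_elI, bcMap_bcHom]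
  · simp [eqn, bcMap_ext, bcMap_el, bcMap_elI, bcMap_bcHom]

end elements

/-- The equations in coordinates. -/
def gEqs : QuadLib.Eqs R (Var n) (Lab n × Finset (Fin n)) where
  E A _ _ x s := (bcBasis Q A b).equivFun (eqn b Q pinned A x s.1) s.2
  map A B _ _ _ _ φ x s := by rw [← bcMap_eqn, bcMap_equivFun]; rfl

section points

variable (A : Type u) [CommRing A] [Algebra R A]

local notation "CA" => CliffordAlgebra (QuadGrp.baseChangeForm A Q)

/-- The subgroup: the Clifford group, or the Pin group. -/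
def grp : Subgroup (CliffordAlgebra (QuadGrp.baseChangeForm A Q))ˣ :=
  if pinned then QuadGrp.pin Q A else QuadGrp.gpin Q A

theorem mem_grp_iff (u : CAˣ) : u ∈ grp Q pinned A ↔
    u ∈ QuadGrp.gpin Q A ∧ (pinned → star (u : CA) * u = 1) := by
  cases pinned
  · simp [grp]
  · simp [grp, QuadGrp.pin, QuadGrp.Pin, Subgroup.mem_inf, QuadGrp.mem_normOne]

theorem sol_iff (x : Var n → A) :
    (∀ s, (gEqs b Q pinned).E A x s = 0) ↔ ∀ i, eqn b Q pinned A x i = 0 := by
  constructor
  · intro h i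
    refine (bcBasis Q A b).equivFun.injective (funext fun j => ?_)
    rw [map_zero]
    exact h (i, j)
  · intro h s
    show (bcBasis Q A b).equivFun (eqn b Q pinned A x s.1) s.2 = 0
    rw [h, map_zero, Pi.zero_apply]

/-- The unit of a solution. -/
def unitOf (x : (gEqs b Q pinned).Sol A) : CAˣ :=
  ⟨el b Q A x.1, elI b Q A x.1, sub_eq_zero.1 ((sol_iff b Q pinned A x.1).1 x.2 (Sum.inl 0)),
    sub_eq_zero.1 ((sol_iff b Q pinned A x.1).1 x.2 (Sum.inl 1))⟩

theorem range_ι_of_sol (u v : CA) (h : ∀ i, ext Q A (vecProj Q) (u * bcHom A Q (ι Q (b i)) * v) =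
    u * bcHom A Q (ι Q (b i)) * v) (w : A ⊗[R] M) :
    u * ι _ w * v ∈ LinearMap.range (ι (QuadGrp.baseChangeForm A Q)) := by
  rw [← (b.baseChange A).sum_repr w, map_sum, Finset.mul_sum, Finset.sum_mul]
  refine Submodule.sum_mem _ fun i _ => ?_
  rw [map_smul, mul_smul_comm, smul_mul_assoc]
  refine Submodule.smul_mem _ _ ((mem_range_ι_iff Q A _).2 ?_)
  rw [Module.Basis.baseChange_apply, ← bcHom_ι]
  exact h i

theorem unitOf_mem (x : (gEqs b Q pinned).Sol A) : unitOf b Q pinned A x ∈ grp Q pinned A := by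
  have h := (sol_iff b Q pinned A x.1).1 x.2
  rw [mem_grp_iff]
  refine ⟨⟨?_, ?_⟩, fun hp => ?_⟩
  · refine (QuadGrp.mem_GPin' _ _).2 (le_antisymm ?_ ?_)
    · intro y hy
      obtain ⟨w, ⟨v, rfl⟩, rfl⟩ := hy
      show ConjAct.toConjAct (unitOf b Q pinned A x) • ι _ v ∈ _
      rw [ConjAct.units_smul_def, ConjAct.ofConjAct_toConjAct]
      exact range_ι_of_sol b Q A _ _ (fun i => sub_eq_zero.1 (h (Sum.inr (Sum.inl i)))) v
    · rintro _ ⟨v, rfl⟩
      obtain ⟨w, hw⟩ := range_ι_of_sol b Q A _ _ (fun i => sub_eq_zero.1 (h (Sum.inr (Sum.inr i)))) v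
      have := Submodule.smul_mem_pointwise_smul (ι _ w) (ConjAct.toConjAct (unitOf b Q pinned A x))
        (LinearMap.range (ι (QuadGrp.baseChangeForm A Q))) ⟨_, rfl⟩
      rw [ConjAct.units_smul_def, ConjAct.ofConjAct_toConjAct, hw,
        show elI b Q A x.1 = ↑(unitOf b Q pinned A x)⁻¹ from rfl,
        show el b Q A x.1 = ↑(unitOf b Q pinned A x) from rfl] at this
      simpa [mul_assoc] using this
  · refine (QuadGrp.mem_LH _ _).2 ⟨idem A x.1, ?_, ?_, ?_⟩
    · show idem A x.1 * idem A x.1 = idem A x.1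
      exact sub_eq_zero.1 (algebraMap_inj (h (Sum.inl 2)))
    · exact (mem_evenOdd_iff Q A 0 _).2 (sub_eq_zero.1 (h (Sum.inl 3)))
    · exact (mem_evenOdd_iff Q A 1 _).2 (sub_eq_zero.1 (h (Sum.inl 4)))
  · have h5 := h (Sum.inl 5)
    simp only [eqn, hp, if_true] at h5
    exact sub_eq_zero.1 h5

theorem idem_unique {u : CAˣ} {e e' : A}
    (h0 : e • (u : CA) ∈ evenOdd _ 0) (h1 : (1 - e) • (u : CA) ∈ evenOdd _ 1)
    (h0' : e' • (u : CA) ∈ evenOdd _ 0) (h1' : (1 - e') • (u : CA) ∈ evenOdd _ 1) : e = e' := by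
  have key : ∀ {a c : A}, a • (u : CA) ∈ evenOdd _ 0 → (1 - c) • (u : CA) ∈ evenOdd _ 1 → a * (1 - c) = 0 := by
    intro a c ha hc
    have hz : (a * (1 - c)) • (u : CA) = 0 := eq_zero_of_even_of_odd
      (by rw [mul_comm, ← smul_smul]; exact Submodule.smul_mem _ _ ha)
      (by rw [← smul_smul]; exact Submodule.smul_mem _ _ hc)
    rw [Algebra.smul_def, Units.mul_left_eq_zero] at hz
    exact algebraMap_inj hz
  linear_combination key h0 h1' - key h0' h1

theorem exists_sol (u : CAˣ) (hu : u ∈ grp Q pinned A) :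
    ∃ x : (gEqs b Q pinned).Sol A, unitOf b Q pinned A x = u := by
  rw [mem_grp_iff] at hu
  obtain ⟨⟨hu', hl⟩, hn⟩ := hu
  obtain ⟨e, he, h0, h1⟩ := (QuadGrp.mem_LH _ _).1 hl
  let x : Var n → A := fun s => match s with
    | Sum.inl (Sum.inl j) => (bcBasis Q A b).equivFun (u : CA) j
    | Sum.inl (Sum.inr j) => (bcBasis Q A b).equivFun (↑u⁻¹ : CA) j
    | Sum.inr _ => e
  have hel : el b Q A x = u := (bcBasis Q A b).equivFun.symm_apply_apply _
  have helI : elI b Q A x = ↑u⁻¹ := (bcBasis Q A b).equivFun.symm_apply_apply _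
  have hmem : ∀ {g : CAˣ}, g ∈ QuadGrp.GPin' (QuadGrp.baseChangeForm A Q) → ∀ v,
      (g : CA) * ι _ v * (↑g⁻¹ : CA) ∈ LinearMap.range (ι (QuadGrp.baseChangeForm A Q)) := by
    intro g hg v
    have h := Submodule.smul_mem_pointwise_smul (ι _ v) (ConjAct.toConjAct g)
      (LinearMap.range (ι (QuadGrp.baseChangeForm A Q))) ⟨_, rfl⟩
    rw [ConjAct.units_smul_def, ConjAct.ofConjAct_toConjAct, (QuadGrp.mem_GPin' _ _).1 hg] at h
    exact h
  refine ⟨⟨x, (sol_iff b Q pinned A x).2 ?_⟩, Units.ext hel⟩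
  have hide : idem A x = e := rfl
  rintro (i | i | i)
  · fin_cases i
    · simp [eqn, hel, helI]
    · simp [eqn, hel, helI]
    · simp [eqn, hide, he.eq]
    · simp [eqn, hide, hel, (mem_evenOdd_iff Q A 0 _).1 h0]
    · simp [eqn, hide, hel, (mem_evenOdd_iff Q A 1 _).1 h1]
    · cases pinned
      · simp [eqn]
      · simp [eqn, hel, hn rfl]
  · simp only [eqn, hel, helI, sub_eq_zero]
    refine (mem_range_ι_iff Q A _).1 ?_
    rw [bcHom_ι]
    exact hmem hu' _
  · simp only [eqn, hel, helI, sub_eq_zero]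
    refine (mem_range_ι_iff Q A _).1 ?_
    rw [bcHom_ι]
    simpa using hmem (inv_mem hu') ((1 : A) ⊗ₜ[R] b i)

theorem unitOf_injective : Function.Injective (unitOf b Q pinned A) := by
  intro x y h
  have h1 : el b Q A x.1 = el b Q A y.1 := congrArg Units.val h
  have h2 : elI b Q A x.1 = elI b Q A y.1 := congrArg (fun u : CAˣ => (↑u⁻¹ : CA)) h
  have hx := (sol_iff b Q pinned A x.1).1 x.2
  have hy := (sol_iff b Q pinned A y.1).1 y.2
  have par : ∀ (i : ZMod 2) (w : CA), ext Q A (parProj Q i) w - w = 0 → w ∈ evenOdd _ i := fun i w hw =>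
    (mem_evenOdd_iff Q A i w).2 (sub_eq_zero.1 hw)
  have he : idem A x.1 = idem A y.1 := idem_unique Q A (u := unitOf b Q pinned A x)
    (par 0 _ (hx (Sum.inl 3))) (par 1 _ (hx (Sum.inl 4)))
    (by rw [show ((unitOf b Q pinned A x : CAˣ) : CA) = el b Q A y.1 from h1]; exact par 0 _ (hy (Sum.inl 3)))
    (by rw [show ((unitOf b Q pinned A x : CAˣ) : CA) = el b Q A y.1 from h1]; exact par 1 _ (hy (Sum.inl 4)))
  refine Subtype.ext (funext fun s => ?_)
  rcases s with (j | j) | ⟨⟩
  · exact congrFun ((bcBasis Q A b).equivFun.symm.injective h1) j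
  · exact congrFun ((bcBasis Q A b).equivFun.symm.injective h2) j
  · exact he

/-- Points. -/
def gEquiv : ((gEqs b Q pinned).Coord →ₐ[R] A) ≃ ↥(grp Q pinned A) :=
  ((gEqs b Q pinned).equiv A).trans
    (Equiv.ofBijective (fun x => ⟨unitOf b Q pinned A x, unitOf_mem b Q pinned A x⟩)
      ⟨fun _ _ h => unitOf_injective b Q pinned A (congrArg Subtype.val h),
        fun u => (exists_sol b Q pinned A u.1 u.2).imp fun _ h => Subtype.ext h⟩)

theorem gEquiv_val (ψ : (gEqs b Q pinned).Coord →ₐ[R] A) :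
    ((gEquiv b Q pinned A ψ).1 : CAˣ).val = el b Q A ((gEqs b Q pinned).equiv A ψ).1 := rfl

variable {A} {B : Type u} [CommRing B] [Algebra R B]

theorem gEquiv_comp (φ : A →ₐ[R] B) (ψ : (gEqs b Q pinned).Coord →ₐ[R] A) :
    (gEquiv b Q pinned B (φ.comp ψ)).1.val = bcMap Q φ (gEquiv b Q pinned A ψ).1.val := by
  rw [gEquiv_val, gEquiv_val, bcMap_el, QuadLib.Eqs.equiv_comp]

end points

variable {b Q pinned}

include b in
/-- Smoothness from lifting. -/
theorem smooth_of_lift
    (H : ∀ (A B : Type u) [CommRing A] [Algebra R A] [CommRing B] [Algebra R B] [IsLocalRing A] [IsLocalRing B]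
      (φ : A →ₐ[R] B), Function.Surjective φ → RingHom.ker φ.toRingHom ^ 2 = ⊥ → ∀ u₀ ∈ grp Q pinned B,
        ∃ u ∈ grp Q pinned A, bcMap Q φ u.val = u₀.val) :
    Algebra.Smooth R (gEqs b Q pinned).Coord := by
  refine (gEqs b Q pinned).smooth_of_local_lift fun A B _ _ _ _ _ _ φ hφ hk y => ?_
  obtain ⟨u, hu, hFu⟩ := H A B φ hφ hk (unitOf b Q pinned B y) (unitOf_mem b Q pinned B y)
  obtain ⟨x, rfl⟩ := exists_sol b Q pinned A u hu
  refine ⟨x, ?_⟩
  have hs : ∀ s, (gEqs b Q pinned).E B (φ ∘ x.1) s = 0 := fun s => by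
    rw [← (gEqs b Q pinned).map, x.2, map_zero]
  have : (⟨φ ∘ x.1, hs⟩ : (gEqs b Q pinned).Sol B) = y :=
    unitOf_injective b Q pinned B (Units.ext ((bcMap_el b Q x.1 φ).symm.trans hFu))
  exact congrArg Subtype.val this

open MonObj in
include b in
/-- The scheme with those points. -/
theorem smooth_isAffineHom
    (H : ∀ (A B : Type u) [CommRing A] [Algebra R A] [CommRing B] [Algebra R B] [IsLocalRing A] [IsLocalRing B]
      (φ : A →ₐ[R] B), Function.Surjective φ → RingHom.ker φ.toRingHom ^ 2 = ⊥ → ∀ u₀ ∈ grp Q pinned B,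
        ∃ u ∈ grp Q pinned A, bcMap Q φ u.val = u₀.val)
    {G : Over (Spec (CommRingCat.of R))} [GrpObj G]
    (D : QuadGrp.CliffRep Q (fun A _ _ => grp Q pinned A) G) :
    AlgebraicGeometry.Smooth G.hom ∧ IsAffineHom G.hom := by
  haveI := smooth_of_lift (b := b) H
  refine QuadLib.smooth_isAffineHom_of_natural
    (fun A _ _ => (gEquiv b Q pinned A).trans (D.pts A).toEquiv.symm) fun A B _ _ _ _ φ ψ => ?_
  refine (D.pts B).injective (Subtype.ext (Units.ext ?_))
  rw [D.natural A B φ (bcMap Q φ) (bcMap_ι Q φ) (bcMap_algebraMap Q φ)]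
  show bcMap Q φ ((D.pts A ((D.pts A).symm (gEquiv b Q pinned A ψ))).1.val) =
    (D.pts B ((D.pts B).symm (gEquiv b Q pinned B (φ.comp ψ)))).1.val
  rw [MulEquiv.apply_symm_apply, MulEquiv.apply_symm_apply]
  exact (gEquiv_comp b Q pinned φ ψ).symm

end Groth.Agent.CliffStr

end
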