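import Mathlib.LinearAlgebra.Charpoly.BaseChange
import Mathlib.RingTheory.Spectrum.Prime.Topology
import Groth.Agent.CliffStr.EvenLocal

/-!
# The Dickson invariant over an arbitrary base

`bcAut`: base change of an isometry. `dickson_iff_local`, `det_eq_one`, `isClopen_trivLocus`, `det_eq_neg_one`.
-/

set_option autoImplicit false
universe u v

open CliffordAlgebra TensorProduct

namespace Groth.Agent.CliffStr

variable {R : Type u} [CommRing R] {M : Type v} [AddCommGroup M] [Module R M] [Module.Free R M]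
  {Q : QuadraticForm R M}

section bc

variable (A : Type u) [CommRing A] [Algebra R A]

local notation "QA" => QuadGrp.baseChangeForm A Q

/-- Base change of a linear automorphism. -/
noncomputable def bcAut (g : M ≃ₗ[R] M) : (A ⊗[R] M) ≃ₗ[A] (A ⊗[R] M) :=
  LinearEquiv.baseChange R A M M g

theorem bcAut_tmul (g : M ≃ₗ[R] M) (a : A) (v : M) : bcAut A g (a ⊗ₜ[R] v) = a ⊗ₜ[R] g v := rfl

theorem bcAut_mem {g : M ≃ₗ[R] M} (hg : g ∈ QuadGrp.O Q) : bcAut A g ∈ QuadGrp.O QA := by
  have h : QuadraticMap.comp (QuadGrp.baseChangeForm A Q) (bcAut A g).toLinearMap = QuadGrp.baseChangeForm A Q :=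
    baseChange_ext fun v => by
    rw [QuadraticMap.comp_apply, LinearEquiv.coe_toLinearMap, bcAut_tmul, bcf_tmul, bcf_tmul, hg v]
  exact fun v => QuadraticMap.congr_fun h v

theorem bcHom_map {g : M ≃ₗ[R] M} (hg : g ∈ QuadGrp.O Q) (y : CliffordAlgebra Q) :
    bcHom A Q (CliffordAlgebra.map (QuadGrp.isometryOfMem Q g hg) y) =
      CliffordAlgebra.map (QuadGrp.isometryOfMem QA (bcAut A g) (bcAut_mem A hg)) (bcHom A Q y) := by
  induction y using CliffordAlgebra.induction with
  | algebraMap r => rw [AlgHom.commutes, bcHom_algebraMap, AlgHom.commutes]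
  | ι x => rw [map_apply_ι, bcHom_ι, bcHom_ι, map_apply_ι]; rfl
  | mul a c ha hc => simp only [map_mul, ha, hc]
  | add a c ha hc => simp only [map_add, ha, hc]

theorem relation_bc {n : ℕ} (b : Module.Basis (Fin n) R M) {y : CliffordAlgebra Q} {t : R}
    (h : ∀ v, ι Q v * y = (algebraMap R _ t - y) * ι Q v) (w : A ⊗[R] M) :
    ι QA w * bcHom A Q y = (algebraMap A _ (algebraMap R A t) - bcHom A Q y) * ι QA w := by
  rw [← (b.baseChange A).sum_repr w, map_sum, Finset.sum_mul, Finset.mul_sum]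
  refine Finset.sum_congr rfl fun i _ => ?_
  have e := congrArg (bcHom A Q) (h (b i))
  rw [map_mul, map_mul, map_sub, bcHom_ι, bcHom_algebraMap] at e
  rw [map_smul, Module.Basis.baseChange_apply, smul_mul_assoc, mul_smul_comm, e]

end bc

/-- A numerator of an Arf element. -/
structure NearArf (Q : QuadraticForm R M) (t r : R) (y : CliffordAlgebra Q) : Prop where
  even : y ∈ evenOdd Q 0
  rel : ∀ v, ι Q v * y = (algebraMap R _ t - y) * ι Q v
  sq : (algebraMap R _ t - 2 * y) * (algebraMap R _ t - 2 * y) = algebraMap R _ r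

theorem odd_mul_rel {y : CliffordAlgebra Q} {t : R} (h : ∀ v, ι Q v * y = (algebraMap R _ t - y) * ι Q v)
    {q : CliffordAlgebra Q} (hq : q ∈ evenOdd Q 1) : q * y = (algebraMap R _ t - y) * q := by
  have h' : ∀ v, ι Q v * (algebraMap R _ t - y) = y * ι Q v := fun v => by
    rw [mul_sub, h, sub_mul, ← Algebra.commutes, sub_sub_cancel]
  induction q, hq using CliffordAlgebra.odd_induction with
  | ι v => exact h v
  | add a c _ _ ha hc => rw [add_mul, mul_add, ha, hc]
  | ι_mul_ι_mul m₁ m₂ a _ ha =>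
    rw [mul_assoc (ι Q m₁ * ι Q m₂), ha, ← mul_assoc, mul_assoc (ι Q m₁), h', ← mul_assoc (ι Q m₁), h]
    simp only [mul_assoc]

theorem pair_commute_of_rel {y : CliffordAlgebra Q} {t : R} (h : ∀ v, ι Q v * y = (algebraMap R _ t - y) * ι Q v)
    (x x' : M) : ι Q x * ι Q x' * y = y * (ι Q x * ι Q x') := by
  rw [mul_assoc, h, ← mul_assoc, mul_sub, h, ← Algebra.commutes, ← sub_mul, sub_sub_cancel, mul_assoc]

section dickson

variable [Module.Finite R M] {m : ℕ} (hM : Module.finrank R M = 2 * m) (hQ : QuadGrp.IsRegular Q)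
  {g : M ≃ₗ[R] M} (hg : g ∈ QuadGrp.O Q)

/-- The isometry satisfies the Dickson condition at `p`. -/
def TrivAt (hg : g ∈ QuadGrp.O Q) (p : Ideal R) [p.IsPrime] : Prop :=
  QuadGrp.IsDicksonTrivial (QuadGrp.baseChangeForm (Localization.AtPrime p) Q) (bcAut _ g) (bcAut_mem _ hg)

include hM hQ in
theorem local_data (p : Ideal R) [p.IsPrime] :
    Module.finrank (Localization.AtPrime p) (Localization.AtPrime p ⊗[R] M) = 2 * m ∧
      QuadGrp.IsRegular (QuadGrp.baseChangeForm (Localization.AtPrime p) Q) := by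
  haveI : Nontrivial R := ⟨⟨0, 1, fun h => ‹p.IsPrime›.ne_top ((Ideal.eq_top_iff_one p).2 (h ▸ p.zero_mem))⟩⟩
  exact ⟨by rw [Module.finrank_baseChange, hM], regular_bcf _ (Module.finBasis R M) hQ⟩

include hM hQ in
theorem exists_near (p : Ideal R) [p.IsPrime] :
    ∃ (t r : R) (y : CliffordAlgebra Q), t ∉ p ∧ r ∉ p ∧ NearArf Q t r y := by
  haveI : Nontrivial R := ⟨⟨0, 1, fun h => ‹p.IsPrime›.ne_top ((Ideal.eq_top_iff_one p).2 (h ▸ p.zero_mem))⟩⟩
  classical
  obtain ⟨hM', hQ'⟩ := local_data hM hQ p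
  obtain ⟨z, -, hz⟩ := exists_even_data hM' hQ'
  obtain ⟨c, hc, hcu⟩ := hz.sq
  let b := Module.finBasis R M
  obtain ⟨s, hs, x, hx⟩ := exists_numerator p z
  obtain ⟨x₀, h0, x₁, h1, hx01⟩ := exists_even_odd x
  have hx0 : bcHom (Localization.AtPrime p) Q x₀ = algebraMap R (Localization.AtPrime p) s • z := by
    have e : (bcHom (Localization.AtPrime p) Q x₀ - algebraMap R (Localization.AtPrime p) s • z) +
        bcHom (Localization.AtPrime p) Q x₁ = 0 := by
      rw [sub_add_eq_add_sub, ← map_add, hx01, hx, sub_self]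
    exact sub_eq_zero.1 (eq_zero_of_add_eq_zero (sub_mem (bcHom_mem _ Q h0) (Submodule.smul_mem _ _ hz.even))
      (bcHom_mem _ Q h1) e).1
  choose t ht htc using fun i => exists_smul_eq_zero (Q := Q) p
    (y := ι Q (b i) * x₀ - (algebraMap R _ s - x₀) * ι Q (b i)) (by
      rw [map_sub, map_mul, map_mul, map_sub, hx0, bcHom_ι, bcHom_algebraMap, mul_smul_comm,
        hz.on _ Submodule.mem_top]
      simp only [Algebra.smul_def, sub_mul, mul_sub, mul_assoc, one_mul, mul_one, sub_self])
  obtain ⟨⟨r, s'⟩, hr⟩ := IsLocalization.surj p.primeCompl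
    (algebraMap R (Localization.AtPrime p) s * algebraMap R (Localization.AtPrime p) s * (1 + 4 * c))
  have hrp : r ∉ p := by
    intro hm
    refine (IsLocalization.AtPrime.isUnit_to_map_iff (Localization.AtPrime p) p r).1 ?_ hm
    rw [← hr]
    have hs' : IsUnit (algebraMap R (Localization.AtPrime p) s) :=
      IsLocalization.map_units (Localization.AtPrime p) (⟨s, hs⟩ : p.primeCompl)
    exact ((hs'.mul hs').mul hcu).mul (IsLocalization.map_units (Localization.AtPrime p) s')
  obtain ⟨t', ht', htsq⟩ := exists_smul_eq_zero (Q := Q) p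
    (y := (s' : R) • ((algebraMap R _ s - 2 * x₀) * (algebraMap R _ s - 2 * x₀)) - algebraMap R _ r) (by
      have hw : (1 - 2 * z) * (1 - 2 * z) =
          algebraMap (Localization.AtPrime p) (CliffordAlgebra (QuadGrp.baseChangeForm (Localization.AtPrime p) Q)) (1 + 4 * c) := by
        rw [sub_mul, one_mul, mul_sub, mul_one, show 2 * z * (2 * z) = 4 * (z * z) by noncomm_ring, hc, map_add, map_one,
          map_mul, map_ofNat]
        noncomm_ring
      rw [map_sub, bcHom_smul, map_mul, map_sub, map_mul, map_ofNat, hx0, bcHom_algebraMap, bcHom_algebraMap,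
        mul_smul_comm, Algebra.algebraMap_eq_smul_one (algebraMap R _ s), ← smul_sub, smul_mul_smul_comm, hw, smul_smul,
        Algebra.smul_def, ← map_mul, ← map_sub, ← hr]
      exact (congrArg (algebraMap (Localization.AtPrime p) _) (by ring)).trans (map_zero _))
  let T : R := (∏ i, t i) * (t' * (s' : R))
  have hT : T ∉ p := fun hm => by
    rcases ‹p.IsPrime›.mem_or_mem hm with hm | hm
    · obtain ⟨i, -, hi⟩ := (‹p.IsPrime›.prod_mem_iff).1 hm
      exact ht i hi
    · exact (‹p.IsPrime›.mem_or_mem hm).elim ht' s'.2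
  refine ⟨T * s, T * (∏ i, t i) * (t' * r), T • x₀, fun hm => (‹p.IsPrime›.mem_or_mem hm).elim hT hs, fun hm => ?_,
    Submodule.smul_mem _ _ h0, fun v => ?_, ?_⟩
  · rcases ‹p.IsPrime›.mem_or_mem hm with hm | hm
    · rcases ‹p.IsPrime›.mem_or_mem hm with hm | hm
      · exact hT hm
      · obtain ⟨i, -, hi⟩ := (‹p.IsPrime›.prod_mem_iff).1 hm
        exact ht i hi
    · exact (‹p.IsPrime›.mem_or_mem hm).elim ht' hrp
  · have hb : ∀ i, ι Q (b i) * (T • x₀) = (algebraMap R _ (T * s) - T • x₀) * ι Q (b i) := fun i => by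
      rw [← sub_eq_zero, map_mul, ← Algebra.smul_def, ← smul_sub,
        smul_mul_assoc, mul_smul_comm, ← smul_sub,
        show T = ((∏ j ∈ Finset.univ.erase i, t j) * (t' * (s' : R))) * t i by
          simp only [T]; rw [← Finset.mul_prod_erase _ t (Finset.mem_univ i)]; ring,
        ← smul_smul, htc, smul_zero]
    rw [← b.sum_repr v, map_sum, Finset.sum_mul, Finset.mul_sum]
    exact Finset.sum_congr rfl fun i _ => by rw [map_smul, smul_mul_assoc, hb, mul_smul_comm]
  · rw [smul_sub, sub_eq_zero, smul_smul, Algebra.smul_def t', ← map_mul] at htsq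
    rw [Algebra.algebraMap_eq_smul_one, ← smul_smul, ← Algebra.algebraMap_eq_smul_one, mul_smul_comm, ← smul_sub,
      smul_mul_smul_comm, show T * T = (T * (∏ i, t i)) * (t' * (s' : R)) by simp only [T]; ring, ← smul_smul, htsq,
      Algebra.smul_def, ← map_mul]

include hM hQ in
theorem triv_of_near (p : Ideal R) [p.IsPrime] {t r : R} {y : CliffordAlgebra Q} (hy : NearArf Q t r y) :
    (TrivAt hg p → bcHom (Localization.AtPrime p) Q (CliffordAlgebra.map (QuadGrp.isometryOfMem Q g hg) y - y) = 0) ∧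
    (¬ TrivAt hg p →
      bcHom (Localization.AtPrime p) Q (CliffordAlgebra.map (QuadGrp.isometryOfMem Q g hg) y - (algebraMap R _ t - y)) = 0) ∧
    (r ∉ p → bcHom (Localization.AtPrime p) Q (algebraMap R _ t - 2 * y) ≠ 0) := by
  haveI : Nontrivial R := ⟨⟨0, 1, fun h => ‹p.IsPrime›.ne_top ((Ideal.eq_top_iff_one p).2 (h ▸ p.zero_mem))⟩⟩
  obtain ⟨hM', hQ'⟩ := local_data hM hQ p
  let b := Module.finBasis R M
  have hrel := relation_bc (Localization.AtPrime p) b hy.rel
  refine ⟨fun htr => ?_, fun htr => ?_, fun hr h => ?_⟩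
  · rw [map_sub, bcHom_map _ hg, (dickson_iff (bcAut_mem _ hg)).1 htr _ (bcHom_mem _ Q hy.even)
      (pair_commute_of_rel hrel), sub_self]
  · obtain ⟨u, hi, ⟨-, hd, -⟩ | ⟨hu, -, -⟩⟩ := exists_conj hM' hQ' (bcAut_mem (Localization.AtPrime p) hg)
    · exact absurd hd htr
    · rw [map_sub, bcHom_map _ hg, map_eq_conj _ hi, odd_mul_rel hrel hu, mul_assoc, Units.mul_inv, mul_one, map_sub,
        bcHom_algebraMap, sub_self]
  · have e := congrArg (bcHom (Localization.AtPrime p) Q) hy.sq
    rw [map_mul, h, zero_mul, bcHom_algebraMap] at e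
    have hu : IsUnit (algebraMap R (Localization.AtPrime p) r) :=
      (IsLocalization.AtPrime.isUnit_to_map_iff (Localization.AtPrime p) p r).2 hr
    exact hu.ne_zero (algebraMap_inj e.symm)

include hM hQ in
theorem trivAt_of_trivial (hd : QuadGrp.IsDicksonTrivial Q g hg) (p : Ideal R) [p.IsPrime] : TrivAt hg p := by
  by_contra htr
  obtain ⟨t, r, y, -, hr, hy⟩ := exists_near hM hQ p
  obtain ⟨-, h2, h3⟩ := triv_of_near hM hQ hg p hy
  refine h3 hr ?_
  have h := h2 htr
  rw [(dickson_iff hg).1 hd y hy.even (pair_commute_of_rel hy.rel), map_sub, sub_eq_zero] at h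
  rw [map_sub] at h ⊢
  rw [map_mul, map_ofNat, two_mul, sub_eq_zero]
  exact (eq_sub_iff_add_eq.1 h).symm

include hM hQ in
theorem trivial_of_trivAt (h : ∀ (p : Ideal R) [p.IsMaximal], TrivAt hg p) : QuadGrp.IsDicksonTrivial Q g hg := by
  refine (dickson_iff hg).2 fun y h0 hy => sub_eq_zero.1 (eq_zero_of_local fun p _ => ?_)
  haveI : Nontrivial R := ⟨⟨0, 1, fun h => (inferInstance : p.IsPrime).ne_top ((Ideal.eq_top_iff_one p).2 (h ▸ p.zero_mem))⟩⟩
  rw [map_sub, bcHom_map _ hg, sub_eq_zero]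
  refine (dickson_iff (bcAut_mem _ hg)).1 (h p) _ (bcHom_mem _ Q h0) fun v w => ?_
  let bA := (Module.finBasis R M).baseChange (Localization.AtPrime p)
  rw [← bA.sum_repr v, ← bA.sum_repr w, map_sum, map_sum, Finset.sum_mul_sum, Finset.sum_mul, Finset.mul_sum]
  refine Finset.sum_congr rfl fun i _ => ?_
  rw [Finset.sum_mul, Finset.mul_sum]
  refine Finset.sum_congr rfl fun j _ => ?_
  have e := congrArg (bcHom (Localization.AtPrime p) Q) (hy (Module.finBasis R M i) (Module.finBasis R M j))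
  simp only [map_mul, bcHom_ι] at e
  simp only [map_smul, bA, Module.Basis.baseChange_apply, smul_mul_assoc, mul_smul_comm, e]

include hM hQ in
theorem det_cases (p : Ideal R) [p.IsPrime] :
    (TrivAt hg p → algebraMap R (Localization.AtPrime p) (LinearEquiv.det g : Rˣ) = 1) ∧
    (¬ TrivAt hg p → algebraMap R (Localization.AtPrime p) (LinearEquiv.det g : Rˣ) = -1) := by
  obtain ⟨hM', hQ'⟩ := local_data hM hQ p
  obtain ⟨u, hi, h⟩ := exists_conj hM' hQ' (bcAut_mem (Localization.AtPrime p) hg)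
  have e : algebraMap R (Localization.AtPrime p) (LinearEquiv.det g : Rˣ) =
      (LinearEquiv.det (bcAut (Localization.AtPrime p) g) : (Localization.AtPrime p)ˣ) := by
    rw [LinearEquiv.coe_det, LinearEquiv.coe_det, ← LinearMap.det_baseChange]
    rfl
  rcases h with ⟨-, hd, hdet⟩ | ⟨-, hd, hdet⟩
  · exact ⟨fun _ => by rw [e, hdet, Units.val_one], fun hn => absurd hd hn⟩
  · exact ⟨fun ht => absurd ht hd, fun _ => by rw [e, hdet, Units.val_neg, Units.val_one]⟩

theorem eq_of_local_maximal {a c : R}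
    (h : ∀ (p : Ideal R) [p.IsMaximal], algebraMap R (Localization.AtPrime p) a = algebraMap R (Localization.AtPrime p) c) :
    a = c := by
  by_contra hne
  obtain ⟨p, hp, hle⟩ := Ideal.exists_le_maximal (Submodule.span R {a - c}).annihilator (fun htop => hne (by
    have := (Submodule.mem_annihilator_span_singleton _ _).1 (htop ▸ Submodule.mem_top : (1 : R) ∈ _)
    rwa [one_smul, sub_eq_zero] at this))
  obtain ⟨s, hs⟩ := (IsLocalization.eq_iff_exists p.primeCompl (Localization.AtPrime p)).1 (h p)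
  exact s.2 (hle ((Submodule.mem_annihilator_span_singleton _ _).2 (by rw [smul_sub, smul_eq_mul, smul_eq_mul, hs, sub_self])))

include hM hQ in
/-- The Dickson condition forces determinant one. -/
theorem det_eq_one (hd : QuadGrp.IsDicksonTrivial Q g hg) : LinearEquiv.det g = 1 := by
  refine Units.ext (eq_of_local_maximal fun p _ => ?_)
  rw [(det_cases hM hQ hg p).1 (trivAt_of_trivial hM hQ hg hd p), Units.val_one, map_one]

include hM hQ in
/-- Determinant one gives the Dickson condition when two is invertible. -/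
theorem trivial_of_det (h2 : IsUnit (2 : R)) (hdet : LinearEquiv.det g = 1) : QuadGrp.IsDicksonTrivial Q g hg := by
  refine trivial_of_trivAt hM hQ hg fun p _ => ?_
  by_contra htr
  have h := (det_cases hM hQ hg p).2 htr
  rw [hdet, Units.val_one, map_one, eq_neg_iff_add_eq_zero, one_add_one_eq_two, ← map_ofNat (algebraMap R _) 2] at h
  exact (h2.map (algebraMap R (Localization.AtPrime p))).ne_zero h

/-- The primes where the isometry satisfies the Dickson condition. -/
def trivLocus (hg : g ∈ QuadGrp.O Q) : Set (PrimeSpectrum R) := {p | TrivAt hg p.asIdeal}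

include hM hQ in
theorem isClopen_trivLocus : IsClopen (trivLocus hg) := by
  have key : ∀ p : PrimeSpectrum R, ∃ U : Set (PrimeSpectrum R), IsOpen U ∧ p ∈ U ∧
      ∀ q ∈ U, (TrivAt hg q.asIdeal ↔ TrivAt hg p.asIdeal) := by
    intro p
    obtain ⟨t, r, y, ht, hr, hy⟩ := exists_near hM hQ p.asIdeal
    have hcontra : ∀ q : PrimeSpectrum R, r ∉ q.asIdeal →
        bcHom (Localization.AtPrime q.asIdeal) Q (CliffordAlgebra.map (QuadGrp.isometryOfMem Q g hg) y - y) = 0 →
        bcHom (Localization.AtPrime q.asIdeal) Q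
          (CliffordAlgebra.map (QuadGrp.isometryOfMem Q g hg) y - (algebraMap R _ t - y)) = 0 → False := fun q hrq h1 h2 => by
      refine (triv_of_near hM hQ hg q.asIdeal hy).2.2 hrq ?_
      rw [show algebraMap R (CliffordAlgebra Q) t - 2 * y = (CliffordAlgebra.map (QuadGrp.isometryOfMem Q g hg) y - y) -
        (CliffordAlgebra.map (QuadGrp.isometryOfMem Q g hg) y - (algebraMap R _ t - y)) by rw [two_mul]; abel,
        map_sub, h1, h2, sub_self]
    have hbasic : ∀ {d : CliffordAlgebra Q}, bcHom (Localization.AtPrime p.asIdeal) Q d = 0 →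
        ∃ t' ∉ p.asIdeal, ∀ q : PrimeSpectrum R, t' ∉ q.asIdeal → bcHom (Localization.AtPrime q.asIdeal) Q d = 0 := by
      intro d hd
      obtain ⟨t', ht', h⟩ := exists_smul_eq_zero p.asIdeal hd
      refine ⟨t', ht', fun q hq => ?_⟩
      have e := congrArg (bcHom (Localization.AtPrime q.asIdeal) Q) h
      rw [map_zero, bcHom_smul] at e
      exact ((IsLocalization.AtPrime.isUnit_to_map_iff (Localization.AtPrime q.asIdeal) q.asIdeal t').2 hq).smul_eq_zero.1 e
    by_cases htr : TrivAt hg p.asIdeal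
    · obtain ⟨t', ht', h⟩ := hbasic ((triv_of_near hM hQ hg p.asIdeal hy).1 htr)
      refine ⟨↑(PrimeSpectrum.basicOpen r ⊓ PrimeSpectrum.basicOpen t'), TopologicalSpace.Opens.isOpen _, ⟨hr, ht'⟩,
        fun q hq => iff_of_true (by_contra fun hn => hcontra q hq.1 (h q hq.2) ((triv_of_near hM hQ hg q.asIdeal hy).2.1 hn)) htr⟩
    · obtain ⟨t', ht', h⟩ := hbasic ((triv_of_near hM hQ hg p.asIdeal hy).2.1 htr)
      refine ⟨↑(PrimeSpectrum.basicOpen r ⊓ PrimeSpectrum.basicOpen t'), TopologicalSpace.Opens.isOpen _, ⟨hr, ht'⟩,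
        fun q hq => iff_of_false (fun hn => hcontra q hq.1 ((triv_of_near hM hQ hg q.asIdeal hy).1 hn) (h q hq.2)) htr⟩
  constructor
  · refine isOpen_compl_iff.1 (isOpen_iff_forall_mem_open.2 fun p hp => ?_)
    obtain ⟨U, hU, hpU, h⟩ := key p
    exact ⟨U, fun q hq hqt => hp ((h q hq).1 hqt), hU, hpU⟩
  · refine isOpen_iff_forall_mem_open.2 fun p hp => ?_
    obtain ⟨U, hU, hpU, h⟩ := key p
    exact ⟨U, fun q hq => (h q hq).2 hp, hU, hpU⟩

include hM hQ in
/-- Over a connected base a failure of the Dickson condition forces determinant minus one. -/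
theorem det_eq_neg_one (hc : ConnectedSpace (PrimeSpectrum R)) (hd : ¬ QuadGrp.IsDicksonTrivial Q g hg) :
    LinearEquiv.det g = -1 := by
  rcases isClopen_iff.1 (isClopen_trivLocus hM hQ hg) with h | h
  · refine Units.ext (eq_of_local_maximal fun p _ => ?_)
    have hn : ¬ TrivAt hg p := fun ht => by
      have hmem : (⟨p, inferInstance⟩ : PrimeSpectrum R) ∈ trivLocus hg := ht
      rw [h] at hmem
      exact hmem
    rw [(det_cases hM hQ hg p).2 hn, Units.val_neg, Units.val_one, map_neg, map_one]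
  · exact absurd (trivial_of_trivAt hM hQ hg fun p _ => by
      have hmem : (⟨p, inferInstance⟩ : PrimeSpectrum R) ∈ trivLocus hg := by rw [h]; trivial
      exact hmem) hd

end dickson

end Groth.Agent.CliffStr
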