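import Groth.Agent.CliffStr.Exists
import Mathlib.RingTheory.TensorProduct.Maps
import Mathlib.RingTheory.Localization.BaseChange

/-!
# Base change of Clifford algebras
-/

set_option autoImplicit false
universe u v

open CliffordAlgebra TensorProduct

namespace Groth.Agent.CliffStr

variable {R : Type u} [CommRing R] {M : Type v} [AddCommGroup M] [Module R M] [Module.Free R M]
  (A : Type u) [CommRing A] [Algebra R A] (Q : QuadraticForm R M)

local notation "QA" => QuadGrp.baseChangeForm A Q

theorem bcf_tmul (a : A) (m : M) : QA (a ⊗ₜ[R] m) = a * a * algebraMap R A (Q m) := by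
  simp [QuadGrp.baseChangeForm, QuadGrp.baseChange_tmul, Algebra.smul_def]
  ring

theorem polar_bcf_tmul (a a' : A) (m m' : M) :
    QuadraticMap.polar QA (a ⊗ₜ[R] m) (a' ⊗ₜ[R] m') = a * a' * algebraMap R A (QuadraticMap.polar Q m m') := by
  have h1 : ∀ x : M, a ⊗ₜ[R] x = a • ((1 : A) ⊗ₜ[R] x) := fun x => by rw [TensorProduct.smul_tmul', smul_eq_mul, mul_one]
  have h2 : a' ⊗ₜ[R] m' = a' • ((1 : A) ⊗ₜ[R] m') := by rw [TensorProduct.smul_tmul', smul_eq_mul, mul_one]
  rw [h1, h2, QuadraticMap.polar_smul_left, QuadraticMap.polar_smul_right]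
  simp only [QuadraticMap.polar, ← TensorProduct.tmul_add, bcf_tmul, one_mul, map_sub, smul_eq_mul]
  ring

/-- The map of Clifford algebras to a base change, linear over the base. -/
noncomputable def bcHom : CliffordAlgebra Q →ₐ[R] CliffordAlgebra QA :=
  CliffordAlgebra.lift Q ⟨((ι QA).restrictScalars R).comp (TensorProduct.mk R A M 1), fun m => by
    show ι QA ((1 : A) ⊗ₜ[R] m) * ι QA ((1 : A) ⊗ₜ[R] m) = _
    rw [ι_sq_scalar, bcf_tmul, one_mul, one_mul, ← IsScalarTower.algebraMap_apply]⟩

theorem bcHom_ι (m : M) : bcHom A Q (ι Q m) = ι QA ((1 : A) ⊗ₜ[R] m) := by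
  rw [bcHom, lift_ι_apply]
  rfl

theorem bcHom_algebraMap (r : R) : bcHom A Q (algebraMap R _ r) = algebraMap A _ (algebraMap R A r) := by
  rw [AlgHom.commutes, ← IsScalarTower.algebraMap_apply]

/-- The base change of the Clifford algebra maps to the Clifford algebra of the base change. -/
noncomputable def bcTo : A ⊗[R] CliffordAlgebra Q →ₐ[A] CliffordAlgebra QA :=
  Algebra.TensorProduct.lift (Algebra.ofId A _) (bcHom A Q) fun a x => Algebra.commutes a _

theorem bcTo_tmul (a : A) (x : CliffordAlgebra Q) : bcTo A Q (a ⊗ₜ[R] x) = a • bcHom A Q x := by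
  rw [bcTo, Algebra.TensorProduct.lift_tmul, Algebra.smul_def]
  rfl

theorem cross_term (v w : A ⊗[R] M) :
    LinearMap.baseChange A (ι Q) v * LinearMap.baseChange A (ι Q) w +
      LinearMap.baseChange A (ι Q) w * LinearMap.baseChange A (ι Q) v =
        algebraMap A (A ⊗[R] CliffordAlgebra Q) (QuadraticMap.polar QA v w) := by
  induction v using TensorProduct.induction_on with
  | zero => simp
  | add v₁ v₂ h1 h2 =>
    rw [map_add, add_mul, mul_add, QuadraticMap.polar_add_left, map_add, ← h1, ← h2]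
    abel
  | tmul a m =>
    induction w using TensorProduct.induction_on with
    | zero => simp
    | add w₁ w₂ h1 h2 =>
      rw [map_add, add_mul, mul_add, QuadraticMap.polar_add_right, map_add, ← h1, ← h2]
      abel
    | tmul a' m' =>
      rw [LinearMap.baseChange_tmul, LinearMap.baseChange_tmul, Algebra.TensorProduct.tmul_mul_tmul,
        Algebra.TensorProduct.tmul_mul_tmul, mul_comm a' a, ← TensorProduct.tmul_add, ι_mul_ι_add_swap,
        polar_bcf_tmul, Algebra.TensorProduct.algebraMap_apply, Algebra.algebraMap_eq_smul_one,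
        TensorProduct.tmul_smul, TensorProduct.smul_tmul', Algebra.algebraMap_self, RingHom.id_apply,
        Algebra.smul_def, mul_comm]

theorem baseChange_sq (v : A ⊗[R] M) :
    LinearMap.baseChange A (ι Q) v * LinearMap.baseChange A (ι Q) v =
      algebraMap A (A ⊗[R] CliffordAlgebra Q) (QA v) := by
  induction v using TensorProduct.induction_on with
  | zero => simp
  | tmul a m =>
    rw [LinearMap.baseChange_tmul, Algebra.TensorProduct.tmul_mul_tmul, ι_sq_scalar, bcf_tmul,
      Algebra.TensorProduct.algebraMap_apply, Algebra.algebraMap_eq_smul_one, TensorProduct.tmul_smul,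
      TensorProduct.smul_tmul', Algebra.algebraMap_self, RingHom.id_apply, Algebra.smul_def, mul_comm]
  | add v w hv hw =>
    rw [map_add (LinearMap.baseChange A (ι Q)), add_mul, mul_add, mul_add, hv, hw,
      QuadraticMap.map_add (⇑QA), map_add, map_add, ← cross_term]
    abel

/-- The inverse of `bcTo`. -/
noncomputable def bcInv : CliffordAlgebra QA →ₐ[A] A ⊗[R] CliffordAlgebra Q :=
  CliffordAlgebra.lift QA ⟨LinearMap.baseChange A (ι Q), baseChange_sq A Q⟩

theorem bcInv_bcHom (x : CliffordAlgebra Q) : bcInv A Q (bcHom A Q x) = 1 ⊗ₜ[R] x := by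
  have h : ((bcInv A Q).restrictScalars R).comp (bcHom A Q) = Algebra.TensorProduct.includeRight := by
    refine CliffordAlgebra.hom_ext (LinearMap.ext fun m => ?_)
    show bcInv A Q (bcHom A Q (ι Q m)) = (1 : A) ⊗ₜ[R] ι Q m
    rw [bcHom_ι, bcInv, lift_ι_apply, LinearMap.baseChange_tmul]
  exact AlgHom.congr_fun h x

theorem bcTo_bcInv (y : CliffordAlgebra QA) : bcTo A Q (bcInv A Q y) = y := by
  have h : (bcTo A Q).comp (bcInv A Q) = AlgHom.id A _ := by
    refine CliffordAlgebra.hom_ext (LinearMap.ext fun v => ?_)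
    show bcTo A Q (bcInv A Q (ι QA v)) = ι QA v
    induction v using TensorProduct.induction_on with
    | zero => simp
    | add v w hv hw => simp only [map_add, hv, hw]
    | tmul a m =>
      rw [bcInv, lift_ι_apply, LinearMap.baseChange_tmul, bcTo_tmul, bcHom_ι, ← map_smul, TensorProduct.smul_tmul',
        smul_eq_mul, mul_one]
  exact AlgHom.congr_fun h y

theorem bcInv_bcTo (y : A ⊗[R] CliffordAlgebra Q) : bcInv A Q (bcTo A Q y) = y := by
  induction y using TensorProduct.induction_on with
  | zero => simp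
  | add v w hv hw => simp only [map_add, hv, hw]
  | tmul a x => rw [bcTo_tmul, map_smul, bcInv_bcHom, TensorProduct.smul_tmul', smul_eq_mul, mul_one]

/-- The Clifford algebra commutes with base change. -/
noncomputable def bcEquiv : A ⊗[R] CliffordAlgebra Q ≃ₐ[A] CliffordAlgebra QA :=
  AlgEquiv.ofAlgHom (bcTo A Q) (bcInv A Q) (AlgHom.ext fun y => bcTo_bcInv A Q y)
    (AlgHom.ext fun y => bcInv_bcTo A Q y)

theorem bcEquiv_one_tmul (x : CliffordAlgebra Q) : bcEquiv A Q (1 ⊗ₜ[R] x) = bcHom A Q x := by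
  show bcTo A Q (1 ⊗ₜ[R] x) = _
  rw [bcTo_tmul, one_smul]

/-- `bcHom` preserves parity. -/
theorem bcHom_mem {i : ZMod 2} {x : CliffordAlgebra Q} (hx : x ∈ evenOdd Q i) : bcHom A Q x ∈ evenOdd QA i := by
  induction x, hx using CliffordAlgebra.evenOdd_induction with
  | range_ι_pow y hy =>
    have key : ∀ (k : ℕ) (y : CliffordAlgebra Q), y ∈ LinearMap.range (ι Q) ^ k → bcHom A Q y ∈ evenOdd QA (k : ZMod 2) := by
      intro k
      induction k with
      | zero =>
        intro y hy
        rw [pow_zero] at hy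
        obtain ⟨r, rfl⟩ := Submodule.mem_one.1 hy
        rw [bcHom_algebraMap, Nat.cast_zero]
        exact algebraMap_mem_even _
      | succ k ih =>
        intro y hy
        rw [pow_succ] at hy
        refine Submodule.mul_induction_on hy (fun p hp q hq => ?_) fun p q hp hq => by rw [map_add]; exact add_mem hp hq
        obtain ⟨m, rfl⟩ := hq
        rw [map_mul, bcHom_ι, Nat.cast_succ]
        exact evenOdd_mul_le _ _ _ (Submodule.mul_mem_mul (ih p hp) (ι_mem_evenOdd_one _ _))
    have := key i.val y hy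
    rwa [ZMod.natCast_zmod_val] at this
  | add x y _ _ hx hy => rw [map_add]; exact add_mem hx hy
  | ι_mul_ι_mul m₁ m₂ x _ hx =>
    rw [map_mul, map_mul, bcHom_ι, bcHom_ι]
    have := evenOdd_mul_le QA _ _ (Submodule.mul_mem_mul (ι_mul_ι_mem_evenOdd_zero QA ((1 : A) ⊗ₜ[R] m₁) ((1 : A) ⊗ₜ[R] m₂)) hx)
    rwa [zero_add] at this

end Groth.Agent.CliffStr
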