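import Mathlib.FieldTheory.IsAlgClosed.AlgebraicClosure
import Mathlib.RingTheory.AdjoinRoot
import Mathlib.RingTheory.Smooth.Flat
import Mathlib.RingTheory.Flat.FaithfullyFlat.Algebra
import Groth.Agent.QuadLib.Orth
import Groth.Agent.CliffStr.Local
import Groth.Agent.CliffStr.Exists

/-!
# Semiregular forms of odd rank are split fppf locally

`exists_split_odd`: a faithfully flat finitely presented algebra over which the form becomes the split form.
-/

set_option autoImplicit false
universe u v

open Matrix TensorProduct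

namespace Groth.Agent.CliffStr

open QuadLib (cf cf_mk hd hd_cf_congr hd_row hd_smul pm pm_cf liftMat MatEqs cf_correct global_surj lin extra)

section field

variable {K : Type u} [Field K] [IsAlgClosed K] {M : Type v} [AddCommGroup M] [Module K M] [Module.Free K M]
  [Module.Finite K M] {Q : QuadraticForm K M}

theorem exists_hyperbolic {e f : M} (hef : QuadraticMap.polar Q e f = 1) (hu : IsUnit (4 * Q e * Q f - 1)) :
    ∃ e' f' : M, e' ∈ Submodule.span K ({e, f} : Set M) ∧ f' ∈ Submodule.span K ({e, f} : Set M) ∧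
      Q e' = 0 ∧ Q f' = 0 ∧ QuadraticMap.polar Q e' f' = 1 := by
  have he : e ∈ Submodule.span K ({e, f} : Set M) := Submodule.subset_span (by simp)
  have hf : f ∈ Submodule.span K ({e, f} : Set M) := Submodule.subset_span (by simp)
  by_cases h0 : Q e = 0
  · refine ⟨e, f - Q f • e, he, sub_mem hf (Submodule.smul_mem _ _ he), h0, ?_, ?_⟩
    · rw [sub_eq_add_neg, ← neg_smul, QuadraticMap.map_add (⇑Q), QuadraticMap.map_smul, h0,
        QuadraticMap.polar_smul_right, QuadraticMap.polar_comm, hef]
      simp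
    · rw [QuadraticMap.polar_sub_right, QuadraticMap.polar_smul_right, hef, QuadraticMap.polar_self, h0]
      simp
  · obtain ⟨x, hx⟩ : ∃ x : K, Q e * (x * x) + 1 * x + Q f = 0 := by
      open Polynomial in
      obtain ⟨x, hx⟩ := IsAlgClosed.exists_root (C (Q e) * X ^ 2 + C 1 * X + C (Q f)) (by
        rw [Polynomial.degree_quadratic h0]; decide)
      exact ⟨x, by simpa [sq] using hx⟩
    set c : K := 2 * x * Q e + 1 with hc
    have hcne : c ≠ 0 := fun h => hu.ne_zero (by
      rw [hc] at h
      linear_combination (-(2 * x * Q e + 1)) * h + (4 * Q e) * hx)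
    set e' := x • e + f with he'
    have hQe' : Q e' = 0 := by
      rw [he', QuadraticMap.map_add (⇑Q), QuadraticMap.map_smul, QuadraticMap.polar_smul_left, hef]
      simp only [smul_eq_mul, mul_one]
      linear_combination hx
    have hpe' : QuadraticMap.polar Q e' e = c := by
      rw [he', QuadraticMap.polar_add_left, QuadraticMap.polar_smul_left, QuadraticMap.polar_self,
        QuadraticMap.polar_comm Q f e, hef, hc]
      simp only [nsmul_eq_mul, smul_eq_mul, Nat.cast_ofNat]
      ring
    have h1 : QuadraticMap.polar Q e' (c⁻¹ • e) = 1 := by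
      rw [QuadraticMap.polar_smul_right, hpe', smul_eq_mul, inv_mul_cancel₀ hcne]
    have hmem : e' ∈ Submodule.span K ({e, f} : Set M) := add_mem (Submodule.smul_mem _ _ he) hf
    refine ⟨e', c⁻¹ • e - Q (c⁻¹ • e) • e', hmem,
      sub_mem (Submodule.smul_mem _ _ he) (Submodule.smul_mem _ _ hmem), hQe', ?_, ?_⟩
    · rw [sub_eq_add_neg, ← neg_smul, QuadraticMap.map_add (⇑Q), QuadraticMap.map_smul Q _ e', hQe',
        QuadraticMap.polar_smul_right, QuadraticMap.polar_comm Q _ e', h1]
      simp
    · rw [QuadraticMap.polar_sub_right, QuadraticMap.polar_smul_right Q _ e' e', h1, QuadraticMap.polar_self, hQe']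
      simp

variable {n m : ℕ} (b : Module.Basis (Fin n) K M)

include b in
theorem isUnit_of_line (hn : Odd n) (hQ : QuadGrp.IsSemiregular b (LinearEquiv.refl K K) Q) {P : Submodule K M}
    {z : CliffordAlgebra Q} (h : Arf Q P z) (h1 : Module.finrank K (perp Q P) = 1) :
    ∃ w ∈ perp Q P, Q w ≠ 0 := by
  obtain ⟨b', σ, hσ, hW, hP⟩ := exists_adapted h (n := n) (by rw [Module.finrank_eq_card_basis b, Fintype.card_fin])
  let a₀ : Fin (Module.finrank K (perp Q P)) := ⟨0, by omega⟩
  refine ⟨b' (σ a₀), hW a₀, fun h0 => ?_⟩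
  have hu : IsUnit (QuadGrp.halfDisc b' (LinearEquiv.refl K K) Q) := isUnit_halfDisc_of_basis b hn b' hQ
  rw [QuadLib.halfDisc_eq_hd, QuadLib.hd_row hn _ (σ a₀) fun j hj => by
    rw [QuadGrp.coeffs_mk, if_neg hj.symm, LinearEquiv.refl_apply, QuadraticMap.polar_comm]
    exact hW a₀ _ (hP j fun a ha => hj (by
      rw [← ha]; exact congrArg σ (Fin.ext (by have := a.2; simp [a₀]; omega))))] at hu
  rw [QuadGrp.coeffs_mk, if_pos rfl, LinearEquiv.refl_apply, h0, zero_mul] at hu
  exact not_isUnit_zero hu

include b in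
/-- Split bases over an algebraically closed field. -/
theorem exists_split_vectors (hn : n = 2 * m + 1) (hQ : QuadGrp.IsSemiregular b (LinearEquiv.refl K K) Q) :
    ∃ (v : Fin m → Fin 2 → M) (w : M), Q w = 1 ∧ (∀ i k, Q (v i k) = 0) ∧
      (∀ i, QuadraticMap.polar Q (v i 0) (v i 1) = 1) ∧
      (∀ i k j l, i ≠ j → QuadraticMap.polar Q (v i k) (v j l) = 0) ∧
      ∀ i k, QuadraticMap.polar Q (v i k) w = 0 := by
  have hM : Module.finrank K M = n := by rw [Module.finrank_eq_card_basis b, Fintype.card_fin]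
  have hodd : Odd n := ⟨m, hn⟩
  have hex : ∀ k : ℕ, k ≤ m → ∃ (P : Submodule K M) (z : CliffordAlgebra Q) (v : Fin k → Fin 2 → M), Arf Q P z ∧
      Module.finrank K (perp Q P) + 2 * k = n ∧ (∀ i a, v i a ∈ P) ∧ (∀ i a, Q (v i a) = 0) ∧
      (∀ i, QuadraticMap.polar Q (v i 0) (v i 1) = 1) ∧
      (∀ i a j c, i ≠ j → QuadraticMap.polar Q (v i a) (v j c) = 0) := by
    intro k
    induction k with
    | zero =>
      refine fun _ => ⟨⊥, 0, fun i => i.elim0, arf_bot Q, ?_, fun i => i.elim0, fun i => i.elim0, fun i => i.elim0,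
        fun i => i.elim0⟩
      have : perp Q (⊥ : Submodule K M) = ⊤ := eq_top_iff.2 fun w _ p hp => by
        rw [(Submodule.mem_bot K).1 hp, ← pol_apply, pol_zero, LinearMap.zero_apply]
      rw [this, finrank_top, mul_zero, add_zero, hM]
    | succ k ih =>
      intro hk
      obtain ⟨P, z, v, h, hr, hvP, hv0, hv1, hvo⟩ := ih (by omega)
      obtain ⟨e, he, f, hf, hef, hu⟩ := exists_pair_of_semiregular b hodd hQ h (by omega)
      obtain ⟨h', ⟨φ⟩⟩ := arf_step h he hf hef hu
      obtain ⟨e', f', hse, hsf, he0, hf0, hef'⟩ := exists_hyperbolic hef hu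
      have hsub : Submodule.span K ({e, f} : Set M) ≤ perp Q P := Submodule.span_le.2 (by
        rintro x (rfl | rfl)
        exacts [he, hf])
      have hnew : ∀ a : Fin 2, (![e', f'] a) ∈ Submodule.span K ({e, f} : Set M) := fun a => by
        fin_cases a
        exacts [hse, hsf]
      refine ⟨_, _, Fin.snoc v ![e', f'], h', ?_, ?_, ?_, ?_, ?_⟩
      · rw [← φ.finrank_eq, Module.finrank_prod, Module.finrank_prod, Module.finrank_self] at hr
        omega
      · intro i a
        induction i using Fin.lastCases with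
        | last => rw [Fin.snoc_last]; exact Submodule.mem_sup_right (hnew a)
        | cast i => rw [Fin.snoc_castSucc]; exact Submodule.mem_sup_left (hvP i a)
      · intro i a
        induction i using Fin.lastCases with
        | last => rw [Fin.snoc_last]; fin_cases a <;> assumption
        | cast i => rw [Fin.snoc_castSucc]; exact hv0 i a
      · intro i
        induction i using Fin.lastCases with
        | last => rw [Fin.snoc_last]; exact hef'
        | cast i => rw [Fin.snoc_castSucc]; exact hv1 i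
      · intro i a j c hij
        induction i using Fin.lastCases with
        | last =>
          induction j using Fin.lastCases with
          | last => exact absurd rfl hij
          | cast j =>
            rw [Fin.snoc_last, Fin.snoc_castSucc, QuadraticMap.polar_comm]
            exact hsub (hnew a) _ (hvP j c)
        | cast i =>
          induction j using Fin.lastCases with
          | last => rw [Fin.snoc_last, Fin.snoc_castSucc]; exact hsub (hnew c) _ (hvP i a)
          | cast j =>
            rw [Fin.snoc_castSucc, Fin.snoc_castSucc]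
            exact hvo i a j c fun e => hij (by rw [e])
  obtain ⟨P, z, v, h, hr, hvP, hv0, hv1, hvo⟩ := hex m le_rfl
  obtain ⟨w, hw, hw0⟩ := isUnit_of_line b hodd hQ h (by omega)
  obtain ⟨s, hs⟩ := IsAlgClosed.exists_pow_nat_eq (Q w)⁻¹ (show 0 < 2 by omega)
  refine ⟨v, s • w, ?_, hv0, hv1, hvo, fun i k => ?_⟩
  · rw [QuadraticMap.map_smul, smul_eq_mul, ← sq, hs, inv_mul_cancel₀ hw0]
  · rw [QuadraticMap.polar_smul_right, hw _ (hvP i k), smul_zero]

end field

section split

/-- Partner index for the split form of odd rank. -/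
def oddPartner (m : ℕ) (a : Fin (2 * m + 1)) : Fin (2 * m + 1) :=
  ⟨if a.1 = 0 then 0 else if a.1 % 2 = 1 then a.1 + 1 else a.1 - 1, by split_ifs <;> omega⟩

theorem oddPartner_oddPartner (m : ℕ) (a : Fin (2 * m + 1)) : oddPartner m (oddPartner m a) = a := by
  obtain ⟨a, ha⟩ := a
  apply Fin.ext
  simp only [oddPartner]
  rcases Nat.eq_zero_or_pos a with rfl | h0
  · simp
  rcases Nat.mod_two_eq_zero_or_one a with h | h
  · rw [if_neg (show ¬ a = 0 by omega), if_neg (show ¬ a % 2 = 1 by omega), if_neg (show ¬ a - 1 = 0 by omega),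
      if_pos (show (a - 1) % 2 = 1 by omega)]
    omega
  · rw [if_neg (show ¬ a = 0 by omega), if_pos h, if_neg (show ¬ a + 1 = 0 by omega),
      if_neg (show ¬ (a + 1) % 2 = 1 by omega)]
    omega

theorem splitForm_odd_apply (R : Type u) [CommRing R] (m : ℕ) (x : Fin (2 * m + 1) → R) :
    QuadGrp.splitForm R (2 * m + 1) x = x 0 * x 0 +
      ∑ i : Fin m, x ⟨2 * i.1 + 1, by omega⟩ * x ⟨2 * i.1 + 2, by omega⟩ := by
  have h : (2 * m + 1) % 2 = 1 := by omega
  rw [QuadGrp.splitForm, dif_pos h, QuadraticMap.add_apply, QuadraticMap.sum_apply, add_comm]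
  refine congrArg₂ (· + ·) ?_ (Fintype.sum_equiv (finCongr (by omega)) _ _ fun i => ?_)
  · simp only [QuadraticMap.comp_apply, QuadraticMap.sq_apply, LinearMap.proj_apply]
    rfl
  · rw [QuadraticMap.linMulLin_apply, LinearMap.proj_apply, LinearMap.proj_apply]
    exact congrArg₂ (· * ·) (congrArg x (Fin.ext (by simp [h]))) (congrArg x (Fin.ext (by simp [h])))

theorem coeffs_split (R : Type u) [CommRing R] (m : ℕ) (i j : Fin (2 * m + 1)) :
    QuadGrp.coeffs (Pi.basisFun R (Fin (2 * m + 1))) (LinearEquiv.refl R R) (QuadGrp.splitForm R (2 * m + 1)) s(i, j) =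
      if i = j then (if i = 0 then 1 else 0) else (if oddPartner m i = j then 1 else 0) := by
  rw [QuadGrp.coeffs_mk]
  simp only [LinearEquiv.refl_apply, Pi.basisFun_apply]
  have hdiag : ∀ i : Fin (2 * m + 1),
      QuadGrp.splitForm R (2 * m + 1) (Pi.single i 1) = if i = 0 then 1 else 0 := fun i => by
    rw [splitForm_odd_apply, Finset.sum_eq_zero fun l _ => ?_, add_zero]
    · simp only [Pi.single_apply, eq_comm (a := (0 : Fin (2 * m + 1)))]
      split_ifs <;> simp
    · simp only [Pi.single_apply, Fin.ext_iff]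
      split_ifs <;> first | (exfalso; omega) | ring
  rcases eq_or_ne i j with rfl | hij
  · rw [if_pos rfl, if_pos rfl, hdiag]
  rw [if_neg hij, if_neg hij, QuadraticMap.polar, hdiag, hdiag, splitForm_odd_apply]
  have h0 : ((Pi.single i (1 : R) : Fin (2 * m + 1) → R) 0 + (Pi.single j (1 : R) : Fin (2 * m + 1) → R) 0) *
      ((Pi.single i (1 : R) : Fin (2 * m + 1) → R) 0 + (Pi.single j (1 : R) : Fin (2 * m + 1) → R) 0) =
      (if i = 0 then 1 else 0) + (if j = 0 then 1 else 0) := by
    simp only [Pi.single_apply, eq_comm (a := (0 : Fin (2 * m + 1)))]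
    split_ifs with a c <;> first | (exfalso; exact hij (a.trans c.symm)) | ring
  simp only [Pi.add_apply]
  rw [h0]
  by_cases hp : oddPartner m i = j
  · rw [if_pos hp]
    have hi0 : i.1 ≠ 0 := fun h => hij (by rw [← hp]; ext; simp [oddPartner, h])
    rw [Finset.sum_eq_single (⟨(i.1 - 1) / 2, by omega⟩ : Fin m)]
    · subst hp
      simp only [Pi.single_apply, Fin.ext_iff, oddPartner, Fin.val_zero]
      split_ifs <;> first | (exfalso; omega) | ring
    · intro l _ hl
      have hl' : l.1 ≠ (i.1 - 1) / 2 := fun h => hl (Fin.ext h)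
      subst hp
      simp only [Pi.single_apply, Fin.ext_iff, oddPartner]
      split_ifs <;> first | (exfalso; omega) | ring
    · exact fun h => absurd (Finset.mem_univ _) h
  · rw [if_neg hp, Finset.sum_eq_zero fun l _ => ?_]
    · ring
    · simp only [Fin.ext_iff, oddPartner] at hp hij
      simp only [Pi.single_apply, Fin.ext_iff]
      split_ifs at hp ⊢ <;> first | (exfalso; omega) | ring

theorem semiregular_split (R : Type u) [CommRing R] (m : ℕ) :
    QuadGrp.IsSemiregular (Pi.basisFun R (Fin (2 * m + 1))) (LinearEquiv.refl R R) (QuadGrp.splitForm R (2 * m + 1)) := by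
  show IsUnit (QuadGrp.halfDisc _ _ _)
  set c := QuadGrp.coeffs (Pi.basisFun R (Fin (2 * m + 1))) (LinearEquiv.refl R R) (QuadGrp.splitForm R (2 * m + 1))
  rw [QuadLib.halfDisc_eq_hd, QuadLib.hd_row ⟨m, rfl⟩ _ 0 fun j hj => by
    rw [coeffs_split, if_neg hj.symm, if_neg fun h => hj (by rw [← h]; rfl)]]
  rw [coeffs_split, if_pos rfl, if_pos rfl, one_mul]
  have hupd : (pm c).updateRow 0 (Pi.single 0 1) = Matrix.of fun a d => if oddPartner m a = d then (1 : R) else 0 := by
    ext a d
    rcases eq_or_ne a 0 with rfl | ha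
    · rw [Matrix.updateRow_self, Matrix.of_apply, Pi.single_apply]
      simp [oddPartner, eq_comm]
    · rw [Matrix.updateRow_ne ha, pm, Matrix.of_apply, Matrix.of_apply, show c s(a, d) = _ from coeffs_split R m a d]
      rcases eq_or_ne a d with rfl | had
      · rw [if_pos rfl, if_pos rfl, if_neg ha, mul_zero, if_neg]
        intro h
        have h' : a.1 ≠ 0 := fun e => ha (Fin.ext e)
        simp only [Fin.ext_iff, oddPartner] at h
        split_ifs at h <;> omega
      · rw [if_neg had, if_neg had]
  rw [hupd]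
  refine Matrix.isUnit_det_of_left_inverse (B := Matrix.of fun a d => if oddPartner m a = d then (1 : R) else 0) ?_
  ext a d
  simp only [Matrix.mul_apply, Matrix.of_apply, ite_mul, one_mul, zero_mul, Finset.sum_ite_eq, Finset.mem_univ, if_true,
    oddPartner_oddPartner, Matrix.one_apply]

theorem map_coeffs_split {R : Type u} [CommRing R] {A : Type v} [CommRing A] (f : R →+* A) (m : ℕ)
    (s : Sym2 (Fin (2 * m + 1))) :
    f (QuadGrp.coeffs (Pi.basisFun R (Fin (2 * m + 1))) (LinearEquiv.refl R R) (QuadGrp.splitForm R (2 * m + 1)) s) =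
      QuadGrp.coeffs (Pi.basisFun A (Fin (2 * m + 1))) (LinearEquiv.refl A A) (QuadGrp.splitForm A (2 * m + 1)) s := by
  induction s using Sym2.ind with
  | _ i j => rw [coeffs_split, coeffs_split]; split_ifs <;> simp

end split

section isom

variable {m : ℕ} {R : Type u} [CommRing R] (B S : Matrix (Fin (2 * m + 1)) (Fin (2 * m + 1)) R) (θ : R)

/-- Equations of the isometries from `S` to `B` with determinant `θ`. -/
def isomEqs : MatEqs R (2 * m + 1) (Option (Sym2 (Fin (2 * m + 1)))) where
  E A _ _ G o := o.elim (G.det - algebraMap R A θ)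
    fun s => cf (G.transpose * B.map (algebraMap R A) * G) s - cf (S.map (algebraMap R A)) s
  map A A' _ _ _ _ φ G o := by
    cases o with
    | none => simp [AlgHom.map_det]
    | some s =>
      show φ (cf _ s - cf _ s) = cf _ s - cf _ s
      rw [map_sub]
      have e1 := congrFun (QuadLib.map_cf φ.toRingHom (G.transpose * B.map (algebraMap R A) * G)) s
      have e2 := congrFun (QuadLib.map_cf φ.toRingHom (S.map (algebraMap R A))) s
      simp only [Function.comp_apply, RingHom.coe_coe, AlgHom.toRingHom_eq_coe] at e1 e2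
      rw [e1, e2, Matrix.map_mul, Matrix.map_mul, Matrix.transpose_map, Matrix.map_map, Matrix.map_map]
      simp [Function.comp_def]

variable {B S θ}

theorem isomEqs_smooth (hS : IsUnit (hd (cf S))) (hθ : θ * θ * hd (cf B) = hd (cf S)) :
    Algebra.Smooth R (isomEqs B S θ).Coord := by
  refine MatEqs.smooth_of_lift _ fun A _ _ I hI G₀ => ?_
  classical
  have hθu : IsUnit θ := by
    rw [← hθ, mul_assoc] at hS
    exact (IsUnit.mul_iff.1 hS).1
  choose g hg using fun i j => Ideal.Quotient.mk_surjective (G₀.1 i j)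
  let G : Matrix (Fin (2 * m + 1)) (Fin (2 * m + 1)) A := Matrix.of g
  have hG : G.map (Ideal.Quotient.mk I) = G₀.1 := by ext i j; exact hg i j
  set BA := B.map (algebraMap R A)
  set SA := S.map (algebraMap R A)
  set t := algebraMap R A θ
  have hsol : ∀ o, (isomEqs B S θ).E A G o ∈ I := fun o => by
    rw [← Ideal.Quotient.eq_zero_iff_mem]
    have := (isomEqs B S θ).map A (A ⧸ I) (Ideal.Quotient.mkₐ R I) G o
    rw [show G.map (Ideal.Quotient.mkₐ R I) = G₀.1 from hG, G₀.2.2 o] at this
    exact this
  have hdet : G.det - t ∈ I := hsol none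
  set K := G.transpose * BA * G
  have hK : ∀ s, cf K s - cf SA s ∈ I := fun s => hsol (some s)
  have hSA : IsUnit (hd (cf SA)) := by
    rw [← QuadLib.map_cf, ← QuadLib.map_hd]; exact hS.map _
  obtain ⟨τ, hτ⟩ := (hθu.map (algebraMap R A)).exists_left_inv
  choose ηk ck hk using fun o : Option (Sym2 (Fin (2 * m + 1))) => global_surj m rfl SA hSA (Pi.single o 1)
  let w : Option (Sym2 (Fin (2 * m + 1))) → A :=
    fun o => o.elim (τ * (t - G.det)) fun s => cf SA s - cf K s
  have hw : ∀ o, w o ∈ I := fun o => by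
    cases o with
    | none => exact I.mul_mem_left _ (by rw [← neg_sub]; exact I.neg_mem hdet)
    | some s => exact (by rw [← neg_sub]; exact I.neg_mem (hK s) : cf SA s - cf K s ∈ I)
  let η : Matrix (Fin (2 * m + 1)) (Fin (2 * m + 1)) A := ∑ o, w o • ηk o
  let c : A := ∑ o, w o * ck o
  have hη : ∀ i j, η i j ∈ I := fun i j => by
    simp only [η, Matrix.sum_apply, Matrix.smul_apply, smul_eq_mul]
    exact I.sum_mem fun o _ => I.mul_mem_right _ (hw o)
  have hc : c ∈ I := I.sum_mem fun o _ => I.mul_mem_right _ (hw o)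
  have hlin : lin SA η + c • extra m SA = w := by
    calc lin SA η + c • extra m SA = ∑ o, w o • (lin SA (ηk o) + ck o • extra m SA) := by
          simp only [η, c, map_sum, map_smul, smul_add, smul_smul, Finset.sum_add_distrib, Finset.sum_smul]
      _ = w := by
          simp only [hk]
          funext o
          simp [Pi.single_apply]
  have hη1 : (K + K.transpose) * η = (SA + SA.transpose) * η := by
    rw [← sub_eq_zero, ← Matrix.sub_mul, ← pm_cf, ← pm_cf]
    ext i j
    rw [Matrix.mul_apply, Matrix.zero_apply]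
    refine Finset.sum_eq_zero fun k _ => QuadLib.mul_eq_zero_of_sq hI ?_ (hη k j)
    simp only [pm, Matrix.sub_apply, Matrix.of_apply]
    split_ifs
    · rw [← mul_sub]; exact I.mul_mem_left _ (hK _)
    · exact hK _
  have hcf : cf ((G * (1 + η)).transpose * BA * (G * (1 + η))) = (1 - c) • cf SA := by
    have h := cf_correct hI K 1 η hη (fun s => by simp)
    simp only [Matrix.transpose_one, Matrix.one_mul, Matrix.mul_one, hη1] at h
    rw [show (G * (1 + η)).transpose * BA * (G * (1 + η)) = (1 + η).transpose * K * (1 + η) by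
      rw [Matrix.transpose_mul]; simp only [K, Matrix.mul_assoc], h]
    funext s
    have := congrFun hlin (some s)
    simp only [lin, LinearMap.coe_mk, AddHom.coe_mk, Option.elim_some, extra, w, Pi.add_apply, Pi.smul_apply,
      smul_eq_mul] at this
    rw [Pi.add_apply, Pi.smul_apply, smul_eq_mul]
    linear_combination this
  have hdet' : (G * (1 + η)).det = t * (1 - c * (m : A)) := by
    have := congrFun hlin none
    simp only [lin, LinearMap.coe_mk, AddHom.coe_mk, Option.elim_none, extra, w, Pi.add_apply, Pi.smul_apply,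
      smul_eq_mul] at this
    rw [Matrix.det_mul, QuadLib.det_one_add_of_sq hI η hη]
    have htr : η.trace ∈ I := I.sum_mem fun i _ => hη i i
    linear_combination t * this + (t - G.det) * hτ + QuadLib.mul_eq_zero_of_sq hI hdet htr
  have hodd : Odd (2 * m + 1) := ⟨m, rfl⟩
  have hc0 : c = 0 := by
    have h1 := hd_cf_congr hodd (G * (1 + η)) BA
    rw [hcf, hd_smul hodd, hdet'] at h1
    have hθA : t * t * hd (cf BA) = hd (cf SA) := by
      rw [← QuadLib.map_cf, ← QuadLib.map_hd, ← QuadLib.map_cf, ← QuadLib.map_hd, ← map_mul, ← map_mul, hθ]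
    have hcc := QuadLib.mul_eq_zero_of_sq hI hc hc
    rw [show (1 - c) ^ (2 * m + 1) = 1 + (2 * m + 1 : ℕ) * (-c) by
      rw [sub_eq_add_neg]; exact QuadLib.mul_pow_one_add (by rw [neg_mul_neg, hcc]) _] at h1
    push_cast at h1
    have h2 : c * hd (cf SA) = 0 := by
      linear_combination -h1 - (1 - c * (m : A)) ^ 2 * hθA - ((m : A) ^ 2 * hd (cf SA)) * hcc
    exact (hSA.mul_left_eq_zero).1 h2
  rw [hc0, sub_zero, one_smul] at hcf
  rw [hc0, zero_mul, sub_zero, mul_one] at hdet'
  refine ⟨⟨G * (1 + η), hdet'.symm ▸ hθu.map _, fun o => ?_⟩, ?_⟩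
  · cases o with
    | none => show (G * (1 + η)).det - t = 0; rw [hdet', sub_self]
    | some s => show cf _ s - cf _ s = 0; rw [hcf, sub_self]
  · rw [← hG]
    ext i j
    have hη0 : η.map (Ideal.Quotient.mk I) = 0 := by
      ext a d; exact Ideal.Quotient.eq_zero_iff_mem.2 (hη a d)
    show (Matrix.map (G * (1 + η)) (Ideal.Quotient.mk I)) i j = _
    rw [Matrix.map_mul, Matrix.map_add _ (map_add _), hη0, add_zero, Matrix.map_one _ (map_zero _) (map_one _),
      Matrix.mul_one]

end isom

section main

variable {m : ℕ} {R : Type u} [CommRing R]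

/-- A matrix moving a semiregular form to the split one over an algebraically closed field. -/
theorem exists_matrix_field (K : Type u) [Field K] [IsAlgClosed K] [Algebra R K]
    (Q : QuadraticForm R (Fin (2 * m + 1) → R))
    (hQ : QuadGrp.IsSemiregular (Pi.basisFun R (Fin (2 * m + 1))) (LinearEquiv.refl R R) Q) :
    ∃ G : Matrix (Fin (2 * m + 1)) (Fin (2 * m + 1)) K,
      cf (G.transpose * (liftMat (Pi.basisFun R (Fin (2 * m + 1))) Q).map (algebraMap R K) * G) =
        cf ((liftMat (Pi.basisFun R (Fin (2 * m + 1))) (QuadGrp.splitForm R (2 * m + 1))).map (algebraMap R K)) := by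
  set bb := Pi.basisFun R (Fin (2 * m + 1))
  obtain ⟨v, w, hw, hv0, hv1, hvo, hvw⟩ := exists_split_vectors (m := m) (bb.baseChange K) rfl
    (semiregular_bcf K bb hQ)
  let col : Fin (2 * m + 1) → K ⊗[R] (Fin (2 * m + 1) → R) := fun j =>
    if h : j.1 = 0 then w else v ⟨(j.1 - 1) / 2, by omega⟩ (if j.1 % 2 = 1 then 0 else 1)
  let L := (Pi.basisFun K (Fin (2 * m + 1))).constr K col
  let G := LinearMap.toMatrix (Pi.basisFun K (Fin (2 * m + 1))) (bb.baseChange K) L
  let Q' : QuadraticForm K (Fin (2 * m + 1) → K) := (QuadGrp.baseChangeForm K Q).comp L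
  have hcoef : QuadGrp.coeffs (Pi.basisFun K (Fin (2 * m + 1))) (LinearEquiv.refl K K) Q' =
      QuadGrp.coeffs (Pi.basisFun K (Fin (2 * m + 1))) (LinearEquiv.refl K K) (QuadGrp.splitForm K (2 * m + 1)) := by
    funext s
    induction s using Sym2.ind with
    | _ i j =>
      rw [coeffs_split, QuadGrp.coeffs_mk]
      have hL : ∀ i, L (Pi.basisFun K (Fin (2 * m + 1)) i) = col i := fun i => Module.Basis.constr_basis _ _ _ i
      have hp : QuadraticMap.polar Q' (Pi.basisFun K _ i) (Pi.basisFun K _ j) =
          QuadraticMap.polar (QuadGrp.baseChangeForm K Q) (col i) (col j) := by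
        simp only [Q', QuadraticMap.polar, QuadraticMap.comp_apply, map_add, hL]
      simp only [LinearEquiv.refl_apply, hp]
      simp only [Q', QuadraticMap.comp_apply, hL, col]
      rcases eq_or_ne i j with rfl | hij
      · rw [if_pos rfl, if_pos rfl]
        by_cases hi : i.1 = 0
        · rw [dif_pos hi, if_pos (Fin.ext hi), hw]
        · rw [dif_neg hi, if_neg (fun e : i = 0 => hi (by rw [e]; rfl)), hv0]
      · rw [if_neg hij, if_neg hij]
        by_cases hi : i.1 = 0
        · have hj : j.1 ≠ 0 := fun hj => hij (Fin.ext (hi.trans hj.symm))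
          rw [dif_pos hi, dif_neg hj, QuadraticMap.polar_comm, hvw, if_neg]
          intro h
          simp [Fin.ext_iff, oddPartner, hi] at h
          omega
        · by_cases hj : j.1 = 0
          · rw [dif_neg hi, dif_pos hj, hvw, if_neg]
            intro h
            simp only [Fin.ext_iff, oddPartner] at h
            split_ifs at h <;> omega
          · rw [dif_neg hi, dif_neg hj]
            by_cases hp : oddPartner m i = j
            · rw [if_pos hp]
              simp only [Fin.ext_iff, oddPartner] at hp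
              rcases Nat.mod_two_eq_zero_or_one i.1 with hi2 | hi2
              · rw [if_neg (show ¬ i.1 % 2 = 1 by omega), if_pos (show j.1 % 2 = 1 by split_ifs at hp <;> omega),
                  show (⟨(j.1 - 1) / 2, by omega⟩ : Fin m) = ⟨(i.1 - 1) / 2, by omega⟩ from Fin.ext (by
                    simp only; split_ifs at hp <;> omega), QuadraticMap.polar_comm, hv1]
              · rw [if_pos hi2, if_neg (show ¬ j.1 % 2 = 1 by split_ifs at hp <;> omega),
                  show (⟨(j.1 - 1) / 2, by omega⟩ : Fin m) = ⟨(i.1 - 1) / 2, by omega⟩ from Fin.ext (by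
                    simp only; split_ifs at hp <;> omega), hv1]
            · rw [if_neg hp]
              refine hvo _ _ _ _ fun h => ?_
              simp only [Fin.ext_iff, oddPartner] at hp hij h
              split_ifs at hp <;> omega
  refine ⟨G, ?_⟩
  rw [← QuadLib.map_cf, ← QuadLib.coeffs_eq_cf bb (QuadGrp.splitForm R (2 * m + 1)),
    show algebraMap R K ∘ QuadGrp.coeffs bb (LinearEquiv.refl R R) (QuadGrp.splitForm R (2 * m + 1)) =
      QuadGrp.coeffs (Pi.basisFun K (Fin (2 * m + 1))) (LinearEquiv.refl K K) (QuadGrp.splitForm K (2 * m + 1)) from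
      funext (map_coeffs_split (algebraMap R K) m),
    ← hcoef, QuadLib.coeffs_eq_cf, ← sub_eq_zero, ← QuadLib.cf_sub]
  refine (QuadLib.qv_eq_zero_iff _).1 fun x => ?_
  rw [Matrix.sub_mulVec, dotProduct_sub, QuadLib.qv_liftMat, ← QuadLib.qv_transpose_mul_mul, sub_eq_zero,
    show Q' x = QuadGrp.baseChangeForm K Q (L x) from rfl, QuadLib.baseChangeForm_eq bb Q K (L x)]
  have hGx : G *ᵥ x = ⇑((bb.baseChange K).repr (L x)) := by
    have := LinearMap.toMatrix_mulVec_repr (Pi.basisFun K (Fin (2 * m + 1))) (bb.baseChange K) L x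
    rwa [show ⇑((Pi.basisFun K (Fin (2 * m + 1))).repr x) = x from funext fun i => by simp] at this
  rw [hGx]

theorem exists_split_odd (Q : QuadraticForm R (Fin (2 * m + 1) → R))
    (hQ : QuadGrp.IsSemiregular (Pi.basisFun R (Fin (2 * m + 1))) (LinearEquiv.refl R R) Q) :
    ∃ (A : Type u) (_ : CommRing A) (_ : Algebra R A), Module.FaithfullyFlat R A ∧ Algebra.FinitePresentation R A ∧
      Nonempty ((QuadGrp.baseChangeForm A Q).IsometryEquiv
        (QuadGrp.baseChangeForm A (QuadGrp.splitForm R (2 * m + 1)))) := by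
  rcases subsingleton_or_nontrivial R with hR | hR
  · refine ⟨R, inferInstance, inferInstance, inferInstance, inferInstance, ⟨⟨LinearEquiv.refl R _, fun x => ?_⟩⟩⟩
    exact Subsingleton.elim _ _
  set bb := Pi.basisFun R (Fin (2 * m + 1))
  set B := liftMat bb Q with hBdef
  set S := liftMat bb (QuadGrp.splitForm R (2 * m + 1)) with hSdef
  have hB : IsUnit (hd (cf B)) := QuadLib.isUnit_hd_liftMat bb Q hQ
  have hS : IsUnit (hd (cf S)) := QuadLib.isUnit_hd_liftMat bb _ (semiregular_split R m)
  obtain ⟨u, hu⟩ := hB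
  let ρ : R := hd (cf S) * ↑u⁻¹
  open Polynomial in
  let p : R[X] := X ^ 2 - C ρ
  have hp : p.Monic := Polynomial.monic_X_pow_sub_C ρ (by omega)
  let R₁ := AdjoinRoot p
  haveI : Module.Free R R₁ := Module.Free.of_basis (AdjoinRoot.powerBasis' hp).basis
  haveI : Module.Finite R R₁ := Module.Finite.of_basis (AdjoinRoot.powerBasis' hp).basis
  haveI : Nontrivial R₁ := by
    haveI : Nonempty (Fin (AdjoinRoot.powerBasis' hp).dim) :=
      ⟨⟨0, by rw [AdjoinRoot.powerBasis'_dim, Polynomial.natDegree_X_pow_sub_C]; omega⟩⟩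
    exact (AdjoinRoot.powerBasis' hp).basis.repr.toEquiv.nontrivial
  let θ : R₁ := AdjoinRoot.root p
  have hθ2 : θ * θ = algebraMap R R₁ ρ := by
    have h := AdjoinRoot.eval₂_root p
    simp only [p, Polynomial.eval₂_sub, Polynomial.eval₂_X_pow, Polynomial.eval₂_C, sub_eq_zero] at h
    exact (sq θ).symm.trans h
  let B₁ := B.map (algebraMap R R₁)
  let S₁ := S.map (algebraMap R R₁)
  have hS₁ : IsUnit (hd (cf S₁)) := by rw [← QuadLib.map_cf, ← QuadLib.map_hd]; exact hS.map _
  have hθ : θ * θ * hd (cf B₁) = hd (cf S₁) := by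
    rw [hθ2, ← QuadLib.map_cf, ← QuadLib.map_hd, ← QuadLib.map_cf, ← QuadLib.map_hd, ← map_mul, ← hu, mul_assoc,
      Units.inv_mul, mul_one]
  let Eq₁ := isomEqs B₁ S₁ θ
  let C := Eq₁.Coord
  haveI hsm : Algebra.Smooth R₁ C := isomEqs_smooth hS₁ hθ
  haveI : Module.Flat R₁ C := Algebra.Smooth.flat R₁ C
  haveI : Module.FaithfullyFlat R₁ C := Module.FaithfullyFlat.of_comap_surjective fun P => by
    let K := AlgebraicClosure P.asIdeal.ResidueField
    obtain ⟨G, hG⟩ := exists_matrix_field K Q hQ
    have hG' : cf (G.transpose * B₁.map (algebraMap R₁ K) * G) = cf (S₁.map (algebraMap R₁ K)) := by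
      rw [Matrix.map_map, Matrix.map_map, ← RingHom.coe_comp]
      exact hG
    have hd2 : G.det * G.det = algebraMap R₁ K θ * algebraMap R₁ K θ := by
      have h := hd_cf_congr ⟨m, rfl⟩ G (B₁.map (algebraMap R₁ K))
      have e1 : ∀ N : Matrix (Fin (2 * m + 1)) (Fin (2 * m + 1)) R₁,
          hd (cf (N.map (algebraMap R₁ K))) = algebraMap R₁ K (hd (cf N)) := fun N => by
        rw [← QuadLib.map_cf, ← QuadLib.map_hd]
      rw [hG', e1, e1, ← hθ, map_mul, map_mul, sq] at h
      have hne : algebraMap R₁ K (hd (cf B₁)) ≠ 0 := fun h0 => (hS₁.map (algebraMap R₁ K)).ne_zero (by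
        rw [← hθ, map_mul, h0, mul_zero])
      exact mul_right_cancel₀ hne h.symm
    have hθ0 : algebraMap R₁ K θ ≠ 0 := fun h0 => (hS₁.map (algebraMap R₁ K)).ne_zero (by
      rw [← hθ, map_mul, map_mul, h0, zero_mul, zero_mul])
    obtain ⟨G', hG1, hG2⟩ : ∃ G' : Matrix (Fin (2 * m + 1)) (Fin (2 * m + 1)) K,
        cf (G'.transpose * B₁.map (algebraMap R₁ K) * G') = cf (S₁.map (algebraMap R₁ K)) ∧
        G'.det = algebraMap R₁ K θ := by
      rcases mul_self_eq_mul_self_iff.1 hd2 with h | h
      · exact ⟨G, hG', h⟩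
      · refine ⟨-G, by rw [Matrix.transpose_neg, Matrix.neg_mul, Matrix.neg_mul, Matrix.mul_neg, neg_neg]; exact hG', ?_⟩
        rw [Matrix.det_neg, Fintype.card_fin, h, (Odd.neg_one_pow ⟨m, rfl⟩ : (-1 : K) ^ (2 * m + 1) = -1), neg_one_mul,
          neg_neg]
    let ψ : C →ₐ[R₁] K := (Eq₁.equiv K).symm ⟨G', hG2.symm ▸ hθ0.isUnit, fun o => by
      cases o with
      | none => show G'.det - _ = 0; rw [hG2, sub_self]
      | some s => show cf _ s - cf _ s = 0; rw [hG1, sub_self]⟩
    refine ⟨⟨RingHom.ker ψ.toRingHom, RingHom.ker_isPrime _⟩, PrimeSpectrum.ext ?_⟩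
    ext r
    show ψ (algebraMap R₁ C r) = 0 ↔ _
    rw [AlgHom.commutes, IsScalarTower.algebraMap_apply R₁ P.asIdeal.ResidueField K,
      map_eq_zero, Ideal.algebraMap_residueField_eq_zero]
  haveI : Algebra.FinitePresentation R R₁ := by
    have := Algebra.FinitePresentation.quotient (R := R) (A := Polynomial R) (I := Ideal.span {p})
      ⟨{p}, by simp⟩
    exact this
  haveI : Algebra.FinitePresentation R₁ C := Eq₁.finitePresentation
  refine ⟨C, inferInstance, inferInstance, Module.FaithfullyFlat.trans R R₁ C,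
    Algebra.FinitePresentation.trans R R₁ C, ⟨?_⟩⟩
  let U := Eq₁.equiv C (AlgHom.id R₁ C)
  let e := Matrix.toLinearEquiv (bb.baseChange C) U.1 U.2.1
  have hmap : ∀ N : Matrix (Fin (2 * m + 1)) (Fin (2 * m + 1)) R,
      (N.map (algebraMap R R₁)).map (algebraMap R₁ C) = N.map (algebraMap R C) := fun N => by
    rw [Matrix.map_map]; rfl
  have he : ∀ x, QuadGrp.baseChangeForm C Q (e x) = QuadGrp.baseChangeForm C (QuadGrp.splitForm R (2 * m + 1)) x := by
    intro x
    have hrepr : ((bb.baseChange C).repr (e x) : Fin (2 * m + 1) → C) =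
        U.1 *ᵥ ((bb.baseChange C).repr x : Fin (2 * m + 1) → C) := by
      have := LinearMap.toMatrix_mulVec_repr (bb.baseChange C) (bb.baseChange C) e.toLinearMap x
      rw [show LinearMap.toMatrix (bb.baseChange C) (bb.baseChange C) e.toLinearMap = U.1 from
        LinearMap.toMatrix_toLin _ _ U.1] at this
      exact this.symm
    rw [QuadLib.baseChangeForm_eq bb, QuadLib.baseChangeForm_eq bb, hrepr, QuadLib.qv_transpose_mul_mul,
      ← hBdef, ← hSdef, ← sub_eq_zero, ← dotProduct_sub, ← Matrix.sub_mulVec]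
    refine (QuadLib.qv_eq_zero_iff _).2 ?_ _
    rw [QuadLib.cf_sub]
    funext s
    have := U.2.2 (some s)
    change cf _ s - cf _ s = 0 at this
    rw [hmap, hmap] at this
    exact this
  exact ({ toLinearEquiv := e, map_app' := he } : (QuadGrp.baseChangeForm C (QuadGrp.splitForm R (2 * m + 1))).IsometryEquiv
    (QuadGrp.baseChangeForm C Q)).symm

end main

end Groth.Agent.CliffStr
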