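import Groth.Agent.CliffStr.Struct
import Groth.Agent.CliffStr.Inner
import Groth.Agent.CliffStr.Split
import Groth.Agent.CliffStr.OddGlobal
import Mathlib.Data.Fintype.Powerset

/-!
# The spin representation of the split Clifford algebra of odd rank

`exists_evenPart_matrix`: the even Clifford algebra of a semiregular form is fppf locally a matrix algebra.
-/

set_option autoImplicit false
universe u v

open CliffordAlgebra TensorProduct

namespace Groth.Agent.CliffStr

section twisted

variable {A : Type u} [CommRing A] {V : Type v} [AddCommGroup V] [Module A V] {k : ℕ}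
  (b : Module.Basis (Fin k) A V) {S : Subalgebra A (Module.End A (CliffordAlgebra (0 : QuadraticForm A V)))}

local notation "Q₀" => (0 : QuadraticForm A V)

/-- The parity involution as an endomorphism. -/
noncomputable def par : Module.End A (CliffordAlgebra Q₀) := (involute (Q := Q₀)).toLinearMap

theorem par_par : (par : Module.End A (CliffordAlgebra Q₀)) * par = 1 :=
  LinearMap.ext fun x => involute_involute x

theorem involute_contract (d : Module.Dual A V) (x : CliffordAlgebra Q₀) :
    involute (CliffordAlgebra.contractLeft d x) = -CliffordAlgebra.contractLeft d (involute x) := by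
  induction x using CliffordAlgebra.left_induction with
  | algebraMap r => simp
  | add a c ha hc => simp only [map_add, ha, hc, neg_add]
  | ι_mul a v ha =>
    simp only [contractLeft_ι_mul, map_sub, map_smul, map_mul, involute_ι, ha, neg_mul, mul_neg, neg_neg, map_neg,
      neg_sub]

theorem par_comm_proj : ∀ (l : List (Fin k)) (y : CliffordAlgebra Q₀),
    involute (proj Q₀ b l y) = proj Q₀ b l (involute y)
  | [], y => rfl
  | i :: l, y => by
    simp only [proj, Module.End.mul_apply, LinearMap.mulLeft_apply]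
    rw [involute_contract, map_mul, involute_ι, neg_mul, map_neg, neg_neg, par_comm_proj l y]

variable (hL : ∀ v : V, (par : Module.End A (CliffordAlgebra (0 : QuadraticForm A V))) *
    LinearMap.mulLeft A (ι (0 : QuadraticForm A V) v) ∈ S)
  (hd : ∀ d : Module.Dual A V, (par : Module.End A (CliffordAlgebra (0 : QuadraticForm A V))) *
    CliffordAlgebra.contractLeft d ∈ S)

include hL hd in
theorem proj_mem_twisted : ∀ l : List (Fin k), proj Q₀ b l ∈ S
  | [] => S.one_mem
  | i :: l => by
    have e : CliffordAlgebra.contractLeft (b.coord i) * LinearMap.mulLeft A (ι Q₀ (b i)) =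
        (par * CliffordAlgebra.contractLeft (b.coord i)) * (par * LinearMap.mulLeft A (ι Q₀ (b i))) * (-1 : A) • 1 := by
      refine LinearMap.ext fun y => ?_
      simp only [Module.End.mul_apply, LinearMap.smul_apply, Module.End.one_apply, map_smul, LinearMap.mulLeft_apply,
        par, AlgHom.toLinearMap_apply, involute_contract, involute_involute]
      simp
    rw [proj, e]
    have h1 := S.mul_mem (hd (b.coord i)) (hL (b i))
    have h2 : (-1 : A) • (1 : Module.End A (CliffordAlgebra Q₀)) ∈ S := S.smul_mem S.one_mem (-1)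
    exact S.mul_mem (S.mul_mem h1 h2) (proj_mem_twisted l)

include b hL hd in
/-- Twisted left multiplications and contractions generate all endomorphisms. -/
theorem eq_top_twisted : S = ⊤ := by
  refine eq_top_iff.2 fun g _ => ?_
  have key : ∀ l : List (Fin k), l.Nodup →
      (∀ g A' B' : Module.End A (CliffordAlgebra Q₀), A' ∈ S → B' ∈ S → g * A' * proj Q₀ b l * B' ∈ S) → g ∈ S := by
    intro l
    induction l with
    | nil => exact fun _ H => by simpa [proj] using H g 1 1 S.one_mem S.one_mem
    | cons i l ih =>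
      intro hl H
      rw [List.nodup_cons] at hl
      refine ih hl.2 fun g A' B' hA hB => ?_
      have e : proj Q₀ b l = proj Q₀ b (i :: l) +
          (par * LinearMap.mulLeft A (ι Q₀ (b i))) * proj Q₀ b (i :: l) *
            ((par * CliffordAlgebra.contractLeft (b.coord i)) * (-1 : A) • 1) :=
        LinearMap.ext fun y => by
          simp only [LinearMap.add_apply, Module.End.mul_apply, LinearMap.smul_apply, Module.End.one_apply, map_smul,
            LinearMap.mulLeft_apply, par, AlgHom.toLinearMap_apply]
          rw [← par_comm_proj b, map_mul involute, involute_involute, involute_ι, neg_mul, neg_one_smul, neg_neg]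
          exact proj_decomp b i l hl.1 y
      rw [e, mul_add, add_mul]
      refine S.add_mem (H g A' B' hA hB) ?_
      have h1 := S.mul_mem hA (hL (b i))
      have h2 : (-1 : A) • (1 : Module.End A (CliffordAlgebra Q₀)) ∈ S := S.smul_mem S.one_mem (-1)
      have h3 := S.mul_mem (S.mul_mem (hd (b.coord i)) h2) hB
      have := H g _ _ h1 h3
      simpa only [mul_assoc] using this
  refine key (List.finRange k) (List.nodup_finRange k) fun g A' B' hA hB => S.mul_mem ?_ hB
  set P := proj Q₀ b (List.finRange k)
  have hP : P ∈ S := proj_mem_twisted b hL hd _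
  have hr : ∀ y, ∃ r : A, P y = algebraMap A _ r := fun y => contract_zero_mem_range b fun i =>
    contract_proj_eq_zero b i _ (List.nodup_finRange k) (List.mem_finRange i) y
  have hT : ∀ a : CliffordAlgebra Q₀, LinearMap.mulLeft A a * P ∈ S ∧ LinearMap.mulLeft A (involute a) * P ∈ S := by
    intro a
    induction a using CliffordAlgebra.left_induction with
    | algebraMap r =>
      have e : LinearMap.mulLeft A (algebraMap A (CliffordAlgebra Q₀) r) * P = r • P := LinearMap.ext fun y => by
        simp [Algebra.smul_def]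
      rw [AlgHom.commutes, e]
      exact ⟨S.smul_mem hP r, S.smul_mem hP r⟩
    | add a c ha hc =>
      have e : ∀ p q : CliffordAlgebra Q₀,
          LinearMap.mulLeft A (p + q) * P = LinearMap.mulLeft A p * P + LinearMap.mulLeft A q * P := fun p q =>
        LinearMap.ext fun y => by simp [add_mul]
      rw [map_add, e, e]
      exact ⟨S.add_mem ha.1 hc.1, S.add_mem ha.2 hc.2⟩
    | ι_mul a v ha =>
      have e : ∀ c : CliffordAlgebra Q₀, par * LinearMap.mulLeft A (ι Q₀ v) * (LinearMap.mulLeft A c * P) =
          LinearMap.mulLeft A (involute (ι Q₀ v * c)) * P := fun c => LinearMap.ext fun y => by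
        obtain ⟨r, hr⟩ := hr y
        simp only [Module.End.mul_apply, LinearMap.mulLeft_apply, par, AlgHom.toLinearMap_apply, hr,
          map_mul involute, AlgHom.commutes, mul_assoc]
      refine ⟨?_, e a ▸ S.mul_mem (hL v) ha.1⟩
      have h1 : LinearMap.mulLeft A (involute (ι Q₀ v * involute a)) * P ∈ S := e (involute a) ▸ S.mul_mem (hL v) ha.2
      have h2 := S.smul_mem h1 (-1 : A)
      convert h2 using 1
      refine LinearMap.ext fun y => ?_
      rw [LinearMap.smul_apply]
      simp only [Module.End.mul_apply, LinearMap.mulLeft_apply, map_mul involute, involute_involute,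
        involute_ι, neg_mul, neg_one_smul, neg_neg]
  have e : g * A' * P = LinearMap.mulLeft A (g (A' 1)) * P := LinearMap.ext fun y => by
    obtain ⟨r, hr⟩ := hr y
    simp only [Module.End.mul_apply, LinearMap.mulLeft_apply, hr, Algebra.algebraMap_eq_smul_one, map_smul,
      mul_smul_comm, mul_one]
  rw [e]
  exact (hT _).1

end twisted

section spin

variable (A : Type u) [CommRing A] (m : ℕ)

/-- The exterior algebra carrying the spin representation. -/
abbrev Spinor : Type u := CliffordAlgebra (0 : QuadraticForm A (Fin m → A))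

/-- Vectors of the split form as endomorphisms of the exterior algebra. -/
noncomputable def spinVec : (Fin (2 * m + 1) → A) →ₗ[A] Module.End A (Spinor A m) :=
  (LinearMap.proj (0 : Fin (2 * m + 1))).smulRight (par : Module.End A (Spinor A m)) +
    ((LinearMap.mul A (Spinor A m)).comp ((ι (0 : QuadraticForm A (Fin m → A))).comp
      (LinearMap.funLeft A A fun l : Fin m => (⟨2 * l.1 + 1, by omega⟩ : Fin (2 * m + 1))))) +
    (CliffordAlgebra.contractLeft (Q := (0 : QuadraticForm A (Fin m → A)))).comp
      (((Pi.basisFun A (Fin m)).toDual).comp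
        (LinearMap.funLeft A A fun l : Fin m => (⟨2 * l.1 + 2, by omega⟩ : Fin (2 * m + 1))))

theorem spinVec_apply (x : Fin (2 * m + 1) → A) : spinVec A m x = x 0 • (par : Module.End A (Spinor A m)) +
    LinearMap.mulLeft A (ι (0 : QuadraticForm A (Fin m → A)) fun l => x ⟨2 * l.1 + 1, by omega⟩) +
    CliffordAlgebra.contractLeft ((Pi.basisFun A (Fin m)).toDual fun l => x ⟨2 * l.1 + 2, by omega⟩) := rfl

theorem toDual_basisFun (a c : Fin m → A) : (Pi.basisFun A (Fin m)).toDual a c = ∑ l, a l * c l := by
  conv_lhs => rw [← (Pi.basisFun A (Fin m)).sum_repr c]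
  rw [map_sum]
  refine Finset.sum_congr rfl fun l _ => ?_
  rw [map_smul, Module.Basis.toDual_apply_left, smul_eq_mul, Pi.basisFun_repr, Pi.basisFun_repr, mul_comm]

theorem spinVec_sq (x : Fin (2 * m + 1) → A) :
    spinVec A m x * spinVec A m x = algebraMap A _ (QuadGrp.splitForm A (2 * m + 1) x) := by
  rw [spinVec_apply, splitForm_odd_apply]
  set a : Fin m → A := fun l => x ⟨2 * l.1 + 1, by omega⟩
  set φ := (Pi.basisFun A (Fin m)).toDual fun l => x ⟨2 * l.1 + 2, by omega⟩
  have hφ : φ a = ∑ l : Fin m, x ⟨2 * l.1 + 1, by omega⟩ * x ⟨2 * l.1 + 2, by omega⟩ := by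
    rw [toDual_basisFun]; exact Finset.sum_congr rfl fun l _ => mul_comm _ _
  refine LinearMap.ext fun y => ?_
  rw [← hφ, Module.algebraMap_end_apply]
  simp only [Module.End.mul_apply, LinearMap.add_apply, LinearMap.smul_apply, LinearMap.mulLeft_apply, par,
    AlgHom.toLinearMap_apply, map_add, map_smul, map_mul, involute_involute, involute_ι, contractLeft_ι_mul,
    contractLeft_contractLeft, mul_add, mul_smul_comm]
  have e1 : involute (CliffordAlgebra.contractLeft φ y) = -CliffordAlgebra.contractLeft φ (involute y) :=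
    involute_contract φ y
  rw [e1, ← mul_assoc, ι_sq_scalar, QuadraticMap.zero_apply, map_zero, zero_mul, neg_mul]
  simp only [smul_add, smul_neg, smul_smul, add_smul]
  abel

/-- The spin representation. -/
noncomputable def spinRep : CliffordAlgebra (QuadGrp.splitForm A (2 * m + 1)) →ₐ[A] Module.End A (Spinor A m) :=
  CliffordAlgebra.lift _ ⟨spinVec A m, spinVec_sq A m⟩

theorem spinRep_ι (x : Fin (2 * m + 1) → A) : spinRep A m (ι _ x) = spinVec A m x := by
  rw [spinRep, lift_ι_apply]

theorem spinRep_even_surjective (f : Module.End A (Spinor A m)) :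
    ∃ y ∈ evenOdd (QuadGrp.splitForm A (2 * m + 1)) 0, spinRep A m y = f := by
  let S := ((spinRep A m).comp (CliffordAlgebra.even (QuadGrp.splitForm A (2 * m + 1))).val).range
  let e0 : Fin (2 * m + 1) → A := Pi.single 0 1
  have hmem : ∀ x : Fin (2 * m + 1) → A, spinVec A m e0 * spinVec A m x ∈ S := fun x =>
    ⟨⟨ι _ e0 * ι _ x, mem_even_iff'.2 (ι_mul_ι_mem_evenOdd_zero _ _ _)⟩, by
      show spinRep A m (ι _ e0 * ι _ x) = _
      rw [map_mul, spinRep_ι, spinRep_ι]⟩
  have he0 : spinVec A m e0 = par := by
    rw [spinVec_apply]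
    have h1 : (fun l : Fin m => e0 ⟨2 * l.1 + 1, by omega⟩) = 0 := funext fun l =>
      Pi.single_eq_of_ne (by simp [Fin.ext_iff]) _
    have h2 : (fun l : Fin m => e0 ⟨2 * l.1 + 2, by omega⟩) = 0 := funext fun l =>
      Pi.single_eq_of_ne (by simp [Fin.ext_iff]) _
    rw [h1, h2, show e0 0 = 1 from Pi.single_eq_same _ _]
    simp
  have hL : ∀ v, par * LinearMap.mulLeft A (ι (0 : QuadraticForm A (Fin m → A)) v) ∈ S := fun v => by
    let x : Fin (2 * m + 1) → A := fun i => if h : i.1 % 2 = 1 then v ⟨i.1 / 2, by omega⟩ else 0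
    have hx : spinVec A m x = LinearMap.mulLeft A (ι (0 : QuadraticForm A (Fin m → A)) v) := by
      rw [spinVec_apply]
      have h1 : (fun l : Fin m => x ⟨2 * l.1 + 1, by omega⟩) = v := funext fun l => by
        simp only [x]
        rw [dif_pos (by omega)]
        exact congrArg v (Fin.ext (by simp only; omega))
      have h2 : (fun l : Fin m => x ⟨2 * l.1 + 2, by omega⟩) = 0 := funext fun l => by
        simp only [x]
        rw [dif_neg (by omega)]
        rfl
      rw [h1, h2, show x 0 = 0 from dif_neg (by simp)]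
      simp
    simpa [he0, hx] using hmem x
  have hd : ∀ d, par * CliffordAlgebra.contractLeft (Q := (0 : QuadraticForm A (Fin m → A))) d ∈ S := fun d => by
    let x : Fin (2 * m + 1) → A := fun i =>
      if h : i.1 % 2 = 0 ∧ i.1 ≠ 0 then d (Pi.basisFun A (Fin m) ⟨i.1 / 2 - 1, by omega⟩) else 0
    have hx : spinVec A m x = CliffordAlgebra.contractLeft d := by
      rw [spinVec_apply]
      have h1 : (fun l : Fin m => x ⟨2 * l.1 + 1, by omega⟩) = 0 := funext fun l => by
        simp only [x]
        rw [dif_neg (by omega)]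
        rfl
      have h2 : (Pi.basisFun A (Fin m)).toDual (fun l : Fin m => x ⟨2 * l.1 + 2, by omega⟩) = d :=
        (Pi.basisFun A (Fin m)).ext fun l => by
          rw [toDual_basisFun, Finset.sum_eq_single l]
          · simp only [x, Pi.basisFun_apply, Pi.single_eq_same, mul_one]
            rw [dif_pos ⟨by omega, by omega⟩]
            exact congrArg d (congrArg (fun i => Pi.single i (1 : A)) (Fin.ext (by simp only; omega)))
          · intro l' _ hl
            simp [Pi.single_eq_of_ne hl]
          · exact fun h => absurd (Finset.mem_univ l) h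
      rw [h1, h2, show x 0 = 0 from dif_neg (by simp)]
      simp
    simpa [he0, hx] using hmem x
  obtain ⟨y, hy⟩ : f ∈ S := (eq_top_twisted (Pi.basisFun A (Fin m)) hL hd) ▸ Algebra.mem_top
  exact ⟨y, mem_even_iff'.1 y.2, hy⟩
where
  mem_even_iff' {A : Type u} [CommRing A] {M : Type u} [AddCommGroup M] [Module A M] {Q : QuadraticForm A M}
      {y : CliffordAlgebra Q} : y ∈ CliffordAlgebra.even Q ↔ y ∈ evenOdd Q 0 := by
    rw [← CliffordAlgebra.even_toSubmodule, Subalgebra.mem_toSubmodule]

end spin

section main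

/-- Mapping a Clifford algebra of odd rank with a unit vector onto matrices: bijective on the even part. -/
theorem even_bijective_of_surjective {A : Type u} [CommRing A] {M : Type v} [AddCommGroup M] [Module A M]
    {Q : QuadraticForm A M} {n : ℕ} (b : Module.Basis (Fin n) A M) {e0 : M} (he0 : Q e0 = 1)
    {E : Type u} [AddCommGroup E] [Module A E] {ι' : Type u} [Fintype ι'] (bE : Module.Basis ι' A E)
    (hcard : 2 * Fintype.card ι' = 2 ^ n) (f : CliffordAlgebra.even Q →ₗ[A] E) (hf : Function.Surjective f) :
    Function.Bijective f := by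
  have hmem : ∀ {y : CliffordAlgebra Q}, y ∈ CliffordAlgebra.even Q ↔ y ∈ evenOdd Q 0 := fun {y} => by
    rw [← CliffordAlgebra.even_toSubmodule, Subalgebra.mem_toSubmodule]
  have h11 : ι Q e0 * ι Q e0 = 1 := by rw [ι_sq_scalar, he0, map_one]
  let Θ : (CliffordAlgebra.even Q × CliffordAlgebra.even Q) →ₗ[A] CliffordAlgebra Q :=
    LinearMap.coprod (CliffordAlgebra.even Q).val.toLinearMap
      ((LinearMap.mulLeft A (ι Q e0)).comp (CliffordAlgebra.even Q).val.toLinearMap)
  have hodd : ∀ a : CliffordAlgebra.even Q, ι Q e0 * (a : CliffordAlgebra Q) ∈ evenOdd Q 1 := fun a =>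
    ι_mul_mem_odd e0 (hmem.1 a.2)
  have hΘ : Function.Bijective Θ := by
    refine ⟨(injective_iff_map_eq_zero _).2 fun p hp => ?_, fun y => ?_⟩
    · obtain ⟨h1, h2⟩ := eq_zero_of_add_eq_zero (hmem.1 p.1.2) (hodd p.2) hp
      have h3 := congrArg (ι Q e0 * ·) h2
      simp only [← mul_assoc, h11, one_mul, mul_zero] at h3
      exact Prod.ext (Subtype.ext h1) (Subtype.ext h3)
    · obtain ⟨y₀, h0, y₁, h1, hy⟩ := exists_even_odd y
      refine ⟨(⟨y₀, hmem.2 h0⟩, ⟨ι Q e0 * y₁, hmem.2 (by
        simpa [show (1 : ZMod 2) + 1 = 0 from rfl] using SetLike.mul_mem_graded (ι_mem_evenOdd_one Q e0) h1)⟩), ?_⟩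
      show y₀ + ι Q e0 * (ι Q e0 * y₁) = y
      rw [← mul_assoc, h11, one_mul, hy]
  let eΘ := LinearEquiv.ofBijective Θ hΘ
  let g : CliffordAlgebra Q →ₗ[A] E × E := (f.prodMap f).comp eΘ.symm.toLinearMap
  have hg : Function.Surjective g := fun p => by
    obtain ⟨a, ha⟩ := hf p.1
    obtain ⟨c, hc⟩ := hf p.2
    exact ⟨eΘ (a, c), by simp [g, ha, hc]⟩
  have hc : Fintype.card (Finset (Fin n)) = Fintype.card (ι' ⊕ ι') := by
    rw [Fintype.card_finset, Fintype.card_fin, Fintype.card_sum, ← hcard, two_mul]
  let e : (E × E) ≃ₗ[A] CliffordAlgebra Q :=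
    (bE.prod bE).equiv (cliffBasis b) (Fintype.equivOfCardEq hc.symm)
  haveI := Module.Finite.of_basis (cliffBasis (Q := Q) b)
  have hi := OrzechProperty.injective_of_surjective_endomorphism (e.toLinearMap.comp g) (e.surjective.comp hg)
  refine ⟨(injective_iff_map_eq_zero _).2 fun a ha => ?_, hf⟩
  have : eΘ (a, 0) = 0 := hi (by simp [g, ha])
  simpa using (LinearEquiv.map_eq_zero_iff eΘ).1 this

theorem exists_evenPart_matrix {R : Type u} [CommRing R] {M : Type u} [AddCommGroup M] [Module R M] {m : ℕ}
    (b : Module.Basis (Fin (2 * m + 1)) R M) {Q : QuadraticForm R M}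
    (hQ : QuadGrp.IsSemiregular b (LinearEquiv.refl R R) Q) :
    ∃ (A : Type u) (_ : CommRing A) (_ : Algebra R A), Module.FaithfullyFlat R A ∧ Algebra.FinitePresentation R A ∧
      Nonempty ((A ⊗[R] CliffordAlgebra.even Q) ≃ₐ[A] Matrix (Fin (2 ^ m)) (Fin (2 ^ m)) A) := by
  haveI := Module.Free.of_basis b
  haveI := Module.Finite.of_basis b
  let bb := Pi.basisFun R (Fin (2 * m + 1))
  let Q₀ : QuadraticForm R (Fin (2 * m + 1) → R) := Q.comp b.equivFun.symm.toLinearMap
  have hco : QuadGrp.coeffs bb (LinearEquiv.refl R R) Q₀ = QuadGrp.coeffs b (LinearEquiv.refl R R) Q := by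
    funext s
    induction s using Sym2.ind with
    | _ i j =>
      have hb : ∀ i, b.equivFun.symm (bb i) = b i := fun i => by
        simp [bb, Module.Basis.equivFun_symm_apply, Pi.single_apply]
      simp only [QuadGrp.coeffs_mk, Q₀, LinearEquiv.refl_apply, QuadraticMap.polar, QuadraticMap.comp_apply,
        LinearEquiv.coe_toLinearMap, map_add, hb]
  have hQ₀ : QuadGrp.IsSemiregular bb (LinearEquiv.refl R R) Q₀ := by
    show IsUnit (QuadGrp.halfDisc _ _ _)
    rw [QuadLib.halfDisc_eq_hd, hco, ← QuadLib.halfDisc_eq_hd]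
    exact hQ
  obtain ⟨A, _, _, hff, hfp, ⟨iso⟩⟩ := exists_split_odd Q₀ hQ₀
  refine ⟨A, inferInstance, inferInstance, hff, hfp, ?_⟩
  let f : (A ⊗[R] M) ≃ₗ[A] (Fin (2 * m + 1) → A) :=
    ((LinearEquiv.baseChange R A M _ b.equivFun).trans iso.toLinearEquiv).trans (bb.baseChange A).equivFun
  have hsplit : (QuadGrp.splitForm A (2 * m + 1)).comp (bb.baseChange A).equivFun.toLinearMap =
      QuadGrp.baseChangeForm A (QuadGrp.splitForm R (2 * m + 1)) := baseChange_ext fun x => by
    rw [QuadraticMap.comp_apply, bcf_tmul, one_mul, one_mul, splitForm_odd_apply, splitForm_odd_apply, map_add, map_mul,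
      map_sum]
    simp only [map_mul, LinearEquiv.coe_toLinearMap, Module.Basis.equivFun_apply, Module.Basis.baseChange_repr_tmul, bb,
      Pi.basisFun_repr, Algebra.smul_def, mul_one]
  have hf : ∀ w, QuadGrp.splitForm A (2 * m + 1) (f w) = QuadGrp.baseChangeForm A Q w := by
    intro w
    have h1 : QuadraticMap.comp (QuadGrp.baseChangeForm A Q₀) (LinearEquiv.baseChange R A M _ b.equivFun).toLinearMap =
        QuadGrp.baseChangeForm A Q := baseChange_ext fun x => by
      rw [QuadraticMap.comp_apply, LinearEquiv.coe_toLinearMap,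
        show LinearEquiv.baseChange R A M _ b.equivFun ((1 : A) ⊗ₜ[R] x) = (1 : A) ⊗ₜ[R] b.equivFun x from rfl,
        bcf_tmul, bcf_tmul]
      simp [Q₀]
    show (QuadGrp.splitForm A (2 * m + 1)).comp (bb.baseChange A).equivFun.toLinearMap
      (iso (LinearEquiv.baseChange R A M _ b.equivFun w)) = _
    rw [hsplit, iso.map_app, ← h1]
    rfl
  let QA := QuadGrp.baseChangeForm A Q
  let F : QA →qᵢ QuadGrp.splitForm A (2 * m + 1) := { f.toLinearMap with map_app' := hf }
  have hfs : ∀ x, QA (f.symm x) = QuadGrp.splitForm A (2 * m + 1) x := fun x => by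
    rw [← hf, f.apply_symm_apply]
  let G : QuadGrp.splitForm A (2 * m + 1) →qᵢ QA := { f.symm.toLinearMap with map_app' := hfs }
  let Φ : CliffordAlgebra QA →ₐ[A] Module.End A (Spinor A m) := (spinRep A m).comp (CliffordAlgebra.map F)
  have hGF : ∀ y, CliffordAlgebra.map F (CliffordAlgebra.map G y) = y := fun y => by
    have : (CliffordAlgebra.map F).comp (CliffordAlgebra.map G) = AlgHom.id A _ :=
      CliffordAlgebra.hom_ext (LinearMap.ext fun x => by
        show CliffordAlgebra.map F (CliffordAlgebra.map G (ι _ x)) = ι _ x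
        rw [map_apply_ι, map_apply_ι]
        exact congrArg _ (f.apply_symm_apply x))
    exact AlgHom.congr_fun this y
  have hsurj : Function.Surjective (Φ.comp (CliffordAlgebra.even QA).val) := fun t => by
    obtain ⟨y, hy, hyt⟩ := spinRep_even_surjective A m t
    refine ⟨⟨CliffordAlgebra.map G y, ?_⟩, ?_⟩
    · rw [← Subalgebra.mem_toSubmodule, CliffordAlgebra.even_toSubmodule]
      clear hyt
      induction y, hy using CliffordAlgebra.even_induction with
      | algebraMap r => rw [AlgHom.commutes]; exact algebraMap_mem_even r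
      | add a c _ _ ha hc => rw [map_add]; exact add_mem ha hc
      | ι_mul_ι_mul m₁ m₂ a _ ha =>
        rw [map_mul, map_mul, map_apply_ι, map_apply_ι]
        simpa using SetLike.mul_mem_graded (ι_mul_ι_mem_evenOdd_zero QA _ _) ha
    · show spinRep A m (CliffordAlgebra.map F (CliffordAlgebra.map G y)) = t
      rw [hGF, hyt]
  let bV := cliffBasis (Q := (0 : QuadraticForm A (Fin m → A))) (Pi.basisFun A (Fin m))
  haveI := Module.Finite.of_basis bV
  let toMat : Module.End A (Spinor A m) ≃ₐ[A] Matrix (Fin (2 ^ m)) (Fin (2 ^ m)) A :=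
    LinearMap.toMatrixAlgEquiv (bV.reindex (Fintype.equivFinOfCardEq (by rw [Fintype.card_finset, Fintype.card_fin])))
  let e0 : A ⊗[R] M := f.symm (Pi.single 0 1)
  have he0 : QA e0 = 1 := by
    rw [← hf, LinearEquiv.apply_symm_apply, splitForm_odd_apply, Pi.single_eq_same, mul_one, Finset.sum_eq_zero, add_zero]
    intro l _
    rw [Pi.single_eq_of_ne (by simp [Fin.ext_iff]), zero_mul]
  have hbij : Function.Bijective ((toMat.toAlgHom.comp Φ).comp (CliffordAlgebra.even QA).val) :=
    even_bijective_of_surjective (b.baseChange A) he0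
      ((Matrix.stdBasis A (Fin (2 ^ m)) (Fin (2 ^ m))).reindex (Equiv.ulift.{u}).symm)
      (by rw [Fintype.card_ulift, Fintype.card_prod, Fintype.card_fin, ← pow_add, ← pow_succ']; congr 1; omega)
      ((toMat.toAlgHom.comp Φ).comp (CliffordAlgebra.even QA).val).toLinearMap (toMat.surjective.comp hsurj)
  -- base change of the even part
  let j : A ⊗[R] CliffordAlgebra.even Q →ₐ[A] CliffordAlgebra.even QA :=
    ((bcTo A Q).comp (Algebra.TensorProduct.map (AlgHom.id A A) (CliffordAlgebra.even Q).val)).codRestrict _ fun y => by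
      rw [← Subalgebra.mem_toSubmodule, CliffordAlgebra.even_toSubmodule]
      induction y using TensorProduct.induction_on with
      | zero => rw [map_zero]; exact zero_mem _
      | add a c ha hc => rw [map_add]; exact add_mem ha hc
      | tmul a x =>
        rw [AlgHom.comp_apply, Algebra.TensorProduct.map_tmul, bcTo_tmul]
        refine Submodule.smul_mem _ _ (bcHom_mem _ Q ?_)
        have := x.2
        rwa [← Subalgebra.mem_toSubmodule, CliffordAlgebra.even_toSubmodule] at this
  have hjinj : Function.Injective j := by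
    let π : CliffordAlgebra Q →ₗ[R] CliffordAlgebra.even Q :=
      (LinearEquiv.ofEq _ _ (CliffordAlgebra.even_toSubmodule Q).symm).toLinearMap.comp
        ((evenOdd Q 0).projectionOnto (evenOdd Q 1) (evenOdd_isCompl (Q := Q)))
    have hπ : π.comp (CliffordAlgebra.even Q).val.toLinearMap = LinearMap.id := LinearMap.ext fun x => Subtype.ext (by
      have hx := x.2
      rw [← Subalgebra.mem_toSubmodule, CliffordAlgebra.even_toSubmodule] at hx
      show ((evenOdd Q 0).projectionOnto (evenOdd Q 1) (evenOdd_isCompl (Q := Q)) (x : CliffordAlgebra Q) : CliffordAlgebra Q) = x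
      exact congrArg Subtype.val (Submodule.projectionOnto_apply_left (evenOdd_isCompl (Q := Q)) ⟨_, hx⟩))
    have hinj : Function.Injective ((CliffordAlgebra.even Q).val.toLinearMap.lTensor A) := fun x y hxy => by
      have h := congrArg (π.lTensor A) hxy
      simpa only [← LinearMap.comp_apply, ← LinearMap.lTensor_comp, hπ, LinearMap.lTensor_id, LinearMap.id_apply] using h
    have hj : ∀ y, ((j y : CliffordAlgebra QA)) = bcTo A Q ((CliffordAlgebra.even Q).val.toLinearMap.lTensor A y) := fun y => by
      induction y using TensorProduct.induction_on with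
      | zero => simp
      | add a c ha hc => rw [map_add, Subalgebra.coe_add, ha, hc, map_add, map_add]
      | tmul a x => rfl
    intro x y hxy
    have h := congrArg Subtype.val hxy
    rw [hj, hj] at h
    exact hinj ((bcEquiv A Q).injective h)
  have hjsurj : Function.Surjective j := by
    rintro ⟨y, hy⟩
    rw [← Subalgebra.mem_toSubmodule, CliffordAlgebra.even_toSubmodule] at hy
    have key : ∀ s : A ⊗[R] CliffordAlgebra Q, ∃ s₀ : A ⊗[R] CliffordAlgebra.even Q,
        bcTo A Q s - (j s₀ : CliffordAlgebra QA) ∈ evenOdd QA 1 := by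
      intro s
      induction s using TensorProduct.induction_on with
      | zero => exact ⟨0, by simp⟩
      | add a c ha hc =>
        obtain ⟨a₀, ha⟩ := ha
        obtain ⟨c₀, hc⟩ := hc
        exact ⟨a₀ + c₀, by rw [map_add, map_add, Subalgebra.coe_add, add_sub_add_comm]; exact add_mem ha hc⟩
      | tmul a x =>
        obtain ⟨x₀, h0, x₁, h1, hx⟩ := exists_even_odd x
        refine ⟨a ⊗ₜ ⟨x₀, by rw [← Subalgebra.mem_toSubmodule, CliffordAlgebra.even_toSubmodule]; exact h0⟩, ?_⟩
        show bcTo A Q (a ⊗ₜ x) - bcTo A Q (a ⊗ₜ x₀) ∈ _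
        rw [← map_sub, ← TensorProduct.tmul_sub, ← hx, add_sub_cancel_left, bcTo_tmul]
        exact Submodule.smul_mem _ _ (bcHom_mem _ Q h1)
    obtain ⟨s, rfl⟩ := (bcEquiv A Q).surjective y
    obtain ⟨s₀, hs⟩ := key s
    refine ⟨s₀, Subtype.ext (sub_eq_zero.1 (eq_zero_of_even_of_odd (sub_mem hy ?_) hs)).symm⟩
    have := (j s₀).2
    rwa [← Subalgebra.mem_toSubmodule, CliffordAlgebra.even_toSubmodule] at this
  exact ⟨(AlgEquiv.ofBijective j ⟨hjinj, hjsurj⟩).trans (AlgEquiv.ofBijective _ hbij)⟩

end main

end Groth.Agent.CliffStr
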