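import Groth.Agent.CliffStr.Basic
import Groth.Agent.QuadLib.SplitSorth
import Mathlib.Tactic.NoncommRing

/-!
# The element `∏ (1 - 2 e_{2i} e_{2i+1})` of a Clifford algebra with hyperbolic pairs
-/

set_option autoImplicit false
universe u v

open CliffordAlgebra

namespace Groth.Agent.CliffStr

variable {C : Type u} [Ring C] {m : ℕ} (e : Fin m × Fin 2 → C)

/-- Hyperbolic relations. -/
structure HypRel : Prop where
  sq : ∀ a, e a * e a = 0
  pair : ∀ i, e (i, 0) * e (i, 1) + e (i, 1) * e (i, 0) = 1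
  orth : ∀ a b, a.1 ≠ b.1 → e a * e b + e b * e a = 0

/-- The factor. -/
def fac (i : Fin m) : C := 1 - 2 * (e (i, 0) * e (i, 1))

variable {e}

theorem HypRel.fac_swap (h : HypRel e) (i : Fin m) (k : Fin 2) : e (i, k) * fac e i = -(fac e i * e (i, k)) := by
  have hp : e (i, 0) * e (i, 1) * e (i, 0) = e (i, 0) := by
    rw [eq_sub_of_add_eq (h.pair i), sub_mul, one_mul, mul_assoc, h.sq, mul_zero, sub_zero]
  have hq : e (i, 1) * (e (i, 0) * e (i, 1)) = e (i, 1) := by
    rw [← mul_assoc, eq_sub_of_add_eq' (h.pair i), sub_mul, one_mul, mul_assoc, h.sq, mul_zero, sub_zero]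
  fin_cases k
  · show e (i, 0) * fac e i = -(fac e i * e (i, 0))
    rw [fac, mul_sub, sub_mul, mul_one, one_mul, mul_assoc 2, hp, two_mul, two_mul, mul_add, ← mul_assoc, h.sq, zero_mul]
    abel
  · show e (i, 1) * fac e i = -(fac e i * e (i, 1))
    rw [fac, mul_sub, sub_mul, mul_one, one_mul, two_mul, mul_add, hq, add_mul, mul_assoc, h.sq, mul_zero]
    abel

theorem HypRel.fac_sq (h : HypRel e) (i : Fin m) : fac e i * fac e i = 1 := by
  have hp : e (i, 0) * e (i, 1) * (e (i, 0) * e (i, 1)) = e (i, 0) * e (i, 1) := by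
    rw [← mul_assoc]
    refine congrArg (· * e (i, 1)) ?_
    rw [eq_sub_of_add_eq (h.pair i), sub_mul, one_mul, mul_assoc, h.sq, mul_zero, sub_zero]
  rw [fac, sub_mul, one_mul, mul_sub, mul_one,
    show 2 * (e (i, 0) * e (i, 1)) * (2 * (e (i, 0) * e (i, 1))) = 4 * (e (i, 0) * e (i, 1) * (e (i, 0) * e (i, 1))) by
      noncomm_ring, hp]
  noncomm_ring

theorem HypRel.fac_comm (h : HypRel e) {a : Fin m × Fin 2} {i : Fin m} (hai : a.1 ≠ i) : e a * fac e i = fac e i * e a := by
  have h0 : e a * e (i, 0) = -(e (i, 0) * e a) := eq_neg_of_add_eq_zero_left (h.orth a (i, 0) hai)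
  have h1 : e a * e (i, 1) = -(e (i, 1) * e a) := eq_neg_of_add_eq_zero_left (h.orth a (i, 1) hai)
  have h2 : e a * (e (i, 0) * e (i, 1)) = e (i, 0) * e (i, 1) * e a := by
    rw [← mul_assoc, h0, neg_mul, mul_assoc, h1, mul_neg, neg_neg, mul_assoc]
  rw [fac, mul_sub, sub_mul, mul_one, one_mul, two_mul, mul_add, h2, add_mul]

theorem HypRel.prod_spec (h : HypRel e) : ∀ l : List (Fin m), l.Nodup →
    (l.map (fac e)).prod * (l.map (fac e)).prod = 1 ∧
      ∀ a, (a.1 ∈ l → e a * (l.map (fac e)).prod = -((l.map (fac e)).prod * e a)) ∧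
        (a.1 ∉ l → e a * (l.map (fac e)).prod = (l.map (fac e)).prod * e a)
  | [], _ => ⟨by simp, fun a => ⟨fun h => absurd h (by simp), fun _ => by simp⟩⟩
  | i :: l, hl => by
    rw [List.nodup_cons] at hl
    obtain ⟨hsq, hc⟩ := h.prod_spec l hl.2
    have hfc : fac e i * (l.map (fac e)).prod = (l.map (fac e)).prod * fac e i := by
      have h2 : e (i, 0) * e (i, 1) * (l.map (fac e)).prod = (l.map (fac e)).prod * (e (i, 0) * e (i, 1)) := by
        rw [mul_assoc, (hc (i, 1)).2 hl.1, ← mul_assoc, (hc (i, 0)).2 hl.1, mul_assoc]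
      rw [fac, sub_mul, mul_sub, one_mul, mul_one, two_mul, add_mul, h2, mul_add]
    simp only [List.map_cons, List.prod_cons]
    refine ⟨?_, fun a => ⟨fun ha => ?_, fun ha => ?_⟩⟩
    · rw [mul_assoc, ← mul_assoc _ (fac e i), ← hfc, mul_assoc, hsq, mul_one, h.fac_sq]
    · obtain ⟨j, k⟩ := a
      rcases List.mem_cons.1 ha with h' | h'
      · obtain rfl : j = i := h'
        rw [← mul_assoc, h.fac_swap, neg_mul, mul_assoc, (hc _).2 hl.1, mul_assoc]
      · rw [← mul_assoc, h.fac_comm (fun e' : j = i => hl.1 (e' ▸ h')), mul_assoc, (hc _).1 h', mul_neg, mul_assoc]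
    · rw [List.mem_cons, not_or] at ha
      rw [← mul_assoc, h.fac_comm ha.1, mul_assoc, (hc a).2 ha.2, mul_assoc]

theorem splitForm_two_mul_apply (R : Type v) [CommRing R] (m : ℕ) (x : Fin (m * 2) → R) :
    QuadGrp.splitForm R (m * 2) x = ∑ i : Fin m, x (finProdFinEquiv (i, 0)) * x (finProdFinEquiv (i, 1)) := by
  have h : m * 2 % 2 = 0 := by omega
  rw [QuadGrp.splitForm, dif_neg (by omega), add_zero, QuadraticMap.sum_apply]
  refine Fintype.sum_equiv (finCongr (by omega)) _ _ fun i => ?_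
  rw [QuadraticMap.linMulLin_apply, LinearMap.proj_apply, LinearMap.proj_apply]
  exact congrArg₂ (· * ·) (congrArg x (Fin.ext (by simp [finProdFinEquiv, h]))) (congrArg x (Fin.ext (by
    simp [finProdFinEquiv, h, add_comm])))

theorem hypRel_split (R : Type v) [CommRing R] (m : ℕ) :
    HypRel fun a : Fin m × Fin 2 => ι (QuadGrp.splitForm R (m * 2)) (Pi.single (finProdFinEquiv a) 1) := by
  have hval : ∀ a : Fin m × Fin 2, QuadGrp.splitForm R (m * 2) (Pi.single (finProdFinEquiv a) 1) = 0 := fun a => by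
    rw [splitForm_two_mul_apply]
    refine Finset.sum_eq_zero fun i _ => ?_
    by_cases h : (i, (0 : Fin 2)) = a
    · subst h
      rw [Pi.single_eq_of_ne (fun e => by simpa using finProdFinEquiv.injective e : finProdFinEquiv (i, (1 : Fin 2)) ≠ _),
        mul_zero]
    · rw [Pi.single_eq_of_ne (fun e => h (finProdFinEquiv.injective e)), zero_mul]
  have hpol : ∀ a b : Fin m × Fin 2, a ≠ b →
      QuadraticMap.polar (QuadGrp.splitForm R (m * 2)) (Pi.single (finProdFinEquiv a) 1) (Pi.single (finProdFinEquiv b) 1) =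
        if a.1 = b.1 then 1 else 0 := fun a b hab => by
    rw [QuadraticMap.polar, hval, hval, sub_zero, sub_zero, splitForm_two_mul_apply,
      Finset.sum_eq_single a.1 (fun i _ hi => ?_) (fun h => absurd (Finset.mem_univ _) h)]
    · obtain ⟨i, k⟩ := a
      obtain ⟨j, l⟩ := b
      simp only [Pi.add_apply, Pi.single_apply, finProdFinEquiv.injective.eq_iff, Prod.mk.injEq] at hab ⊢
      fin_cases k <;> fin_cases l <;> by_cases hij : i = j <;> simp_all
    · obtain ⟨i', k⟩ := a
      obtain ⟨j, l⟩ := b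
      simp only [Pi.add_apply, Pi.single_apply, finProdFinEquiv.injective.eq_iff, Prod.mk.injEq] at hab ⊢
      fin_cases k <;> fin_cases l <;> by_cases hij : i = j <;> simp_all
  exact
  { sq := fun a => by rw [ι_sq_scalar, hval, map_zero]
    pair := fun i => by
      rw [ι_mul_ι_add_swap, hpol _ _ (fun e => by simpa using congrArg Prod.snd e), if_pos rfl, map_one]
    orth := fun a b hab => by
      rw [ι_mul_ι_add_swap, hpol _ _ (fun e => hab (congrArg Prod.fst e)), if_neg hab, map_zero] }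

end Groth.Agent.CliffStr
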