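import Mathlib.Algebra.Azumaya.Defs
import Mathlib.LinearAlgebra.ExteriorAlgebra.Basis
import Mathlib.LinearAlgebra.Matrix.ToLin
import Mathlib.RingTheory.LocalRing.MaximalIdeal.Basic
import Mathlib.LinearAlgebra.FreeModule.Finite.Matrix
import Groth.Agent.CliffStr.Basic

/-!
# Endomorphisms of Clifford algebras

`cliffBasis`: a Clifford algebra of a free module of rank `n` is free of rank `2 ^ n`.
`eq_top_of_mulLeft_contract`: left multiplications and coordinate contractions generate all endomorphisms.
`exists_unit_conj`: Skolem–Noether over a local ring when sandwiches generate all endomorphisms.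
`surjective_of_commutant`: an algebra with that property splits off its commutant.
-/

set_option autoImplicit false
universe u v w

open CliffordAlgebra TensorProduct

namespace Groth.Agent.CliffStr

variable {R : Type u} [CommRing R] {M : Type v} [AddCommGroup M] [Module R M] {Q : QuadraticForm R M}
  {n : ℕ}

/-- A basis of a Clifford algebra. -/
noncomputable def cliffBasis (b : Module.Basis (Fin n) R M) :
    Module.Basis (Finset (Fin n)) R (CliffordAlgebra Q) :=
  haveI := Module.Free.of_basis b
  (b.ExteriorAlgebra).map (changeFormEquiv (exists_toExterior Q).choose_spec).symm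

section generation

variable (b : Module.Basis (Fin n) R M) (S : Subalgebra R (Module.End R (CliffordAlgebra Q)))

/-- The projection killed by the contractions in a list. -/
noncomputable def proj (Q : QuadraticForm R M) (b : Module.Basis (Fin n) R M) :
    List (Fin n) → Module.End R (CliffordAlgebra Q)
  | [] => 1
  | i :: l => contractLeft (b.coord i) * LinearMap.mulLeft R (ι Q (b i)) * proj Q b l

theorem contract_comm_proj (i : Fin n) : ∀ l : List (Fin n), i ∉ l → ∀ y,
    contractLeft (b.coord i) (proj Q b l y) = proj Q b l (contractLeft (b.coord i) y)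
  | [], _, _ => rfl
  | j :: l, hi, y => by
    simp only [proj, Module.End.mul_apply, LinearMap.mulLeft_apply]
    rw [List.mem_cons, not_or] at hi
    rw [contractLeft_comm, contractLeft_ι_mul, show b.coord i (b j) = 0 by simp [Finsupp.single_eq_of_ne hi.1],
      zero_smul, zero_sub, map_neg, neg_neg, contract_comm_proj i l hi.2]

theorem proj_decomp (i : Fin n) (l : List (Fin n)) (hi : i ∉ l) (y : CliffordAlgebra Q) :
    proj Q b l y = proj Q b (i :: l) y + ι Q (b i) * proj Q b (i :: l) (contractLeft (b.coord i) y) := by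
  have h1 : b.coord i (b i) = 1 := by simp
  simp only [proj, Module.End.mul_apply, LinearMap.mulLeft_apply, contractLeft_ι_mul, h1, one_smul]
  rw [← contract_comm_proj b i l hi, contractLeft_contractLeft, mul_zero, sub_zero, sub_add_cancel]

theorem contract_proj_eq_zero (i : Fin n) : ∀ l : List (Fin n), l.Nodup → i ∈ l → ∀ y,
    contractLeft (b.coord i) (proj Q b l y) = 0
  | j :: l, hl, hi, y => by
    simp only [proj, Module.End.mul_apply, LinearMap.mulLeft_apply]
    rw [List.nodup_cons] at hl
    rcases List.mem_cons.1 hi with rfl | hi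
    · rw [contractLeft_contractLeft]
    · have hij : i ≠ j := fun e => hl.1 (e ▸ hi)
      rw [contractLeft_comm, contractLeft_ι_mul, show b.coord i (b j) = 0 by simp [Finsupp.single_eq_of_ne hij],
        zero_smul, zero_sub, contract_proj_eq_zero i l hl.2 hi, mul_zero, neg_zero, map_zero, neg_zero]

variable {b S} (hL : ∀ a : CliffordAlgebra Q, LinearMap.mulLeft R a ∈ S) (hd : ∀ i, contractLeft (b.coord i) ∈ S)

include hL hd in
theorem proj_mem : ∀ l : List (Fin n), proj Q b l ∈ S
  | [] => S.one_mem
  | i :: l => S.mul_mem (S.mul_mem (hd i) (hL _)) (proj_mem l)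

include hL hd in
/-- Left multiplications and coordinate contractions generate all endomorphisms. -/
theorem eq_top_of_mulLeft_contract : S = ⊤ := by
  refine eq_top_iff.2 fun g _ => ?_
  have key : ∀ l : List (Fin n), l.Nodup →
      (∀ g A B : Module.End R (CliffordAlgebra Q), A ∈ S → B ∈ S → g * A * proj Q b l * B ∈ S) → g ∈ S := by
    intro l
    induction l with
    | nil => exact fun _ H => by simpa [proj] using H g 1 1 S.one_mem S.one_mem
    | cons i l ih =>
      intro hl H
      rw [List.nodup_cons] at hl
      refine ih hl.2 fun g A B hA hB => ?_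
      have e : proj Q b l = proj Q b (i :: l) +
          LinearMap.mulLeft R (ι Q (b i)) * proj Q b (i :: l) * contractLeft (b.coord i) :=
        LinearMap.ext fun y => by
          rw [LinearMap.add_apply, Module.End.mul_apply, Module.End.mul_apply, LinearMap.mulLeft_apply]
          exact proj_decomp b i l hl.1 y
      rw [e, mul_add, add_mul]
      refine S.add_mem (H g A B hA hB) ?_
      have := H g (A * LinearMap.mulLeft R (ι Q (b i))) (contractLeft (b.coord i) * B)
        (S.mul_mem hA (hL _)) (S.mul_mem (hd i) hB)
      simpa only [mul_assoc] using this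
  refine key (List.finRange n) (List.nodup_finRange n) fun g A B hA hB => S.mul_mem ?_ hB
  have e : g * A * proj Q b (List.finRange n) =
      LinearMap.mulLeft R (g (A 1)) * proj Q b (List.finRange n) := LinearMap.ext fun y => by
    obtain ⟨r, hr⟩ := contract_zero_mem_range b (y := proj Q b (List.finRange n) y) fun i =>
      contract_proj_eq_zero b i _ (List.nodup_finRange n) (List.mem_finRange i) y
    simp only [Module.End.mul_apply, LinearMap.mulLeft_apply, hr, Algebra.algebraMap_eq_smul_one, map_smul,
      mul_smul_comm, mul_one]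
  rw [e]
  exact S.mul_mem (hL _) (proj_mem hL hd _)

end generation

section sandwich

variable {C : Type v} [Ring C] [Algebra R C]

/-- Sandwiches fill all endomorphisms. -/
def Fills (R : Type u) [CommRing R] (C : Type v) [Ring C] [Algebra R C] : Prop :=
  Function.Surjective (AlgHom.mulLeftRight R C)

theorem Fills.bijective [Module.Free R C] [Module.Finite R C] (hC : Fills R C) :
    Function.Bijective (AlgHom.mulLeftRight R C) := by
  haveI : Module.Finite R Cᵐᵒᵖ := Module.Finite.equiv (MulOpposite.opLinearEquiv R : C ≃ₗ[R] Cᵐᵒᵖ)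
  haveI : Module.Free R Cᵐᵒᵖ := Module.Free.of_equiv (MulOpposite.opLinearEquiv R : C ≃ₗ[R] Cᵐᵒᵖ)
  let bC := Module.Free.chooseBasis R C
  let e : C ⊗[R] Cᵐᵒᵖ ≃ₗ[R] Module.End R C :=
    (bC.tensorProduct (bC.map (MulOpposite.opLinearEquiv R))).repr.trans
      ((bC.linearMap bC).repr.symm)
  have hs : Function.Surjective ((AlgHom.mulLeftRight R C).toLinearMap.comp e.symm.toLinearMap) :=
    hC.comp e.symm.surjective
  have hi := OrzechProperty.injective_of_surjective_endomorphism _ hs
  refine ⟨fun x y hxy => e.injective (hi ?_), hC⟩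
  simpa using hxy

variable [Module.Free R C] [Module.Finite R C] (hC : Fills R C)

/-- The endomorphisms of `C` as sandwiches. -/
noncomputable def Fills.equiv : (C ⊗[R] Cᵐᵒᵖ) ≃ₐ[R] Module.End R C :=
  AlgEquiv.ofBijective (AlgHom.mulLeftRight R C) hC.bijective

theorem Fills.equiv_symm_mulLeft (a : C) : hC.equiv.symm (LinearMap.mulLeft R a) = a ⊗ₜ 1 := by
  rw [AlgEquiv.symm_apply_eq]
  refine LinearMap.ext fun x => ?_
  show a * x = AlgHom.mulLeftRight R C (a ⊗ₜ 1) x
  simp

theorem Fills.equiv_symm_mulRight (a : C) :
    hC.equiv.symm (LinearMap.mulRight R a) = 1 ⊗ₜ MulOpposite.op a := by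
  rw [AlgEquiv.symm_apply_eq]
  refine LinearMap.ext fun x => ?_
  show x * a = AlgHom.mulLeftRight R C (1 ⊗ₜ MulOpposite.op a) x
  simp

/-- Transport endomorphisms of `C` along an algebra map. -/
noncomputable def Fills.push {D : Type w} [Ring D] [Algebra R D] (f : C →ₐ[R] D) :
    Module.End R C →ₐ[R] Module.End R D :=
  ((AlgHom.mulLeftRight R D).comp (Algebra.TensorProduct.map f (AlgHom.op f))).comp
    hC.equiv.symm.toAlgHom

theorem Fills.push_mulLeft {D : Type w} [Ring D] [Algebra R D] (f : C →ₐ[R] D) (a : C) (y : D) :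
    hC.push f (LinearMap.mulLeft R a) y = f a * y := by
  show AlgHom.mulLeftRight R D (Algebra.TensorProduct.map f (AlgHom.op f) (hC.equiv.symm (LinearMap.mulLeft R a))) y = _
  rw [hC.equiv_symm_mulLeft, Algebra.TensorProduct.map_tmul]
  simp

theorem Fills.push_mulRight {D : Type w} [Ring D] [Algebra R D] (f : C →ₐ[R] D) (a : C) (y : D) :
    hC.push f (LinearMap.mulRight R a) y = y * f a := by
  show AlgHom.mulLeftRight R D (Algebra.TensorProduct.map f (AlgHom.op f) (hC.equiv.symm (LinearMap.mulRight R a))) y = _
  rw [hC.equiv_symm_mulRight, Algebra.TensorProduct.map_tmul]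
  simp

include hC in
/-- An algebra map with trivial commutant is surjective. -/
theorem surjective_of_commutant {D : Type w} [Ring D] [Algebra R D] (f : C →ₐ[R] D)
    (hf : ∀ y : D, (∀ a, f a * y = y * f a) → ∃ r : R, y = algebraMap R D r) : Function.Surjective f := by
  classical
  let bC := Module.Free.chooseBasis R C
  let E : Module.Free.ChooseBasisIndex R C → Module.End R C := fun k => (bC.coord k).smulRight (1 : C)
  have h1 : (1 : Module.End R C) = ∑ k, LinearMap.mulLeft R (bC k) * E k := LinearMap.ext fun x => by
    simp only [Module.End.one_apply, LinearMap.sum_apply, Module.End.mul_apply, E, LinearMap.smulRight_apply,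
      LinearMap.mulLeft_apply, mul_smul_comm, mul_one, Module.Basis.coord_apply]
    exact (bC.sum_repr x).symm
  have hE : ∀ a k, LinearMap.mulLeft R a * E k = LinearMap.mulRight R a * E k := fun a k =>
    LinearMap.ext fun x => by simp [E]
  intro y
  have hy := LinearMap.congr_fun (congrArg (hC.push f) h1) y
  rw [map_one, Module.End.one_apply, map_sum, LinearMap.sum_apply] at hy
  choose r hr using fun k => hf (hC.push f (E k) y) fun a => by
    have := LinearMap.congr_fun (congrArg (hC.push f) (hE a k)) y
    simpa only [map_mul, Module.End.mul_apply, hC.push_mulLeft, hC.push_mulRight] using this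
  refine ⟨∑ k, r k • bC k, ?_⟩
  conv_rhs => rw [hy]
  rw [map_sum]
  refine Finset.sum_congr rfl fun k _ => ?_
  rw [map_mul, Module.End.mul_apply, hC.push_mulLeft, hr, map_smul, ← Algebra.commutes, ← Algebra.smul_def]

include hC in
/-- An algebra map out of such an algebra is injective when scalars map injectively. -/
theorem injective_of_scalar {D : Type w} [Ring D] [Algebra R D] (f : C →ₐ[R] D)
    (hf : ∀ r : R, algebraMap R D r = 0 → r = 0) : Function.Injective f := by
  classical
  refine (injective_iff_map_eq_zero f).2 fun x hx => ?_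
  let bC := Module.Free.chooseBasis R C
  refine bC.repr.injective (Finsupp.ext fun k => ?_)
  rw [map_zero, Finsupp.zero_apply]
  refine hf _ ?_
  obtain ⟨t, ht⟩ := hC ((bC.coord k).smulRight (1 : C))
  have hker : ∀ s : C ⊗[R] Cᵐᵒᵖ, f (AlgHom.mulLeftRight R C s x) = 0 := fun s => by
    induction s using TensorProduct.induction_on with
    | zero => simp
    | add a b ha hb => rw [map_add, LinearMap.add_apply, map_add, ha, hb, add_zero]
    | tmul a b => simp [hx]
  have := hker t
  rw [ht] at this
  simpa [Algebra.algebraMap_eq_smul_one] using this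

include hC in
/-- Skolem–Noether over a local ring. -/
theorem exists_unit_conj [IsLocalRing R] [Nontrivial C] (φ : C →ₐ[R] C) :
    ∃ u : Cˣ, ∀ a, φ a * u = u * a := by
  classical
  let bC := Module.Free.chooseBasis R C
  obtain ⟨k₀⟩ : Nonempty (Module.Free.ChooseBasisIndex R C) := bC.index_nonempty
  -- twist only the left factor
  let ρ : Module.End R C →ₐ[R] Module.End R C :=
    ((AlgHom.mulLeftRight R C).comp (Algebra.TensorProduct.map φ (AlgHom.id R Cᵐᵒᵖ))).comp
      hC.equiv.symm.toAlgHom
  have hρL : ∀ a y, ρ (LinearMap.mulLeft R a) y = φ a * y := fun a y => by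
    show AlgHom.mulLeftRight R C (Algebra.TensorProduct.map φ (AlgHom.id R Cᵐᵒᵖ)
      (hC.equiv.symm (LinearMap.mulLeft R a))) y = _
    rw [hC.equiv_symm_mulLeft, Algebra.TensorProduct.map_tmul]
    simp
  have hρR : ∀ a y, ρ (LinearMap.mulRight R a) y = y * a := fun a y => by
    show AlgHom.mulLeftRight R C (Algebra.TensorProduct.map φ (AlgHom.id R Cᵐᵒᵖ)
      (hC.equiv.symm (LinearMap.mulRight R a))) y = _
    rw [hC.equiv_symm_mulRight, Algebra.TensorProduct.map_tmul]
    simp
  let E := fun i j => ((bC.coord j).smulRight (bC i) : Module.End R C)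
  have hEE : ∀ i j k l, E i j * E k l = if j = k then E i l else 0 := fun i j k l =>
    LinearMap.ext fun x => by
      rcases eq_or_ne j k with rfl | h <;> simp [E, *]
  have h1 : (1 : Module.End R C) = ∑ i, E i i := LinearMap.ext fun x => by
    simp [E, bC.sum_repr]
  -- a value of `ρ (E k₀ k₀)` with a unit coordinate
  obtain ⟨v₀, μ, hμ⟩ : ∃ (v₀ : C) (μ : Module.Dual R C), μ (ρ (E k₀ k₀) v₀) = 1 := by
    by_contra hne
    push Not at hne
    have hmem : ∀ (μ : Module.Dual R C) v, μ (ρ (E k₀ k₀) v) ∈ IsLocalRing.maximalIdeal R := fun μ v => by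
      by_contra h
      rw [IsLocalRing.mem_maximalIdeal, mem_nonunits_iff, not_not] at h
      obtain ⟨c, hc⟩ := h.exists_left_inv
      exact hne v (c • μ) (by rw [LinearMap.smul_apply, smul_eq_mul, hc])
    have h := congrArg (fun f => bC.coord k₀ (f (bC k₀))) (congrArg ρ h1)
    simp only [map_one, Module.End.one_apply, map_sum, LinearMap.sum_apply] at h
    refine (IsLocalRing.maximalIdeal.isMaximal R).ne_top ((Ideal.eq_top_iff_one _).2 ?_)
    rw [show (1 : R) = bC.coord k₀ (bC k₀) by simp, h]
    refine sum_mem fun i _ => ?_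
    rw [show E i i = E i k₀ * E k₀ k₀ * E k₀ i by simp [hEE], map_mul, map_mul]
    exact hmem ((bC.coord k₀).comp (ρ (E i k₀))) _
  set v := ρ (E k₀ k₀) v₀ with hv
  let Tf : C →ₗ[R] Module.End R C :=
    { toFun := fun y => (bC.coord k₀).smulRight y
      map_add' := fun a b => LinearMap.ext fun x => by simp
      map_smul' := fun r a => LinearMap.ext fun x => by simp [smul_comm r] }
  let T : C →ₗ[R] C := ((ρ.toLinearMap.comp Tf).flip v)
  have hT : ∀ f : Module.End R C, ∀ y, T (f y) = ρ f (T y) := fun f y => by
    show ρ (Tf (f y)) v = ρ f (ρ (Tf y) v)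
    refine LinearMap.congr_fun (show ρ (Tf (f y)) = ρ f * ρ (Tf y) from ?_) v
    rw [← map_mul, show f * Tf y = Tf (f y) from LinearMap.ext fun x => by simp [Tf]]
  have hTb : ∀ j, T (bC j) = ρ (E j k₀) v := fun j => rfl
  let S : C →ₗ[R] C := ∑ j, ((μ.comp (ρ (E k₀ j))).smulRight (bC j))
  have hST : S.comp T = LinearMap.id := bC.ext fun k => by
    simp only [LinearMap.comp_apply, LinearMap.id_apply, S, LinearMap.sum_apply, LinearMap.smulRight_apply, hTb]
    rw [Finset.sum_eq_single k]
    · rw [← Module.End.mul_apply, ← map_mul, hEE, if_pos rfl, hv, ← Module.End.mul_apply, ← map_mul, hEE,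
        if_pos rfl, hμ, one_smul]
    · intro j _ hj
      rw [← Module.End.mul_apply, ← map_mul, hEE, if_neg hj, map_zero, LinearMap.zero_apply, map_zero, zero_smul]
    · exact fun h => absurd (Finset.mem_univ k) h
  have hS : Function.Surjective S := fun y => ⟨T y, LinearMap.congr_fun hST y⟩
  have hSi := OrzechProperty.injective_of_surjective_endomorphism S hS
  have hTs : Function.Surjective T := fun y => ⟨S y, hSi (LinearMap.congr_fun hST (S y))⟩
  let u := T 1
  have hl : ∀ a, T a = φ a * u := fun a => by
    have := hT (LinearMap.mulLeft R a) 1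
    rwa [LinearMap.mulLeft_apply, mul_one, hρL] at this
  have hr : ∀ a, T a = u * a := fun a => by
    have := hT (LinearMap.mulRight R a) 1
    rwa [LinearMap.mulRight_apply, one_mul, hρR] at this
  obtain ⟨w, hw⟩ := hTs 1
  rw [hr] at hw
  have hwu : w * u = 1 := by
    have hTi : Function.Injective T := fun a b h => by
      rw [← show S (T a) = a from LinearMap.congr_fun hST a, ← show S (T b) = b from LinearMap.congr_fun hST b, h]
    refine hTi ?_
    rw [hr, hr, ← mul_assoc, hw, one_mul, mul_one]
  exact ⟨⟨u, w, hw, hwu⟩, fun a => by rw [← hl, hr]⟩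

end sandwich

end Groth.Agent.CliffStr
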